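import Mathlib

set_option autoImplicit false

namespace Cfsg.Agent.H11.A4GL2

open Matrix

/-! ### decide lemmas over `F₂` and in `A₄` -/

abbrev M2 := Matrix (Fin 2) (Fin 2) (ZMod 2)

def Cb : M2 := !![0, -1; 1, -1]

theorem d1 : ∀ M : M2, M * M * M = 1 → M ≠ 1 →
    M * M + M + 1 = 0 ∧ (M - 1) * M = 1 ∧ M 1 0 = 1 := by decide

theorem d3 : ∀ T : M2, T * T = 1 →
    T * (Cb * T * (Cb * Cb)) = (Cb * T * (Cb * Cb)) * T → T = 1 := by decide

theorem d4 : ∀ A : M2, A * A + A = 0 →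
    (Cb * Cb) * A * Cb - Cb * A * (Cb * Cb) - A = 0 → A = 0 := by decide

theorem x0_mem : (Equiv.swap (0 : Fin 4) 1 * Equiv.swap 1 2) ∈ alternatingGroup (Fin 4) :=
  Equiv.Perm.mem_alternatingGroup.mpr (by decide)

theorem a4_struct : ∃ x : alternatingGroup (Fin 4), x * x * x = 1 ∧ x ≠ 1 ∧
    ∀ h : alternatingGroup (Fin 4), ∃ v : alternatingGroup (Fin 4), ∃ i : Fin 3,
      h = v * x ^ (i : ℕ) ∧ v * v = 1 ∧ v * (x * v * (x * x)) = (x * v * (x * x)) * v ∧
      x * x * v * x = v * (x * v * (x * x)) := by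
  refine ⟨⟨Equiv.swap 0 1 * Equiv.swap 1 2, x0_mem⟩, by decide, by decide, ?_⟩
  decide

theorem card_a4 : Nat.card (alternatingGroup (Fin 4)) = 12 := by
  rw [Nat.card_eq_fintype_card]; decide

/-! ### arithmetic in `ℤ/2ᵏ` -/

variable (k : ℕ)

/-- reduction mod 2 -/
noncomputable def red (hk : k ≠ 0) : ZMod (2 ^ k) →+* ZMod 2 :=
  ZMod.castHom (dvd_pow_self 2 hk) (ZMod 2)

theorem red_nat (hk : k ≠ 0) (n : ℕ) : red k hk (n : ZMod (2 ^ k)) = (n : ZMod 2) :=
  map_natCast _ n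

theorem f1 (hk : k ≠ 0) (m : ZMod (2 ^ k)) (h : red k hk m = 0) : ∃ m', m = 2 * m' := by
  obtain ⟨n, rfl⟩ := ZMod.natCast_zmod_surjective m
  rw [red_nat, ZMod.natCast_eq_zero_iff] at h
  obtain ⟨c, rfl⟩ := h
  exact ⟨(c : ZMod (2 ^ k)), by push_cast; ring⟩

theorem f2 (hk : 2 ≤ k) (m : ZMod (2 ^ k)) (h : 2 * m = 0) : red k (by omega) m = 0 := by
  obtain ⟨n, rfl⟩ := ZMod.natCast_zmod_surjective m
  rw [red_nat, ZMod.natCast_eq_zero_iff]
  have h' : ((2 * n : ℕ) : ZMod (2 ^ k)) = 0 := by push_cast; exact h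
  rw [ZMod.natCast_eq_zero_iff] at h'
  obtain ⟨j, rfl⟩ : ∃ j, k = j + 2 := ⟨k - 2, by omega⟩
  have : 2 * 2 ^ (j + 1) ∣ 2 * n := by
    have e : 2 * 2 ^ (j + 1) = 2 ^ (j + 2) := by ring
    rw [e]; exact h'
  have h2 : 2 ^ (j + 1) ∣ n := (Nat.mul_dvd_mul_iff_left (by norm_num)).mp this
  exact dvd_trans (dvd_pow_self 2 (by omega)) h2

theorem f3 (hk : 3 ≤ k) (m : ZMod (2 ^ k)) (h : 4 * m = 0) : red k (by omega) m = 0 := by
  obtain ⟨n, rfl⟩ := ZMod.natCast_zmod_surjective m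
  rw [red_nat, ZMod.natCast_eq_zero_iff]
  have h' : ((4 * n : ℕ) : ZMod (2 ^ k)) = 0 := by push_cast; exact h
  rw [ZMod.natCast_eq_zero_iff] at h'
  obtain ⟨j, rfl⟩ : ∃ j, k = j + 3 := ⟨k - 3, by omega⟩
  have : 4 * 2 ^ (j + 1) ∣ 4 * n := by
    have e : 4 * 2 ^ (j + 1) = 2 ^ (j + 3) := by ring
    rw [e]; exact h'
  have h2 : 2 ^ (j + 1) ∣ n := (Nat.mul_dvd_mul_iff_left (by norm_num)).mp this
  exact dvd_trans (dvd_pow_self 2 (by omega)) h2

theorem f4 (hk : k ≠ 0) (u : ZMod (2 ^ k)) (h : red k hk u = 1) : IsUnit u := by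
  obtain ⟨n, rfl⟩ := ZMod.natCast_zmod_surjective u
  rw [red_nat] at h
  rw [ZMod.isUnit_iff_coprime]
  apply Nat.Coprime.pow_right
  rw [Nat.coprime_two_right, ← Nat.not_even_iff_odd, ← ZMod.natCast_eq_zero_iff_even, h]
  decide

/-- the element `2^(k-1)` -/
noncomputable def hlf : ZMod (2 ^ k) := ((2 ^ (k - 1) : ℕ) : ZMod (2 ^ k))

theorem f6 (hk : k ≠ 0) (m : ZMod (2 ^ k)) (h : 2 * m = 0) : m = 0 ∨ m = hlf k := by
  obtain ⟨n, rfl⟩ := ZMod.natCast_zmod_surjective m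
  have h' : ((2 * n : ℕ) : ZMod (2 ^ k)) = 0 := by push_cast; exact h
  rw [ZMod.natCast_eq_zero_iff] at h'
  obtain ⟨j, rfl⟩ : ∃ j, k = j + 1 := ⟨k - 1, by omega⟩
  have : 2 * 2 ^ j ∣ 2 * n := by
    have e : 2 * 2 ^ j = 2 ^ (j + 1) := by ring
    rw [e]; exact h'
  have h2 : 2 ^ j ∣ n := (Nat.mul_dvd_mul_iff_left (by norm_num)).mp this
  obtain ⟨c, rfl⟩ := h2
  rcases Nat.even_or_odd c with ⟨d, rfl⟩ | ⟨d, rfl⟩
  · left
    rw [ZMod.natCast_eq_zero_iff]
    exact ⟨d, by ring⟩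
  · right
    unfold hlf
    have e : 2 ^ j * (2 * d + 1) = 2 ^ (j + 1) * d + 2 ^ (j + 1 - 1) := by
      simp only [Nat.add_sub_cancel]; ring
    rw [e, Nat.cast_add, Nat.cast_mul, ZMod.natCast_self, zero_mul, zero_add]

/-! ### matrices over `ℤ/2ᵏ` -/

/-- reduction mod 2 on matrices -/
noncomputable def redM (hk : k ≠ 0) :
    Matrix (Fin 2) (Fin 2) (ZMod (2 ^ k)) →+* M2 := (red k hk).mapMatrix

theorem redM_apply (hk : k ≠ 0) (N : Matrix (Fin 2) (Fin 2) (ZMod (2 ^ k))) (i j : Fin 2) :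
    redM k hk N i j = red k hk (N i j) := rfl

theorem m1 (hk : k ≠ 0) (N : Matrix (Fin 2) (Fin 2) (ZMod (2 ^ k))) (h : redM k hk N = 0) :
    ∃ A : Matrix (Fin 2) (Fin 2) (ZMod (2 ^ k)), N = 2 • A := by
  have : ∀ i j, ∃ m', N i j = 2 * m' := fun i j => f1 k hk (N i j) (by
    rw [← redM_apply, h]; rfl)
  choose A hA using this
  refine ⟨Matrix.of A, ?_⟩
  ext i j
  rw [Matrix.smul_apply, Matrix.of_apply, hA i j, nsmul_eq_mul]; norm_num

theorem m2 (hk : 2 ≤ k) (Z : Matrix (Fin 2) (Fin 2) (ZMod (2 ^ k))) (h : 2 • Z = 0) :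
    redM k (by omega) Z = 0 := by
  ext i j
  rw [redM_apply]
  have : 2 * Z i j = 0 := by
    have := congrFun (congrFun h i) j
    rw [Matrix.smul_apply, nsmul_eq_mul] at this
    simpa using this
  rw [f2 k hk _ this]; rfl

theorem m3 (hk : 3 ≤ k) (Z : Matrix (Fin 2) (Fin 2) (ZMod (2 ^ k))) (h : 4 • Z = 0) :
    redM k (by omega) Z = 0 := by
  ext i j
  rw [redM_apply]
  have : 4 * Z i j = 0 := by
    have := congrFun (congrFun h i) j
    rw [Matrix.smul_apply, nsmul_eq_mul] at this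
    simpa using this
  rw [f3 k hk _ this]; rfl

theorem m4 (hk : k ≠ 0) (U : Matrix (Fin 2) (Fin 2) (ZMod (2 ^ k))) (h : redM k hk U = 1) :
    IsUnit U := by
  rw [Matrix.isUnit_iff_isUnit_det]
  apply f4 k hk
  have := RingHom.map_det (red k hk) U
  rw [this]
  change (redM k hk U).det = 1
  rw [h, Matrix.det_one]

/-- the companion matrix of `X² + X + 1` -/
def Cm : Matrix (Fin 2) (Fin 2) (ZMod (2 ^ k)) := !![0, -1; 1, -1]

theorem Cm_cube : Cm k * Cm k * Cm k = 1 := by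
  ext i j
  fin_cases i <;> fin_cases j <;> simp [Cm, Matrix.mul_apply, Fin.sum_univ_two]

theorem Cm_cube' : Cm k * (Cm k * Cm k) = 1 := by
  rw [← mul_assoc]; exact Cm_cube k

theorem redM_Cm (hk : k ≠ 0) : redM k hk (Cm k) = Cb := by
  ext i j
  rw [redM_apply]
  fin_cases i <;> fin_cases j <;> simp [Cm, Cb]

/-- an element of order 3: minimal polynomial and the unit entry -/
theorem order3 (hk : k ≠ 0) (X : Matrix (Fin 2) (Fin 2) (ZMod (2 ^ k)))
    (h3 : X * X * X = 1) (h1 : X ≠ 1) : X * X + X + 1 = 0 ∧ IsUnit (X 1 0) := by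
  have hr3 : redM k hk X * redM k hk X * redM k hk X = 1 := by
    rw [← map_mul, ← map_mul, h3, map_one]
  have hr1 : redM k hk X ≠ 1 := by
    intro h
    apply h1
    have hU : IsUnit (X * X + X + 1) := by
      apply m4 k hk
      rw [map_add, map_add, map_mul, map_one, h]
      decide
    have : (X - 1) * (X * X + X + 1) = 0 := by
      have : (X - 1) * (X * X + X + 1) = X * X * X - 1 := by noncomm_ring
      rw [this, h3, sub_self]
    have := (hU.mul_left_eq_zero).mp this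
    exact sub_eq_zero.mp this
  obtain ⟨e1, e2, e3⟩ := d1 _ hr3 hr1
  constructor
  · have hW : IsUnit ((X - 1) * X) := by
      apply m4 k hk
      rw [map_mul, map_sub, map_one]; exact e2
    have : (X - 1) * X * (X * X + X + 1) = 0 := by
      have : (X - 1) * X * (X * X + X + 1) = X * (X * X * X) - X := by noncomm_ring
      rw [this, h3, mul_one, sub_self]
    exact (hW.mul_right_eq_zero).mp this
  · apply f4 k hk
    rw [← redM_apply]; exact e3

/-- structure of the involutions of an `A₄` containing `Cm` -/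
theorem invol_form (hk : 2 ≤ k) (T : Matrix (Fin 2) (Fin 2) (ZMod (2 ^ k)))
    (h1 : T * T = 1)
    (h2 : T * (Cm k * T * (Cm k * Cm k)) = (Cm k * T * (Cm k * Cm k)) * T)
    (h3 : Cm k * Cm k * T * Cm k = T * (Cm k * T * (Cm k * Cm k))) :
    ∃ n₁ n₂ : ZMod (2 ^ k), 2 * n₁ = 0 ∧ 2 * n₂ = 0 ∧ T = 1 + !![n₁, n₂; n₁ + n₂, n₁] := by
  have hk0 : k ≠ 0 := by omega
  have hC3 := Cm_cube k
  have hC3' := Cm_cube' k
  have hrC := redM_Cm k hk0
  set C := Cm k with hC
  have hT1 : redM k hk0 T = 1 := by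
    apply d3
    · rw [← map_mul, h1, map_one]
    · have := congrArg (redM k hk0) h2
      simpa only [map_mul, hrC] using this
  obtain ⟨A, hA⟩ := m1 k hk0 (T - 1) (by rw [map_sub, hT1, map_one, sub_self])
  have hT : T = 1 + 2 • A := by rw [← hA]; abel
  -- first relation
  have e1 : 4 • (A * A + A) = 0 := by
    have : (1 + 2 • A) * (1 + 2 • A) = 1 := by rw [← hT]; exact h1
    have h' : (1 + 2 • A) * (1 + 2 • A) = 1 + 4 • (A * A + A) := by noncomm_ring
    rw [h'] at this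
    exact add_eq_left.mp this
  -- second relation
  have e2 : 2 • (C * C * A * C - C * A * (C * C) - A - 2 • (A * (C * A * (C * C)))) = 0 := by
    have h3' := h3
    rw [hT] at h3'
    have hl : C * C * (1 + 2 • A) * C = C * C * C + 2 • (C * C * A * C) := by noncomm_ring
    have hr : (1 + 2 • A) * (C * (1 + 2 • A) * (C * C)) =
        C * (C * C) + 2 • (C * A * (C * C)) + 2 • (A * (C * (C * C)))
          + 4 • (A * (C * A * (C * C))) := by noncomm_ring
    rw [hl, hr, hC3, hC3', mul_one] at h3'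
    have : 2 • (C * C * A * C - C * A * (C * C) - A - 2 • (A * (C * A * (C * C)))) =
        (1 + 2 • (C * C * A * C)) -
          (1 + 2 • (C * A * (C * C)) + 2 • A + 4 • (A * (C * A * (C * C)))) := by noncomm_ring
    rw [this, h3', sub_self]
  have hAb : (redM k hk0 C * redM k hk0 C) * redM k hk0 A * redM k hk0 C
      - redM k hk0 C * redM k hk0 A * (redM k hk0 C * redM k hk0 C) - redM k hk0 A = 0 := by
    have := m2 k hk _ e2
    rw [map_sub, map_sub, map_sub, map_nsmul] at this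
    have h20 : (2 : ℕ) • redM k hk0 (A * (C * A * (C * C))) = 0 := by
      ext i j; rw [Matrix.smul_apply]; simp only [nsmul_eq_mul]
      have : ((2 : ℕ) : ZMod 2) = 0 := by decide
      rw [this, zero_mul]; rfl
    rw [h20, sub_zero] at this
    simpa only [map_mul] using this
  -- 4 • A = 0
  have h4A : 4 • A = 0 := by
    by_cases hk3 : 3 ≤ k
    · have hA0 : redM k hk0 A = 0 := by
        apply d4
        · have := m3 k hk3 _ e1
          rwa [map_add, map_mul] at this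
        · rw [← hrC]; exact hAb
      have hU : IsUnit (A + 1) := by
        apply m4 k hk0
        rw [map_add, hA0, map_one, zero_add]
      have : (4 • A) * (A + 1) = 0 := by
        have : (4 • A) * (A + 1) = 4 • (A * A + A) := by noncomm_ring
        rw [this, e1]
      exact (hU.mul_left_eq_zero).mp this
    · have hk2 : k = 2 := by omega
      subst hk2
      ext i j
      rw [Matrix.smul_apply, nsmul_eq_mul]
      have : ((4 : ℕ) : ZMod (2 ^ 2)) = 0 := by decide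
      rw [this, zero_mul]; rfl
  -- N = T - 1
  set N := T - 1 with hN
  have h2N : 2 • N = 0 := by
    rw [hA, smul_smul]; exact h4A
  have hNN : N * (C * N * (C * C)) = 0 := by
    rw [hA]
    have : (2 • A) * (C * (2 • A) * (C * C)) = (4 • A) * (C * A * (C * C)) := by noncomm_ring
    rw [this, h4A, zero_mul]
  have hTN : T = 1 + N := by rw [hN]; abel
  have E : C * C * N * C = C * N * (C * C) + N := by
    have h3' := h3
    rw [hTN] at h3'
    have hl : C * C * (1 + N) * C = C * C * C + C * C * N * C := by noncomm_ring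
    have hr : (1 + N) * (C * (1 + N) * (C * C)) =
        C * (C * C) + C * N * (C * C) + N * (C * (C * C)) + N * (C * N * (C * C)) := by
      noncomm_ring
    rw [hl, hr, hC3, hC3', mul_one, hNN, add_zero] at h3'
    have := add_left_cancel (a := (1 : Matrix (Fin 2) (Fin 2) (ZMod (2 ^ k)))) (by rw [h3']; abel :
      1 + C * C * N * C = 1 + (C * N * (C * C) + N))
    exact this
  have hn : ∀ i j, 2 * N i j = 0 := by
    intro i j
    have := congrFun (congrFun h2N i) j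
    rw [Matrix.smul_apply, nsmul_eq_mul] at this
    simpa using this
  have E00 := congrFun (congrFun E 0) 0
  have E11 := congrFun (congrFun E 1) 1
  simp only [hC, Cm, Matrix.mul_apply, Fin.sum_univ_two, Matrix.add_apply, Matrix.of_apply,
    Matrix.cons_val', Matrix.cons_val_zero, Matrix.cons_val_one, Matrix.empty_val',
    Matrix.cons_val_fin_one] at E00 E11
  have h10 : N 1 0 = N 0 0 + N 0 1 := by
    linear_combination (-1 : ZMod (2 ^ k)) * E00 - hn 0 0 - hn 0 1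
  have h11 : N 1 1 = N 0 0 := by
    linear_combination (-1 : ZMod (2 ^ k)) * E11 + h10 + hn 0 1
  refine ⟨N 0 0, N 0 1, hn 0 0, hn 0 1, ?_⟩
  rw [hTN]
  congr 1
  ext i j
  fin_cases i <;> fin_cases j
  · rfl
  · rfl
  · exact h10
  · exact h11

/-- the element `0` or `2^(k-1)` -/
noncomputable def hh (a : Fin 2) : ZMod (2 ^ k) := if a = 0 then 0 else hlf k

/-- the 12 matrices of the standard `A₄` -/
noncomputable def Fm (p : Fin 2 × Fin 2 × Fin 3) : Matrix (Fin 2) (Fin 2) (ZMod (2 ^ k)) :=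
  (1 + !![hh k p.1, hh k p.2.1; hh k p.1 + hh k p.2.1, hh k p.1]) * (Cm k) ^ (p.2.2 : ℕ)

theorem a4_normal_form (hk : 2 ≤ k) (H : Subgroup (GL (Fin 2) (ZMod (2 ^ k))))
    (e : ↥H ≃* ↥(alternatingGroup (Fin 4))) :
    ∃ g : GL (Fin 2) (ZMod (2 ^ k)), ∀ y, y ∈ H ↔
      ((g⁻¹ * y * g : GL (Fin 2) (ZMod (2 ^ k))) : Matrix (Fin 2) (Fin 2) (ZMod (2 ^ k))) ∈
        Set.range (Fm k) := by
  have hk0 : k ≠ 0 := by omega
  obtain ⟨x₀, hx3, hx1, hstruct⟩ := a4_struct
  -- the element x of H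
  set x : H := e.symm x₀ with hx
  have hx3' : x * x * x = 1 := by rw [hx, ← map_mul, ← map_mul, hx3, map_one]
  have hx1' : x ≠ 1 := by
    intro h; apply hx1
    have := congrArg e h
    rwa [hx, MulEquiv.apply_symm_apply, map_one] at this
  set X : GL (Fin 2) (ZMod (2 ^ k)) := (x : GL (Fin 2) (ZMod (2 ^ k))) with hX
  have hX3 : X * X * X = 1 := by
    have := congrArg (Subtype.val) hx3'
    simpa using this
  have hX1 : X ≠ 1 := by
    intro h; apply hx1'
    exact Subtype.ext h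
  set Xm : Matrix (Fin 2) (Fin 2) (ZMod (2 ^ k)) :=
    (X : Matrix (Fin 2) (Fin 2) (ZMod (2 ^ k))) with hXm
  have hXm3 : Xm * Xm * Xm = 1 := by
    have := congrArg Units.val hX3
    simpa [Units.val_mul] using this
  have hXm1 : Xm ≠ 1 := by
    intro h; apply hX1
    exact Units.ext h
  obtain ⟨hmin, hunit⟩ := order3 k hk0 Xm hXm3 hXm1
  -- the conjugating element
  have hdet : IsUnit (!![1, Xm 0 0; 0, Xm 1 0] : Matrix (Fin 2) (Fin 2) (ZMod (2 ^ k))).det := by
    rw [Matrix.det_fin_two]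
    simpa using hunit
  obtain ⟨g, hg⟩ : ∃ g : GL (Fin 2) (ZMod (2 ^ k)),
      (g : Matrix (Fin 2) (Fin 2) (ZMod (2 ^ k))) = !![1, Xm 0 0; 0, Xm 1 0] :=
    ⟨((Matrix.isUnit_iff_isUnit_det _).mpr hdet).unit, rfl⟩
  obtain ⟨Cg, hCg⟩ : ∃ Cg : GL (Fin 2) (ZMod (2 ^ k)),
      (Cg : Matrix (Fin 2) (Fin 2) (ZMod (2 ^ k))) = Cm k :=
    ⟨⟨Cm k, Cm k * Cm k, Cm_cube' k, Cm_cube k⟩, rfl⟩
  have hxg : X * g = g * Cg := by
    apply Units.ext
    rw [Units.val_mul, Units.val_mul, hg, hCg]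
    have m00 := congrFun (congrFun hmin 0) 0
    have m10 := congrFun (congrFun hmin 1) 0
    simp [Matrix.mul_apply, Fin.sum_univ_two] at m00 m10
    ext i j
    fin_cases i <;> fin_cases j
    · simp [Cm, Matrix.mul_apply, Fin.sum_univ_two, ← hXm]
    · simp [Cm, Matrix.mul_apply, Fin.sum_univ_two, ← hXm]
      linear_combination m00
    · simp [Cm, Matrix.mul_apply, Fin.sum_univ_two, ← hXm]
    · simp [Cm, Matrix.mul_apply, Fin.sum_univ_two, ← hXm]
      linear_combination m10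
  have hconj : g⁻¹ * X * g = Cg := by
    rw [mul_assoc, hxg, ← mul_assoc, inv_mul_cancel, one_mul]
  have hfwd : ∀ y, y ∈ H →
      ((g⁻¹ * y * g : GL (Fin 2) (ZMod (2 ^ k))) : Matrix (Fin 2) (Fin 2) (ZMod (2 ^ k))) ∈
        Set.range (Fm k) := by
    intro y hy
    obtain ⟨v₀, i, hyv, r1, r2, r3⟩ := hstruct (e ⟨y, hy⟩)
    set v : H := e.symm v₀ with hv
    have hyv' : (⟨y, hy⟩ : H) = v * x ^ (i : ℕ) := by
      apply e.injective
      rw [hyv, map_mul, map_pow, hv, hx, MulEquiv.apply_symm_apply, MulEquiv.apply_symm_apply]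
    have r1' : v * v = 1 := by rw [hv, ← map_mul, r1, map_one]
    have r2' : v * (x * v * (x * x)) = (x * v * (x * x)) * v := by
      rw [hv, hx]; simp only [← map_mul]; rw [r2]
    have r3' : x * x * v * x = v * (x * v * (x * x)) := by
      rw [hv, hx]; simp only [← map_mul]; rw [r3]
    set V : GL (Fin 2) (ZMod (2 ^ k)) := (v : GL (Fin 2) (ZMod (2 ^ k))) with hV
    have q0 : y = V * X ^ (i : ℕ) := by
      have := congrArg Subtype.val hyv'
      simpa using this
    have q1 : V * V = 1 := by simpa using congrArg Subtype.val r1'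
    have q2 : V * (X * V * (X * X)) = (X * V * (X * X)) * V := by
      simpa using congrArg Subtype.val r2'
    have q3 : X * X * V * X = V * (X * V * (X * X)) := by
      simpa using congrArg Subtype.val r3'
    set V' : GL (Fin 2) (ZMod (2 ^ k)) := g⁻¹ * V * g with hV'
    have hpow : ∀ n : ℕ, (g⁻¹ * X * g) ^ n = g⁻¹ * X ^ n * g := by
      intro n
      induction n with
      | zero => simp
      | succ n ih => rw [pow_succ, ih, pow_succ]; group
    have p0 : g⁻¹ * y * g = V' * Cg ^ (i : ℕ) := by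
      rw [q0, ← hconj, hV', hpow]; group
    have p1 : V' * V' = 1 := by
      rw [hV']
      calc g⁻¹ * V * g * (g⁻¹ * V * g) = g⁻¹ * (V * V) * g := by group
        _ = 1 := by rw [q1]; group
    have p2 : V' * (Cg * V' * (Cg * Cg)) = (Cg * V' * (Cg * Cg)) * V' := by
      rw [← hconj, hV']
      calc g⁻¹ * V * g * (g⁻¹ * X * g * (g⁻¹ * V * g) * (g⁻¹ * X * g * (g⁻¹ * X * g)))
          = g⁻¹ * (V * (X * V * (X * X))) * g := by group
        _ = g⁻¹ * ((X * V * (X * X)) * V) * g := by rw [q2]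
        _ = _ := by group
    have p3 : Cg * Cg * V' * Cg = V' * (Cg * V' * (Cg * Cg)) := by
      rw [← hconj, hV']
      calc g⁻¹ * X * g * (g⁻¹ * X * g) * (g⁻¹ * V * g) * (g⁻¹ * X * g)
          = g⁻¹ * (X * X * V * X) * g := by group
        _ = g⁻¹ * (V * (X * V * (X * X))) * g := by rw [q3]
        _ = _ := by group
    set T : Matrix (Fin 2) (Fin 2) (ZMod (2 ^ k)) :=
      (V' : Matrix (Fin 2) (Fin 2) (ZMod (2 ^ k))) with hTdef
    have t1 : T * T = 1 := by simpa [Units.val_mul] using congrArg Units.val p1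
    have t2 : T * (Cm k * T * (Cm k * Cm k)) = (Cm k * T * (Cm k * Cm k)) * T := by
      have := congrArg Units.val p2
      simpa only [Units.val_mul, hCg] using this
    have t3 : Cm k * Cm k * T * Cm k = T * (Cm k * T * (Cm k * Cm k)) := by
      have := congrArg Units.val p3
      simpa only [Units.val_mul, hCg] using this
    obtain ⟨n₁, n₂, hn₁, hn₂, hTform⟩ := invol_form k hk T t1 t2 t3
    obtain ⟨a, ha⟩ : ∃ a : Fin 2, n₁ = hh k a := by
      rcases f6 k hk0 n₁ hn₁ with h | h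
      · exact ⟨0, by rw [h]; rfl⟩
      · exact ⟨1, by rw [h]; rfl⟩
    obtain ⟨b, hb⟩ : ∃ b : Fin 2, n₂ = hh k b := by
      rcases f6 k hk0 n₂ hn₂ with h | h
      · exact ⟨0, by rw [h]; rfl⟩
      · exact ⟨1, by rw [h]; rfl⟩
    refine ⟨(a, b, i), ?_⟩
    rw [p0, Units.val_mul, Units.val_pow_eq_pow_val, hCg, ← hTdef, hTform, ha, hb]
    rfl
  refine ⟨g, fun y => ⟨hfwd y, fun hy => ?_⟩⟩
  let f : H → Matrix (Fin 2) (Fin 2) (ZMod (2 ^ k)) := fun y =>
    ((g⁻¹ * (y : GL (Fin 2) (ZMod (2 ^ k))) * g : GL (Fin 2) (ZMod (2 ^ k))) :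
      Matrix (Fin 2) (Fin 2) (ZMod (2 ^ k)))
  have hf_inj : Function.Injective f := by
    intro y₁ y₂ h
    have h1 : g⁻¹ * (y₁ : GL (Fin 2) (ZMod (2 ^ k))) * g = g⁻¹ * (y₂ : GL (Fin 2) (ZMod (2 ^ k))) * g :=
      Units.ext h
    apply Subtype.ext
    have h2 : (y₁ : GL (Fin 2) (ZMod (2 ^ k))) = g * (g⁻¹ * (y₁ : GL (Fin 2) (ZMod (2 ^ k))) * g) * g⁻¹ := by
      group
    rw [h2, h1]; group
  have hsub : Set.range f ⊆ Set.range (Fm k) := by
    rintro _ ⟨y, rfl⟩
    exact hfwd y y.2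
  have hcard1 : (Set.range f).ncard = 12 := by
    rw [← Nat.card_coe_set_eq, Nat.card_range_of_injective hf_inj, Nat.card_congr e.toEquiv,
      card_a4]
  have hcard2 : (Set.range (Fm k)).ncard ≤ 12 := by
    rw [← Nat.card_coe_set_eq]
    refine (Finite.card_range_le (Fm k)).trans ?_
    rw [Nat.card_eq_fintype_card]; simp
  have heq : Set.range f = Set.range (Fm k) :=
    Set.eq_of_subset_of_ncard_le hsub (by rw [hcard1]; exact hcard2) (Set.finite_range _)
  rw [← heq] at hy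
  obtain ⟨y', hy'⟩ := hy
  have h1 : g⁻¹ * (y' : GL (Fin 2) (ZMod (2 ^ k))) * g = g⁻¹ * y * g := Units.ext hy'
  have h3 : (y' : GL (Fin 2) (ZMod (2 ^ k))) = y := by
    have h2 : (y' : GL (Fin 2) (ZMod (2 ^ k))) = g * (g⁻¹ * (y' : GL (Fin 2) (ZMod (2 ^ k))) * g) * g⁻¹ := by
      group
    rw [h2, h1]; group
  rw [← h3]; exact y'.2

end Cfsg.Agent.H11.A4GL2
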