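import Cfsg.Agent.H26.AIC.L3

set_option autoImplicit false
set_option linter.style.haveILetI false
set_option linter.unusedSectionVars false
set_option linter.unusedVariables false

/-! S2202 piece CENTRAL: normal subgroups of odd order are central; generation by commutators
modulo such a subgroup. -/

namespace Cfsg.Agent.H11.AIC

open Subgroup Cfsg.Agent.H26 Cfsg.Agent.H26.AIC
open scoped commutatorElement

variable {G : Type*} [Group G] [Finite G]

theorem odd_normal_central (hH : Hyp G) (P : Sylow 2 G) (hP : Good P) (N : Subgroup G)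
    (hN : N.Normal) (hodd : Odd (Nat.card N)) : N ≤ Subgroup.center G := by
  have hNM : ∀ R : Sylow 2 G, N ≤ MT R := fun R =>
    odd_normal_le_MT hH R (good_all hP R).1 N hN hodd
  have hZ : Subgroup.centralizer (N : Set G) = ⊤ := by
    apply gen_top hH P hP
    · intro m hm
      rw [Subgroup.mem_centralizer_iff]
      intro n hn
      exact MT_comm hH P (good_ne_bot hP) (hNM P hn) hm
    · intro t ht
      obtain ⟨R, hR⟩ := exists_syl_of_inv ht
      rw [Subgroup.mem_centralizer_iff]
      intro n hn
      have h1 : n ∈ MT R := hNM R hn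
      exact ((mem_MT R n).mp h1 t hR).symm
  intro n hn
  rw [Subgroup.mem_center_iff]
  intro g
  have hg : g ∈ Subgroup.centralizer (N : Set G) := by rw [hZ]; exact Subgroup.mem_top g
  exact ((Subgroup.mem_centralizer_iff.mp hg) n hn).symm

theorem sq_one_of_order_two {t : G} (ht : orderOf t = 2) : t * t = 1 := by
  have := pow_orderOf_eq_one t
  rw [ht, pow_two] at this
  exact this

theorem gen_by_comm_mod (hH : Hyp G) (P : Sylow 2 G) (hP : Good P) (N : Subgroup G) [N.Normal]
    (hodd : Odd (Nat.card N)) (hE : Exp2 (G ⧸ N)) :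
    ∀ g : G, ∃ n ∈ N, g * n ∈ commutator G := by
  have hCn : (commutator G).Normal := inferInstance
  -- (*) products of distinct involutions of `P` are commutators
  have hstar : ∀ a b : G, orderOf a = 2 → a ∈ (P : Subgroup G) → orderOf b = 2 →
      b ∈ (P : Subgroup G) → a * b ∈ commutator G := by
    intro a b ha haP hb hbP
    obtain ⟨h, -, hh⟩ := NT_trans hH P hP ha haP hb hbP
    have hainv : a⁻¹ = a := inv_eq_of_mul_eq_one_left (sq_one_of_order_two ha)
    have h1 : a * b = ⁅a, h⁆ := by
      rw [commutatorElement_def, ← hh, hainv]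
      group
    rw [h1, _root_.commutator_def]
    exact Subgroup.commutator_mem_commutator (Subgroup.mem_top a) (Subgroup.mem_top h)
  obtain ⟨u, v, hu, huP, hv, hvP, huv⟩ := exists_two_inv hH P hP.1
  have huu := sq_one_of_order_two hu
  have hvv := sq_one_of_order_two hv
  have hcomm : u * v = v * u := syl_comm hH P huP hvP
  -- `w = u * v` is a third involution
  have hw2 : (u * v) ^ 2 = 1 := by
    rw [pow_two]
    calc u * v * (u * v) = u * (v * u) * v := by group
      _ = u * (u * v) * v := by rw [hcomm]
      _ = (u * u) * (v * v) := by group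
      _ = 1 := by rw [huu, hvv, one_mul]
  have hw1 : u * v ≠ 1 := by
    intro h
    apply huv
    have h2 : u = v⁻¹ := eq_inv_of_mul_eq_one_left h
    rw [h2]
    exact inv_eq_of_mul_eq_one_left hvv
  have hw : orderOf (u * v) = 2 := orderOf_eq_prime hw2 hw1
  have hwP : u * v ∈ (P : Subgroup G) := (P : Subgroup G).mul_mem huP hvP
  have huC : u ∈ commutator G := by
    have h1 := hstar v (u * v) hv hvP hw hwP
    have h2 : v * (u * v) = u := by
      calc v * (u * v) = v * (v * u) := by rw [hcomm]
        _ = (v * v) * u := by group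
        _ = u := by rw [hvv, one_mul]
    rw [h2] at h1
    exact h1
  -- involutions of `P` lie in the commutator subgroup
  have hPinv : ∀ x : G, x * x = 1 → x ∈ (P : Subgroup G) → x ∈ commutator G := by
    intro x hxx hxP
    by_cases hx1 : x = 1
    · rw [hx1]; exact Subgroup.one_mem _
    have hx : orderOf x = 2 := orderOf_eq_prime (by rw [pow_two]; exact hxx) hx1
    have h1 := hstar x u hx hxP hu huP
    have h2 : x = (x * u) * u := by
      calc x = x * (u * u) := by rw [huu, mul_one]
        _ = (x * u) * u := by group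
    rw [h2]
    exact Subgroup.mul_mem _ h1 huC
  -- all involutions lie in the commutator subgroup
  have hinv : ∀ t : G, orderOf t = 2 → t ∈ commutator G := by
    intro t ht
    obtain ⟨R, hR⟩ := exists_syl_of_inv ht
    obtain ⟨g, rfl⟩ := exists_conj_syl P R
    have h1 : g⁻¹ * t * g ∈ (P : Subgroup G) := (mem_smul_syl g P t).mp hR
    have h2 : (g⁻¹ * t * g) * (g⁻¹ * t * g) = 1 := by
      calc (g⁻¹ * t * g) * (g⁻¹ * t * g) = g⁻¹ * (t * t) * g := by group
        _ = 1 := by rw [sq_one_of_order_two ht]; group
    have h3 := hPinv _ h2 h1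
    have h4 := hCn.conj_mem _ h3 g
    have h5 : g * (g⁻¹ * t * g) * g⁻¹ = t := by group
    rw [h5] at h4
    exact h4
  have hZ : commutator G ⊔ N = ⊤ := by
    apply gen_top hH P hP
    · intro m hm
      have hmu : m * u = u * m := (mem_MT_iff hH P hu huP m).mp hm
      have hmm : m * m ∈ N := exp2_quot_imp N hodd hE hu hmu
      -- `k = orderOf (m * m)` is odd
      have hk : Odd (orderOf (m * m)) := by
        have h1 : orderOf (m * m) ∣ Nat.card N := by
          have := orderOf_dvd_natCard (⟨m * m, hmm⟩ : N)
          rwa [Subgroup.orderOf_mk] at this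
        exact Odd.of_dvd_nat hodd h1
      obtain ⟨j, hj⟩ := hk
      have hpow : (m ^ orderOf (m * m)) ^ 2 ^ 1 = 1 := by
        rw [pow_one, ← pow_mul, mul_comm, pow_mul, pow_two, pow_orderOf_eq_one]
      have h1 : m ^ orderOf (m * m) ∈ MT P := Subgroup.pow_mem _ hm _
      have h2 : m ^ orderOf (m * m) ∈ (P : Subgroup G) := two_elt_MT_mem hH P h1 hpow
      have h3 : m ^ orderOf (m * m) ∈ commutator G := by
        apply hPinv _ _ h2
        rw [pow_one, pow_two] at hpow
        exact hpow
      have h4 : m = m ^ orderOf (m * m) * ((m * m) ^ j)⁻¹ := by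
        rw [hj, pow_succ, pow_mul, pow_two]
        have : Commute (m * m) m := by
          show m * m * m = m * (m * m)
          group
        have hc : Commute ((m * m) ^ j) m := this.pow_left j
        rw [hc.eq, mul_assoc, mul_inv_cancel, mul_one]
      rw [h4]
      exact Subgroup.mul_mem _ (Subgroup.mem_sup_left h3)
        (Subgroup.mem_sup_right (N.inv_mem (N.pow_mem hmm j)))
    · intro t ht
      exact Subgroup.mem_sup_left (hinv t ht)
  intro g
  have hg : g ∈ commutator G ⊔ N := by rw [hZ]; exact Subgroup.mem_top g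
  obtain ⟨y, hy, z, hz, hyz⟩ := Subgroup.mem_sup_of_normal_right.mp hg
  refine ⟨z⁻¹, N.inv_mem hz, ?_⟩
  rw [← hyz, mul_assoc, mul_inv_cancel, mul_one]
  exact hy

example (hH : Hyp G) (P : Sylow 2 G) (hP : Good P) (N : Subgroup G)
    (hN : N.Normal) (hodd : Odd (Nat.card N)) : N ≤ Subgroup.center G :=
  odd_normal_central hH P hP N hN hodd

example (hH : Hyp G) (P : Sylow 2 G) (hP : Good P) (N : Subgroup G) [N.Normal]
    (hodd : Odd (Nat.card N)) (hE : Exp2 (G ⧸ N)) :
    ∀ g : G, ∃ n ∈ N, g * n ∈ commutator G :=
  gen_by_comm_mod hH P hP N hodd hE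

end Cfsg.Agent.H11.AIC
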