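import Cfsg.Agent.H26.AIC.L2

set_option autoImplicit false
set_option linter.style.haveILetI false
set_option linter.unusedSectionVars false
set_option linter.unusedVariables false

/-! S2202 piece GEN: a subgroup containing `MT P` and all involutions is everything. -/

namespace Cfsg.Agent.H11.AIC

open Subgroup Cfsg.Agent.H26 Cfsg.Agent.H26.AIC

variable {G : Type*} [Group G] [Finite G]

theorem gen_top (hH : Hyp G) (P : Sylow 2 G) (hP : Good P) (Z : Subgroup G) (hM : MT P ≤ Z)
    (hI : ∀ t : G, orderOf t = 2 → t ∈ Z) : Z = ⊤ := by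
  -- `NT P ≠ ⊤`
  have hne : ∃ g0 : G, g0 ∉ NT P := by
    by_contra hcon
    push Not at hcon
    apply hP.2
    apply Subgroup.normalizer_eq_top_iff.mp
    rw [eq_top_iff]
    intro x _
    exact hcon x
  obtain ⟨g0, hg0⟩ := hne
  obtain ⟨t, ht, htN, -⟩ := exists_inv_coset hH P hP hg0
  have htt : t * t = 1 := by
    have := pow_orderOf_eq_one t
    rw [ht, pow_two] at this
    exact this
  have htinv : t⁻¹ = t := inv_eq_of_mul_eq_one_left htt
  -- `NT P ≤ Z`
  have hNT : NT P ≤ Z := by
    intro h hh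
    obtain ⟨d, hd, hdh⟩ := J_surj hH P hP ht htN hh
    obtain ⟨hdN, hdinv⟩ := hd
    have htd2 : (t * d) ^ 2 = 1 := by
      rw [pow_two]
      have h1 : t * d * t = d⁻¹ := by rw [htinv] at hdinv; exact hdinv
      calc t * d * (t * d) = (t * d * t) * d := by group
        _ = d⁻¹ * d := by rw [h1]
        _ = 1 := inv_mul_cancel d
    have htd1 : t * d ≠ 1 := by
      intro h1
      apply htN
      have : t = d⁻¹ := eq_inv_of_mul_eq_one_left h1
      rw [this]
      exact (NT P).inv_mem hdN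
    have ho : orderOf (t * d) = 2 := orderOf_eq_prime htd2 htd1
    have h1 : t * d ∈ Z := hI _ ho
    have h2 : t ∈ Z := hI _ ht
    have h3 : d ∈ Z := by
      have : d = t⁻¹ * (t * d) := by group
      rw [this]
      exact Z.mul_mem (Z.inv_mem h2) h1
    have h4 : d⁻¹ * h ∈ Z := hM hdh
    have : h = d * (d⁻¹ * h) := by group
    rw [this]
    exact Z.mul_mem h3 h4
  rw [eq_top_iff]
  intro g _
  by_cases hg : g ∈ NT P
  · exact hNT hg
  · obtain ⟨t', ht', -, htg⟩ := exists_inv_coset hH P hP hg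
    have h1 : t' ∈ Z := hI _ ht'
    have h2 : t'⁻¹ * g ∈ Z := hNT htg
    have : g = t' * (t'⁻¹ * g) := by group
    rw [this]
    exact Z.mul_mem h1 h2

example (hH : Hyp G) (P : Sylow 2 G) (hP : Good P) (Z : Subgroup G) (hM : MT P ≤ Z)
    (hI : ∀ t : G, orderOf t = 2 → t ∈ Z) : Z = ⊤ :=
  gen_top hH P hP Z hM hI

end Cfsg.Agent.H11.AIC
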