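import Cfsg.Agent.H26.AIC.L4

set_option autoImplicit false
set_option linter.style.haveILetI false
set_option linter.unusedSectionVars false
set_option linter.unusedVariables false

/-! S2202 piece NFALSE: the structure produced by `nti_struct` is contradictory. -/

namespace Cfsg.Agent.H11.AIC

open Subgroup Cfsg.Agent.H26 Cfsg.Agent.H26.AIC

variable {G : Type*} [Group G] [Finite G]

theorem citHyp_of_hyp_exp2 {X : Type*} [Group X] (h1 : Hyp X) (h2 : Exp2 X) : CITHyp X := by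
  intro t ht
  refine ⟨⟨⟨fun a b => Subtype.ext ?_⟩⟩, ?_⟩
  · have ha := (Subgroup.mem_centralizer_iff.mp a.2) t rfl
    have hb := (Subgroup.mem_centralizer_iff.mp b.2) t rfl
    exact h1 t ht a b ha.symm hb.symm
  · intro c hc
    have := (Subgroup.mem_centralizer_iff.mp hc) t rfl
    rw [pow_two]
    exact h2 t ht c this.symm

theorem nti_false (hH : Hyp G) (P Q : Sylow 2 G) (hP : Good P) (hPQ : P ≠ Q) (K : Subgroup G)
    (hodd : Odd (Nat.card K)) (hKM : K ≤ MT P) (hKQ : K ≤ MT Q)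
    (hne : Subgroup.centralizer (K : Set G) ≠ ⊤)
    (hNT : NT P ≤ Subgroup.centralizer (K : Set G))
    (hexp : ∀ x ∈ Subgroup.centralizer (K : Set G), ∀ u ∈ Subgroup.centralizer (K : Set G),
        orderOf u = 2 → x * u = u * x → x * x ∈ K) : False := by
  classical
  obtain ⟨H, hHdef⟩ : ∃ H : Subgroup G, H = Subgroup.centralizer (K : Set G) := ⟨_, rfl⟩
  rw [← hHdef] at hne hNT hexp
  have hmemH : ∀ x : G, x ∈ H ↔ ∀ k ∈ K, k * x = x * k := by
    intro x
    rw [hHdef, Subgroup.mem_centralizer_iff]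
    rfl
  have hKH : K ≤ H := by
    intro k hk
    rw [hmemH]
    intro k' hk'
    exact MT_comm hH P (good_ne_bot hP) (hKM hk') (hKM hk)
  have hPH : (P : Subgroup G) ≤ H := by
    intro s hs
    rw [hmemH]
    intro k hk
    exact ((mem_MT P k).mp (hKM hk) s hs).symm
  have hQH : (Q : Subgroup G) ≤ H := by
    intro s hs
    rw [hmemH]
    intro k hk
    exact ((mem_MT Q k).mp (hKQ hk) s hs).symm
  obtain ⟨K', hK'def⟩ : ∃ K' : Subgroup H, K' = K.subgroupOf H := ⟨_, rfl⟩
  have hmemK' : ∀ x : H, x ∈ K' ↔ (x : G) ∈ K := by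
    intro x
    rw [hK'def, Subgroup.mem_subgroupOf]
  have hK'n : K'.Normal := by
    constructor
    intro n hn g
    rw [hmemK'] at hn ⊢
    have hg := (hmemH (g : G)).mp g.2 (n : G) hn
    have h1 : ((g * n * g⁻¹ : H) : G) = (n : G) := by
      rw [Subgroup.coe_mul, Subgroup.coe_mul, Subgroup.coe_inv, ← hg, mul_assoc, mul_inv_cancel,
        mul_one]
    rw [h1]
    exact hn
  have hK'odd : Odd (Nat.card K') := by
    have h1 : Nat.card K' = Nat.card K := by
      rw [hK'def]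
      exact Nat.card_congr (Subgroup.subgroupOfEquivOfLe hKH).toEquiv
    rw [h1]
    exact hodd
  have hHH : Hyp H := sub_hyp hH H
  have hXhyp : Hyp (H ⧸ K') := quot_hyp hHH K' hK'odd
  have hXexp : Exp2 (H ⧸ K') := by
    apply quot_exp2 K' hK'odd
    intro x u hu hxu
    rw [hmemK']
    have hu' : orderOf (u : G) = 2 := by rw [Subgroup.orderOf_coe]; exact hu
    exact hexp (x : G) x.2 (u : G) u.2 hu' (congrArg Subtype.val hxu)
  have hC : CITHyp (H ⧸ K') := citHyp_of_hyp_exp2 hXhyp hXexp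
  obtain ⟨T, hT, -⟩ := sub_good hH H P Q hP hPQ hPH hQH
  obtain ⟨T', hT'⟩ := quot_good' hHH T hT K' hK'odd
  have hne' : Subgroup.centralizer (K : Set G) ≠ ⊤ := by rw [← hHdef]; exact hne
  have hNT' : NT P ≤ Subgroup.centralizer (K : Set G) := by rw [← hHdef]; exact hNT
  obtain ⟨D, J, hDH, hDodd, hJD, hJcard, hJinj⟩ := nti_count hH P hP K hKM hodd hne' hNT'
  rw [← hHdef] at hDH hJcard
  -- the image of `D` in the quotient
  obtain ⟨Y, hYdef⟩ : ∃ Y : Subgroup (H ⧸ K'), Y = (D.subgroupOf H).map (QuotientGroup.mk' K') :=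
    ⟨_, rfl⟩
  have hYodd : Odd (Nat.card Y) := by
    have h1 : Nat.card Y ∣ Nat.card (D.subgroupOf H) := by
      rw [hYdef]
      exact Subgroup.card_map_dvd _ _
    have h2 : Nat.card (D.subgroupOf H) = Nat.card D :=
      Nat.card_congr (Subgroup.subgroupOfEquivOfLe hDH).toEquiv
    rw [h2] at h1
    exact Odd.of_dvd_nat hDodd h1
  have hJY : Nat.card J ≤ Nat.card Y := by
    have hmem : ∀ d : J, QuotientGroup.mk' K' (⟨d.1, hDH (hJD d.2)⟩ : H) ∈ Y := by
      intro d
      rw [hYdef]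
      exact Subgroup.mem_map_of_mem _ (by rw [Subgroup.mem_subgroupOf]; exact hJD d.2)
    apply Nat.card_le_card_of_injective (fun d : J => (⟨_, hmem d⟩ : Y))
    intro d d' hdd
    have h1 : QuotientGroup.mk' K' (⟨d.1, hDH (hJD d.2)⟩ : H) =
        QuotientGroup.mk' K' (⟨d'.1, hDH (hJD d'.2)⟩ : H) := congrArg Subtype.val hdd
    have h2 : (⟨d.1, hDH (hJD d.2)⟩ : H)⁻¹ * (⟨d'.1, hDH (hJD d'.2)⟩ : H) ∈ K' :=
      QuotientGroup.eq.mp h1
    rw [hmemK'] at h2
    exact Subtype.ext (hJinj d.1 d.2 d'.1 d'.2 h2)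
  have hinv : Nat.card {t : H ⧸ K' // orderOf t = 2} ≤
      Nat.card {t : G // orderOf t = 2 ∧ t ∈ H} := by
    have hlift : ∀ y : {t : H ⧸ K' // orderOf t = 2},
        ∃ u : H, orderOf u = 2 ∧ (u : H ⧸ K') = y.1 := fun y => quot_lift_inv K' hK'odd y.2
    choose lift hl1 hl2 using hlift
    have hf : ∀ y : {t : H ⧸ K' // orderOf t = 2},
        orderOf ((lift y : H) : G) = 2 ∧ ((lift y : H) : G) ∈ H := by
      intro y
      refine ⟨?_, (lift y).2⟩
      rw [Subgroup.orderOf_coe]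
      exact hl1 y
    apply Nat.card_le_card_of_injective
      (fun y => (⟨((lift y : H) : G), hf y⟩ : {t : G // orderOf t = 2 ∧ t ∈ H}))
    intro y y' hyy
    have h1 : ((lift y : H) : G) = ((lift y' : H) : G) :=
      congrArg (fun z : {t : G // orderOf t = 2 ∧ t ∈ H} => (z : G)) hyy
    have h2 : lift y = lift y' := Subtype.ext h1
    apply Subtype.ext
    rw [← hl2 y, ← hl2 y', h2]
  have hbig : Nat.card {t : H ⧸ K' // orderOf t = 2} ≤ Nat.card Y := by
    refine le_trans hinv ?_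
    rw [← hJcard]
    exact hJY
  exact cit_no_odd_big T' hT'.1 hT'.2 hC Y hYodd hbig

example (hH : Hyp G) (P Q : Sylow 2 G) (hP : Good P) (hPQ : P ≠ Q) (K : Subgroup G)
    (hodd : Odd (Nat.card K)) (hKM : K ≤ MT P) (hKQ : K ≤ MT Q)
    (hne : Subgroup.centralizer (K : Set G) ≠ ⊤)
    (hNT : NT P ≤ Subgroup.centralizer (K : Set G))
    (hexp : ∀ x ∈ Subgroup.centralizer (K : Set G), ∀ u ∈ Subgroup.centralizer (K : Set G),
        orderOf u = 2 → x * u = u * x → x * x ∈ K) : False :=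
  nti_false hH P Q hP hPQ K hodd hKM hKQ hne hNT hexp

end Cfsg.Agent.H11.AIC
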