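import Cfsg.Agent.H26.AIC.L3

set_option autoImplicit false
set_option linter.style.haveILetI false
set_option linter.unusedSectionVars false
set_option linter.unusedVariables false

/-! S2202 piece NSTRUCT: the structure of the non-TI case. -/

namespace Cfsg.Agent.H11.AIC

open Subgroup Cfsg.Agent.H26 Cfsg.Agent.H26.AIC

universe u

theorem nti_struct {G : Type u} [Group G] [Finite G] (hH : Hyp G) (hNO : NoOdd G)
    (IH : ∀ (X : Type u) [Group X] [Finite X], Nat.card X < Nat.card G → Hyp X →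
      (∃ T : Sylow 2 X, Good T) → NoOdd X → Exp2 X)
    (P Q : Sylow 2 G) (hP : Good P) (hPQ : P ≠ Q) {c : G} (hc1 : c ≠ 1) (hcP : c ∈ MT P)
    (hcQ : c ∈ MT Q) :
    ∃ K : Subgroup G, Odd (Nat.card K) ∧ K ≤ MT P ∧ K ≤ MT Q ∧
      Subgroup.centralizer (K : Set G) ≠ ⊤ ∧ NT P ≤ Subgroup.centralizer (K : Set G) ∧
      (∀ x ∈ Subgroup.centralizer (K : Set G), ∀ u ∈ Subgroup.centralizer (K : Set G),
        orderOf u = 2 → x * u = u * x → x * x ∈ K) := by
  classical
  have hPne := good_ne_bot hP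
  obtain ⟨u, hu, huP⟩ := exists_inv_mem hPne
  -- (0) `c` has odd order
  have hcodd : Odd (orderOf c) := by
    by_contra hcon
    rw [Nat.not_odd_iff_even] at hcon
    obtain ⟨j, hj⟩ := hcon
    have hpos : 0 < orderOf c := orderOf_pos c
    have hjpos : 0 < j := by omega
    have hi2 : (c ^ j) ^ 2 ^ 1 = 1 := by
      rw [pow_one, ← pow_mul, mul_two, ← hj, pow_orderOf_eq_one]
    have hi1 : c ^ j ≠ 1 := by
      intro h
      have h1 := orderOf_dvd_of_pow_eq_one h
      have h2 := Nat.le_of_dvd hjpos h1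
      omega
    have hio : orderOf (c ^ j) = 2 := orderOf_eq_prime (by rw [pow_one] at hi2; exact hi2) hi1
    have hiP : c ^ j ∈ (P : Subgroup G) := two_elt_MT_mem hH P (Subgroup.pow_mem _ hcP j) hi2
    have hiQ : c ^ j ∈ (Q : Subgroup G) := two_elt_MT_mem hH Q (Subgroup.pow_mem _ hcQ j) hi2
    exact hPQ (syl_eq_of_inv_mem hH P Q hio hiP hiQ)
  -- (1) `L = C(c)`
  obtain ⟨L, hLdef⟩ : ∃ L : Subgroup G, L = Subgroup.centralizer ({c} : Set G) := ⟨_, rfl⟩
  have hmemL : ∀ x : G, x ∈ L ↔ c * x = x * c := by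
    intro x
    rw [hLdef, Subgroup.mem_centralizer_iff]
    constructor
    · intro h
      exact h c rfl
    · intro h y hy
      rw [Set.mem_singleton_iff] at hy
      rw [hy]
      exact h
  have hLne : L ≠ ⊤ := by
    intro hL
    have hcen : ∀ g : G, c * g = g * c := fun g =>
      (hmemL g).mp (by rw [hL]; exact Subgroup.mem_top g)
    have hnorm : (Subgroup.zpowers c).Normal := by
      constructor
      intro n hn g
      obtain ⟨k, rfl⟩ := Subgroup.mem_zpowers_iff.mp hn
      have hc : Commute c g := hcen g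
      have h1 := (hc.zpow_left k).eq
      have h2 : g * c ^ k * g⁻¹ = c ^ k := by
        rw [← h1, mul_assoc, mul_inv_cancel, mul_one]
      rw [h2]
      exact hn
    have hodd : Odd (Nat.card (Subgroup.zpowers c)) := by
      rw [Nat.card_zpowers]
      exact hcodd
    have := hNO _ hnorm hodd
    exact hc1 (Subgroup.zpowers_eq_bot.mp this)
  have hPL : (P : Subgroup G) ≤ L := by
    intro s hs
    rw [hmemL]
    exact ((mem_MT P c).mp hcP s hs).symm
  have hQL : (Q : Subgroup G) ≤ L := by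
    intro s hs
    rw [hmemL]
    exact ((mem_MT Q c).mp hcQ s hs).symm
  have hML : MT P ≤ L := by
    intro m hm
    rw [hmemL]
    exact MT_comm hH P hPne hcP hm
  obtain ⟨K, hKL, hKnorm, hKodd, hKP, hKQ, hKexp⟩ := nti_core hH IH P Q hP hPQ L hLne hPL hQL
  -- `c ∈ K`
  have hcK : c ∈ K := by
    have hcL : c ∈ L := (hmemL c).mpr rfl
    have h1 : c * c ∈ K := hKexp c hcL u (hPL huP) hu ((mem_MT_iff hH P hu huP c).mp hcP)
    obtain ⟨j, hj⟩ := hcodd
    have h2 : c = (c * c) ^ (j + 1) := by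
      rw [← pow_two, ← pow_mul]
      have h3 : 2 * (j + 1) = orderOf c + 1 := by omega
      rw [h3, pow_succ, pow_orderOf_eq_one, one_mul]
    rw [h2]
    exact K.pow_mem h1 _
  obtain ⟨T, hT, hTmem⟩ := sub_good hH L P Q hP hPQ hPL hQL
  have hHL : Hyp L := sub_hyp hH L
  -- (2) `L ≤ C(K)`
  have hLK : L ≤ Subgroup.centralizer (K : Set G) := by
    obtain ⟨K', hK'def⟩ : ∃ K' : Subgroup L, K' = K.subgroupOf L := ⟨_, rfl⟩
    have hmemK' : ∀ x : L, x ∈ K' ↔ (x : G) ∈ K := by
      intro x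
      rw [hK'def, Subgroup.mem_subgroupOf]
    have hK'n : K'.Normal := by
      constructor
      intro n hn g
      rw [hmemK'] at hn ⊢
      have := hKnorm (g : G) g.2 (n : G) hn
      rw [Subgroup.coe_mul, Subgroup.coe_mul, Subgroup.coe_inv]
      exact this
    have hK'odd : Odd (Nat.card K') := by
      have h1 : Nat.card K' = Nat.card K := by
        rw [hK'def]
        exact Nat.card_congr (Subgroup.subgroupOfEquivOfLe hKL).toEquiv
      rw [h1]
      exact hKodd
    have hZ : Subgroup.centralizer ((K' : Subgroup L) : Set L) = ⊤ := by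
      apply gen_top hHL T hT
      · intro m hm
        rw [Subgroup.mem_centralizer_iff]
        intro k hk
        have hkK : (k : G) ∈ K := (hmemK' k).mp hk
        have hmP : (m : G) ∈ MT P := by
          rw [mem_MT]
          intro s hs
          have hsT : (⟨s, hPL hs⟩ : L) ∈ (T : Subgroup L) := (hTmem _).mpr hs
          have h1 := (mem_MT T m).mp hm _ hsT
          have h2 := congrArg (fun z : L => (z : G)) h1
          simpa using h2
        exact Subtype.ext (MT_comm hH P hPne (hKP hkK) hmP)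
      · intro t ht
        obtain ⟨R, hR⟩ := exists_syl_of_inv ht
        have hRg : Good R := good_all hT R
        have hle := odd_normal_le_MT hHL R hRg.1 K' hK'n hK'odd
        rw [Subgroup.mem_centralizer_iff]
        intro k hk
        exact ((mem_MT R k).mp (hle hk) t hR).symm
    intro x hx
    rw [Subgroup.mem_centralizer_iff]
    intro k hk
    have hxZ : (⟨x, hx⟩ : L) ∈ Subgroup.centralizer ((K' : Subgroup L) : Set L) := by
      rw [hZ]
      exact Subgroup.mem_top _
    have h1 := (Subgroup.mem_centralizer_iff.mp hxZ) ⟨k, hKL hk⟩ ((hmemK' _).mpr hk)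
    have h2 := congrArg (fun z : L => (z : G)) h1
    simpa using h2
  have hKL' : Subgroup.centralizer (K : Set G) ≤ L := by
    intro x hx
    rw [hmemL]
    exact (Subgroup.mem_centralizer_iff.mp hx) c hcK
  have hEq : Subgroup.centralizer (K : Set G) = L := le_antisymm hKL' hLK
  refine ⟨K, hKodd, hKP, hKQ, ?_, ?_, ?_⟩
  · rw [hEq]
    exact hLne
  · rw [hEq]
    -- (3) `NT P ≤ L`
    intro h hh
    have hvP : h * u * h⁻¹ ∈ (P : Subgroup G) := (Subgroup.mem_normalizer_iff.mp hh u).mp huP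
    have hvo : orderOf (h * u * h⁻¹) = 2 := by
      rw [orderOf_conj_eq]
      exact hu
    have hu' : orderOf (⟨u, hPL huP⟩ : L) = 2 := by
      rw [Subgroup.orderOf_mk]
      exact hu
    have hv' : orderOf (⟨h * u * h⁻¹, hPL hvP⟩ : L) = 2 := by
      rw [Subgroup.orderOf_mk]
      exact hvo
    obtain ⟨h', -, hh'⟩ := NT_trans hHL T hT hu' ((hTmem _).mpr huP) hv' ((hTmem _).mpr hvP)
    have h1 : (h' : G) * u * (h' : G)⁻¹ = h * u * h⁻¹ := by
      have := congrArg (fun z : L => (z : G)) hh'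
      simpa using this
    have h2 : ((h' : G)⁻¹ * h) * u = u * ((h' : G)⁻¹ * h) := by
      calc ((h' : G)⁻¹ * h) * u = (h' : G)⁻¹ * (h * u * h⁻¹) * h := by group
        _ = (h' : G)⁻¹ * ((h' : G) * u * (h' : G)⁻¹) * h := by rw [h1]
        _ = u * ((h' : G)⁻¹ * h) := by group
    have h3 : (h' : G)⁻¹ * h ∈ L := hML ((mem_MT_iff hH P hu huP _).mpr h2)
    have h4 : h = (h' : G) * ((h' : G)⁻¹ * h) := by group
    rw [h4]
    exact L.mul_mem h'.2 h3
  · rw [hEq]
    exact hKexp

example {G : Type u} [Group G] [Finite G] (hH : Hyp G) (hNO : NoOdd G)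
    (IH : ∀ (X : Type u) [Group X] [Finite X], Nat.card X < Nat.card G → Hyp X →
      (∃ T : Sylow 2 X, Good T) → NoOdd X → Exp2 X)
    (P Q : Sylow 2 G) (hP : Good P) (hPQ : P ≠ Q) {c : G} (hc1 : c ≠ 1) (hcP : c ∈ MT P)
    (hcQ : c ∈ MT Q) :
    ∃ K : Subgroup G, Odd (Nat.card K) ∧ K ≤ MT P ∧ K ≤ MT Q ∧
      Subgroup.centralizer (K : Set G) ≠ ⊤ ∧ NT P ≤ Subgroup.centralizer (K : Set G) ∧
      (∀ x ∈ Subgroup.centralizer (K : Set G), ∀ u ∈ Subgroup.centralizer (K : Set G),
        orderOf u = 2 → x * u = u * x → x * x ∈ K) :=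
  nti_struct hH hNO IH P Q hP hPQ hc1 hcP hcQ

end Cfsg.Agent.H11.AIC
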