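import Cfsg.Agent.H26.AIC.Basic

set_option autoImplicit false
set_option linter.style.haveILetI false
set_option linter.unusedSectionVars false
set_option linter.unusedVariables false

/-! S2202 piece SLCA: centralizers of non-identity elements of `SL(2,F)`, char 2, are commutative. -/

namespace Cfsg.Agent.H11.AIC

open Subgroup Cfsg.Agent.H26 Cfsg.Agent.H26.AIC

theorem cross_aux {F : Type*} [Field F] (u1 u2 u3 w1 w2 w3 v1 v2 v3 : F)
    (hv : v1 ≠ 0 ∨ v2 ≠ 0 ∨ v3 ≠ 0)
    (h12 : u1 * v2 = u2 * v1) (h13 : u1 * v3 = u3 * v1) (h23 : u2 * v3 = u3 * v2)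
    (k12 : w1 * v2 = w2 * v1) (k13 : w1 * v3 = w3 * v1) (k23 : w2 * v3 = w3 * v2) :
    u1 * w2 = u2 * w1 ∧ u1 * w3 = u3 * w1 ∧ u2 * w3 = u3 * w2 := by
  rcases hv with hv | hv | hv
  · refine ⟨mul_left_cancel₀ hv ?_, mul_left_cancel₀ hv ?_, mul_left_cancel₀ hv ?_⟩
    · linear_combination -u1 * k12 + w1 * h12
    · linear_combination -u1 * k13 + w1 * h13
    · linear_combination w1 * h23 - u2 * k13 + u3 * k12
  · refine ⟨mul_left_cancel₀ hv ?_, mul_left_cancel₀ hv ?_, mul_left_cancel₀ hv ?_⟩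
    · linear_combination w2 * h12 - u2 * k12
    · linear_combination w3 * h12 + w1 * h23 - u2 * k13
    · linear_combination -u2 * k23 + w2 * h23
  · refine ⟨mul_left_cancel₀ hv ?_, mul_left_cancel₀ hv ?_, mul_left_cancel₀ hv ?_⟩
    · linear_combination w2 * h13 - w1 * h23 - u3 * k12
    · linear_combination w3 * h13 - u3 * k13
    · linear_combination w3 * h23 - u3 * k23

theorem sl2_cent_comm (F : Type*) [Field F] [CharP F 2] (x a b : Matrix.SpecialLinearGroup (Fin 2) F)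
    (hx : x ≠ 1) (ha : a * x = x * a) (hb : b * x = x * b) : a * b = b * a := by
  have hdet : x.1 0 0 * x.1 1 1 - x.1 0 1 * x.1 1 0 = 1 := by
    have := x.2
    rwa [Matrix.det_fin_two] at this
  have h2 : (2 : F) = 0 := CharTwo.two_eq_zero
  -- the vector `(x01, x10, x00 - x11)` is nonzero
  have hv : x.1 0 1 ≠ 0 ∨ x.1 1 0 ≠ 0 ∨ x.1 0 0 - x.1 1 1 ≠ 0 := by
    by_contra hcon
    push Not at hcon
    obtain ⟨h01, h10, hd⟩ := hcon
    have hps : x.1 0 0 = x.1 1 1 := sub_eq_zero.mp hd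
    have hsq : (x.1 0 0 - 1) * (x.1 0 0 - 1) = 0 := by
      linear_combination hdet + x.1 0 0 * hd + x.1 0 1 * h10 + (1 - x.1 0 0) * h2
    have hp1 : x.1 0 0 = 1 := by
      rcases mul_self_eq_zero.mp hsq with h
      exact sub_eq_zero.mp h
    apply hx
    ext i j
    fin_cases i <;> fin_cases j
    · simpa using hp1
    · simpa using h01
    · simpa using h10
    · simpa using (hps.symm.trans hp1)
  have hA := congrArg Subtype.val ha
  have hB := congrArg Subtype.val hb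
  simp only [Matrix.SpecialLinearGroup.coe_mul] at hA hB
  have hA00 := congrFun (congrFun hA 0) 0
  have hA01 := congrFun (congrFun hA 0) 1
  have hA10 := congrFun (congrFun hA 1) 0
  have hB00 := congrFun (congrFun hB 0) 0
  have hB01 := congrFun (congrFun hB 0) 1
  have hB10 := congrFun (congrFun hB 1) 0
  simp only [Matrix.mul_apply, Fin.sum_univ_two] at hA00 hA01 hA10 hB00 hB01 hB10
  obtain ⟨c1, c2, c3⟩ := cross_aux (a.1 0 1) (a.1 1 0) (a.1 0 0 - a.1 1 1)
    (b.1 0 1) (b.1 1 0) (b.1 0 0 - b.1 1 1) (x.1 0 1) (x.1 1 0) (x.1 0 0 - x.1 1 1) hv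
    (by linear_combination hA00) (by linear_combination -hA01) (by linear_combination hA10)
    (by linear_combination hB00) (by linear_combination -hB01) (by linear_combination hB10)
  ext i j
  simp only [Matrix.SpecialLinearGroup.coe_mul, Matrix.mul_apply, Fin.sum_univ_two]
  fin_cases i <;> fin_cases j
  · show a.1 0 0 * b.1 0 0 + a.1 0 1 * b.1 1 0 = b.1 0 0 * a.1 0 0 + b.1 0 1 * a.1 1 0
    linear_combination c1
  · show a.1 0 0 * b.1 0 1 + a.1 0 1 * b.1 1 1 = b.1 0 0 * a.1 0 1 + b.1 0 1 * a.1 1 1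
    linear_combination -c2
  · show a.1 1 0 * b.1 0 0 + a.1 1 1 * b.1 1 0 = b.1 1 0 * a.1 0 0 + b.1 1 1 * a.1 1 0
    linear_combination c3
  · show a.1 1 0 * b.1 0 1 + a.1 1 1 * b.1 1 1 = b.1 1 0 * a.1 0 1 + b.1 1 1 * a.1 1 1
    linear_combination -c1

example (F : Type*) [Field F] [CharP F 2] (x a b : Matrix.SpecialLinearGroup (Fin 2) F)
    (hx : x ≠ 1) (ha : a * x = x * a) (hb : b * x = x * b) : a * b = b * a :=
  sl2_cent_comm F x a b hx ha hb

end Cfsg.Agent.H11.AIC

#print axioms Cfsg.Agent.H11.AIC.sl2_cent_comm
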