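import Cfsg.Agent.H26.AIC.Basic

set_option autoImplicit false
set_option linter.style.haveILetI false
set_option linter.unusedSectionVars false
set_option linter.unusedVariables false

/-! S2202 piece TRANSFER: an abelian Sylow subgroup meets `Z(G) ∩ G'` trivially. -/

namespace Cfsg.Agent.H11.AIC

open Subgroup Cfsg.Agent.H26 Cfsg.Agent.H26.AIC

theorem center_inf_commutator_sylow {G : Type*} [Group G] [Finite G] {p : ℕ} [Fact p.Prime]
    (P : Sylow p G) (hP : ∀ a ∈ (P : Subgroup G), ∀ b ∈ (P : Subgroup G), a * b = b * a) {z : G}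
    (hzP : z ∈ (P : Subgroup G)) (hzZ : z ∈ Subgroup.center G) (hzC : z ∈ commutator G) : z = 1 := by
  classical
  letI : CommGroup (P : Subgroup G) :=
    { (inferInstance : Group (P : Subgroup G)) with
      mul_comm := fun a b => Subtype.ext (hP a.1 a.2 b.1 b.2) }
  have hfi : (P : Subgroup G).FiniteIndex := inferInstance
  let V : G →* (P : Subgroup G) := MonoidHom.transfer (MonoidHom.id (P : Subgroup G))
  have hker : z ∈ V.ker := Abelianization.commutator_subset_ker V hzC
  have hV : V z = 1 := MonoidHom.mem_ker.mp hker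
  have key : ∀ (k : ℕ) (g₀ : G), g₀⁻¹ * z ^ k * g₀ ∈ (P : Subgroup G) →
      g₀⁻¹ * z ^ k * g₀ = z ^ k := by
    intro k g₀ _
    have hc : z ^ k ∈ Subgroup.center G := Subgroup.pow_mem _ hzZ k
    have := Subgroup.mem_center_iff.mp hc g₀
    rw [mul_assoc, ← this, ← mul_assoc, inv_mul_cancel, one_mul]
  have hpow : V z = MonoidHom.id (P : Subgroup G)
      ⟨z ^ (P : Subgroup G).index, (P : Subgroup G).pow_mem hzP _⟩ := by
    have := MonoidHom.transfer_eq_pow (MonoidHom.id (P : Subgroup G)) z key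
    exact this
  have hzi : z ^ (P : Subgroup G).index = 1 := by
    have h1 := hpow.symm.trans hV
    have h2 := congrArg Subtype.val h1
    simpa using h2
  obtain ⟨k, hk⟩ := (P.2 ⟨z, hzP⟩)
  have hzk : z ^ p ^ k = 1 := by
    have := congrArg Subtype.val hk
    simpa using this
  have hcop : Nat.Coprime ((P : Subgroup G).index) (p ^ k) := by
    apply Nat.Coprime.pow_right
    rw [Nat.coprime_comm]
    exact (Nat.Prime.coprime_iff_not_dvd (Fact.out : p.Prime)).mpr P.not_dvd_index
  have h1 := orderOf_dvd_of_pow_eq_one hzi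
  have h2 := orderOf_dvd_of_pow_eq_one hzk
  have h3 := Nat.dvd_gcd h1 h2
  rw [hcop] at h3
  exact orderOf_eq_one_iff.mp (Nat.dvd_one.mp h3)

example {G : Type*} [Group G] [Finite G] {p : ℕ} [Fact p.Prime]
    (P : Sylow p G) (hP : ∀ a ∈ (P : Subgroup G), ∀ b ∈ (P : Subgroup G), a * b = b * a) {z : G}
    (hzP : z ∈ (P : Subgroup G)) (hzZ : z ∈ Subgroup.center G) (hzC : z ∈ commutator G) : z = 1 :=
  center_inf_commutator_sylow P hP hzP hzZ hzC

end Cfsg.Agent.H11.AIC

#print axioms Cfsg.Agent.H11.AIC.center_inf_commutator_sylow
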