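import Cfsg.Agent.H11.FourCore
import Cfsg.Agent.S0111

set_option autoImplicit false

namespace Cfsg.Agent.H11

open Pointwise

universe u

/-- `Y` has a normal `2`-complement (stated as: a normal subgroup of odd order and `2`-power index). -/
def HasN2C (Y : Type*) [Group Y] : Prop :=
  ∃ K : Subgroup Y, K.Normal ∧ Odd (Nat.card K) ∧ ∃ k : ℕ, K.index = 2 ^ k

theorem orderOf_conj_eq {Y : Type*} [Group Y] (g x : Y) : orderOf (g * x * g⁻¹) = orderOf x := by
  simpa using (MulAut.conj g).orderOf_eq x

/-- A normal subgroup of `2`-power index contains every element of odd order. -/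
theorem mem_of_odd_orderOf {Y : Type*} [Group Y] [Finite Y] (K : Subgroup Y) [K.Normal] {k : ℕ}
    (hK : K.index = 2 ^ k) {y : Y} (hy : Odd (orderOf y)) : y ∈ K := by
  have h1 : y ^ (2 ^ k) ∈ K := hK ▸ K.pow_index_mem y
  have hcop : Nat.Coprime (2 ^ k) (orderOf y) := by
    apply Nat.Coprime.pow_left
    exact Nat.coprime_two_left.mpr hy
  by_cases h1' : orderOf y = 1
  · rw [orderOf_eq_one_iff] at h1'
    rw [h1']; exact K.one_mem
  have hlt : 1 < orderOf y := by
    have := orderOf_pos y
    omega
  obtain ⟨m, hm⟩ := Nat.exists_mul_mod_eq_one_of_coprime hcop hlt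
  have h2 : y ^ (2 ^ k * m) = y := by
    rw [← pow_mod_orderOf, hm.2, pow_one]
  rw [← h2, pow_mul]
  exact K.pow_mem h1 m

/-- A cyclic Sylow `2`-subgroup has a normal complement. -/
theorem hasN2C_of_isCyclic_sylow {Y : Type*} [Group Y] [Finite Y] (P : Sylow 2 Y)
    (hP : IsCyclic (P : Subgroup Y)) : HasN2C Y := by
  by_cases h2 : 2 ∣ Nat.card Y
  · have hp : (Nat.card Y).minFac = 2 := (Nat.minFac_eq_two_iff _).mpr h2
    have hc := IsCyclic.isComplement' hp hP
    refine ⟨(MonoidHom.transferSylow P (hP.normalizer_le_centralizer hp)).ker,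
      MonoidHom.normal_ker _, ?_, ?_⟩
    · rw [← Nat.not_even_iff_odd, even_iff_two_dvd, ← hc.index_eq_card]
      exact P.not_dvd_index
    · rw [hc.symm.index_eq_card]
      exact (P.2.exists_card_eq)
  · refine ⟨⊤, inferInstance, ?_, 0, by simp⟩
    rw [← Nat.not_even_iff_odd, even_iff_two_dvd, Subgroup.card_top]
    exact h2

/-- A Sylow `2`-subgroup of order at most `2` is cyclic. -/
theorem isCyclic_of_card_le_two {Y : Type*} [Group Y] [Finite Y] (P : Subgroup Y)
    (hP : Nat.card P ≤ 2) : IsCyclic P := by
  have hpos : 0 < Nat.card P := Nat.card_pos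
  rcases (by omega : Nat.card P = 1 ∨ Nat.card P = 2) with h | h
  · have : Subsingleton P := (Nat.card_eq_one_iff_unique.mp h).1
    exact isCyclic_of_subsingleton
  · have : Fact (Nat.Prime 2) := ⟨Nat.prime_two⟩
    exact isCyclic_of_prime_card h

/-- Lifting a normal `2`-complement from a normal subgroup of index `2`. -/
theorem hasN2C_of_index_two {Y : Type*} [Group Y] [Finite Y] (Y₁ : Subgroup Y) [Y₁.Normal]
    (hi : Y₁.index = 2) (h : HasN2C Y₁) : HasN2C Y := by
  obtain ⟨K₁, hK₁n, hK₁o, k, hk⟩ := h
  refine ⟨K₁.map Y₁.subtype, ⟨?_⟩, ?_, k + 1, ?_⟩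
  · intro n hn g
    obtain ⟨n₁, hn₁, rfl⟩ := Subgroup.mem_map.mp hn
    have hmem : g * (n₁ : Y) * g⁻¹ ∈ Y₁ := Subgroup.Normal.conj_mem inferInstance _ n₁.2 g
    refine Subgroup.mem_map.mpr ⟨⟨_, hmem⟩, ?_, rfl⟩
    apply mem_of_odd_orderOf K₁ hk
    have h1 : orderOf (⟨g * (n₁ : Y) * g⁻¹, hmem⟩ : Y₁) = orderOf n₁ := by
      rw [← Subgroup.orderOf_coe, ← Subgroup.orderOf_coe n₁]
      exact orderOf_conj_eq _ _
    rw [h1]
    have h2 : orderOf n₁ ∣ Nat.card K₁ := by
      have := orderOf_dvd_natCard (⟨n₁, hn₁⟩ : K₁)
      rwa [← Subgroup.orderOf_coe] at this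
    exact Odd.of_dvd_nat hK₁o h2
  · rw [Subgroup.card_map_of_injective Y₁.subtype_injective]
    exact hK₁o
  · rw [Subgroup.index_map_subtype, hk, hi, pow_succ]

/-- In a cyclic group there is at most one involution. -/
theorem involution_unique_of_isCyclic {C : Type*} [Group C] [Finite C] [IsCyclic C] {a b : C}
    (ha : orderOf a = 2) (hb : orderOf b = 2) : a = b := by
  classical
  have : Fintype C := Fintype.ofFinite C
  have h := IsCyclic.card_pow_eq_one_le (α := C) (n := 2) (by norm_num)
  by_contra hab
  have ha1 : a ≠ 1 := by intro h; rw [h, orderOf_one] at ha; omega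
  have hb1 : b ≠ 1 := by intro h; rw [h, orderOf_one] at hb; omega
  have hsub : ({1, a, b} : Finset C) ⊆ Finset.univ.filter (fun x : C => x ^ 2 = 1) := by
    intro x hx
    simp only [Finset.mem_insert, Finset.mem_singleton] at hx
    simp only [Finset.mem_filter, Finset.mem_univ, true_and]
    rcases hx with rfl | rfl | rfl
    · simp
    · rw [← ha]; exact pow_orderOf_eq_one _
    · rw [← hb]; exact pow_orderOf_eq_one _
  have h3 : ({1, a, b} : Finset C).card = 3 := by
    rw [Finset.card_insert_of_notMem, Finset.card_insert_of_notMem, Finset.card_singleton]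
    · simpa using hab
    · simp [Ne.symm ha1, Ne.symm hb1]
  have := Finset.card_le_card hsub
  omega

/-- If a Sylow `2`-subgroup of `X` embeds in `D`, so does every `2`-subgroup of every subgroup. -/
theorem exists_embedding_of_sylow {X : Type*} [Group X] [Finite X] {D : Type*} [Group D]
    (S : Sylow 2 X) (e : (S : Subgroup X) →* D) (he : Function.Injective e)
    (Y : Subgroup X) (Q : Subgroup Y) (hQ : IsPGroup 2 Q) :
    ∃ f : Q →* D, Function.Injective f := by
  have : Fact (Nat.Prime 2) := ⟨Nat.prime_two⟩
  have hQ' : IsPGroup 2 (Q.map Y.subtype) := hQ.map _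
  obtain ⟨g, -, hg⟩ := exists_conj_le_of_le_of_sylow S (H := ⊤) le_top le_top hQ'
  have hmem : ∀ x : Q, g⁻¹ * ((x : Y) : X) * g ∈ (S : Subgroup X) := by
    intro x
    have : ((x : Y) : X) ∈ Q.map Y.subtype := Subgroup.mem_map.mpr ⟨x, x.2, rfl⟩
    exact mem_cj.mp (hg this)
  let φ : Q →* (S : Subgroup X) :=
    { toFun := fun x => ⟨g⁻¹ * ((x : Y) : X) * g, hmem x⟩
      map_one' := by ext; simp
      map_mul' := by intro x y; ext; simp [mul_assoc] }
  refine ⟨e.comp φ, he.comp ?_⟩
  intro x y hxy
  have h1 : g⁻¹ * ((x : Y) : X) * g = g⁻¹ * ((y : Y) : X) * g := congrArg Subtype.val hxy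
  have h2 : ((x : Y) : X) = ((y : Y) : X) := by simpa using h1
  exact Subtype.ext (Subtype.ext h2)

/-- Embeddability of all `2`-subgroups passes to subgroups. -/
theorem embedding_subgroup {Y : Type*} [Group Y] {D : Type*} [Group D]
    (hemb : ∀ Q : Subgroup Y, IsPGroup 2 Q → ∃ f : Q →* D, Function.Injective f)
    (Y₁ : Subgroup Y) (Q : Subgroup Y₁) (hQ : IsPGroup 2 Q) :
    ∃ f : Q →* D, Function.Injective f := by
  obtain ⟨f, hf⟩ := hemb (Q.map Y₁.subtype) (hQ.map _)
  exact ⟨f.comp (Q.equivMapOfInjective Y₁.subtype Y₁.subtype_injective).toMonoidHom,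
    hf.comp (MulEquiv.injective _)⟩

/-- Main induction: a finite group all of whose `2`-subgroups embed in a fixed dihedral group and
which has a central involution has a normal `2`-complement. -/
theorem hasN2C_of_dihedral_aux (m : ℕ) : ∀ (N : ℕ) (Y : Type u) [Group Y] [Finite Y],
    Nat.card Y ≤ N →
    (∀ Q : Subgroup Y, IsPGroup 2 Q → ∃ f : Q →* DihedralGroup m, Function.Injective f) →
    (∃ t : Y, t ∈ Subgroup.center Y ∧ orderOf t = 2) → HasN2C Y := by
  intro N
  induction N with
  | zero =>
    intro Y _ _ hN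
    have := Nat.card_pos (α := Y)
    omega
  | succ N ih =>
    intro Y _ _ hN hemb ⟨t, htc, ht2⟩
    have : Fact (Nat.Prime 2) := ⟨Nat.prime_two⟩
    have hzp : IsPGroup 2 (Subgroup.zpowers t) := by
      apply IsPGroup.of_card (n := 1)
      rw [Nat.card_zpowers, ht2, pow_one]
    obtain ⟨T, hT⟩ := hzp.exists_le_sylow
    have htT : t ∈ (T : Subgroup Y) := hT (Subgroup.mem_zpowers t)
    obtain ⟨f, hf⟩ := hemb T T.2
    let R : Subgroup (DihedralGroup m) := Subgroup.zpowers (DihedralGroup.r 1)
    have hrR : ∀ i : ZMod m, DihedralGroup.r i ∈ R := by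
      intro i
      refine ⟨(i.cast : ℤ), ?_⟩
      simp
    have hsrR : ∀ i : ZMod m, DihedralGroup.sr i ∉ R := by
      rintro i ⟨k, hk⟩
      simp at hk
    let M₀ : Subgroup T := R.comap f
    have hM₀mem : ∀ x : T, x ∈ M₀ ↔ f x ∈ R := fun x => Iff.rfl
    by_cases hM : M₀ = ⊤
    · have hall : ∀ x : T, f x ∈ R := by
        intro x
        have : x ∈ M₀ := hM ▸ Subgroup.mem_top x
        exact this
      have hcyc : IsCyclic (T : Subgroup Y) :=
        isCyclic_of_injective (f.codRestrict R hall) (by
          intro x y hxy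
          apply hf
          exact congrArg Subtype.val hxy)
      exact hasN2C_of_isCyclic_sylow T hcyc
    · obtain ⟨u₀, hu₀⟩ : ∃ u₀ : T, u₀ ∉ M₀ := by
        by_contra hcon
        apply hM
        rw [eq_top_iff]
        intro x _
        by_contra hx
        exact hcon ⟨x, hx⟩
      obtain ⟨i, hi⟩ : ∃ i, f u₀ = DihedralGroup.sr i := by
        cases hfu : f u₀ with
        | r j => exact absurd ((hM₀mem u₀).mpr (hfu ▸ hrR j)) hu₀
        | sr i => exact ⟨i, rfl⟩
      have hM2 : M₀.index = 2 := by
        rw [Subgroup.index_eq_two_iff]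
        refine ⟨u₀, fun b => ?_⟩
        rw [hM₀mem, hM₀mem, map_mul, hi]
        cases hfb : f b with
        | r j =>
          rw [DihedralGroup.r_mul_sr]
          exact Or.inr ⟨hrR j, hsrR _⟩
        | sr j =>
          rw [DihedralGroup.sr_mul_sr]
          exact Or.inl ⟨hrR _, hsrR j⟩
      have hM₀cyc : IsCyclic M₀ :=
        isCyclic_of_injective ((f.comp M₀.subtype).codRestrict R (fun x => x.2)) (by
          intro x y hxy
          apply Subtype.ext
          apply hf
          exact congrArg Subtype.val hxy)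
      let Q : Subgroup Y := M₀.map (T : Subgroup Y).subtype
      have hQT : Q ≤ (T : Subgroup Y) := by
        intro x hx
        obtain ⟨y, -, rfl⟩ := Subgroup.mem_map.mp hx
        exact y.2
      have hQmem : ∀ x : T, (x : Y) ∈ Q ↔ x ∈ M₀ := by
        intro x
        constructor
        · intro hx
          obtain ⟨y, hy, hyx⟩ := Subgroup.mem_map.mp hx
          have : y = x := Subtype.ext hyx
          exact this ▸ hy
        · intro hx; exact Subgroup.mem_map.mpr ⟨x, hx, rfl⟩
      have hrel : Q.relIndex (T : Subgroup Y) = 2 := by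
        have : Q.subgroupOf (T : Subgroup Y) = M₀ :=
          Subgroup.comap_map_eq_self_of_injective (Subgroup.subtype_injective _) M₀
        rw [Subgroup.relIndex, this, hM2]
      have hQcyc : IsCyclic Q :=
        isCyclic_of_injective
          (M₀.equivMapOfInjective (T : Subgroup Y).subtype (Subgroup.subtype_injective _)).symm.toMonoidHom
          (MulEquiv.injective _)
      have hQinv : ∀ a b : Y, a ∈ Q → b ∈ Q → orderOf a = 2 → orderOf b = 2 → a = b := by
        intro a b ha hb ha2 hb2
        have := involution_unique_of_isCyclic (C := Q) (a := ⟨a, ha⟩) (b := ⟨b, hb⟩)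
          (by rw [Subgroup.orderOf_mk]; exact ha2) (by rw [Subgroup.orderOf_mk]; exact hb2)
        exact congrArg Subtype.val this
      have hu₀2 : orderOf (u₀ : Y) = 2 := by
        rw [Subgroup.orderOf_coe, ← orderOf_injective f hf, hi, DihedralGroup.orderOf_sr]
      have hu₀Q : (u₀ : Y) ∉ Q := fun h => hu₀ ((hQmem u₀).mp h)
      obtain ⟨u, hu2, huT, huQ, hconj⟩ : ∃ u : Y, orderOf u = 2 ∧ u ∈ (T : Subgroup Y) ∧ u ∉ Q ∧
          ∀ g : Y, g * u * g⁻¹ ∉ Q := by
        by_cases htQ : t ∈ Q
        · refine ⟨u₀, hu₀2, u₀.2, hu₀Q, fun g hg => ?_⟩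
          have h1 : g * (u₀ : Y) * g⁻¹ = t :=
            hQinv _ _ hg htQ (by rw [orderOf_conj_eq]; exact hu₀2) ht2
          have h2 : (u₀ : Y) = t := by
            have hc : g⁻¹ * t * g = t := by
              have := Subgroup.mem_center_iff.mp htc g
              rw [mul_assoc, ← this, ← mul_assoc, inv_mul_cancel, one_mul]
            rw [← hc, ← h1]; group
          exact hu₀Q (h2 ▸ htQ)
        · refine ⟨t, ht2, htT, htQ, fun g hg => ?_⟩
          have hc : g * t * g⁻¹ = t := by
            have := Subgroup.mem_center_iff.mp htc g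
            rw [this, mul_assoc, mul_inv_cancel, mul_one]
          exact htQ (hc ▸ hg)
      rcases Cfsg.Agent.S0111.result T Q hQT hrel u hu2 huT huQ with
        ⟨Y₁, hY₁n, hY₁i, huY₁⟩ | ⟨g, hg⟩
      swap
      · exact absurd hg (hconj g)
      have := hY₁n
      apply hasN2C_of_index_two Y₁ hY₁i
      have hcard : Nat.card Y₁ ≤ N := by
        have := Y₁.card_mul_index
        rw [hY₁i] at this
        omega
      by_cases htY₁ : t ∈ Y₁
      · apply ih Y₁ hcard (embedding_subgroup hemb Y₁)
        refine ⟨⟨t, htY₁⟩, ?_, ?_⟩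
        · rw [Subgroup.mem_center_iff]
          intro g
          exact Subtype.ext (Subgroup.mem_center_iff.mp htc g)
        · rw [Subgroup.orderOf_mk]; exact ht2
      · -- the Sylow `2`-subgroups of `Y₁` have order at most `2`
        have hW : Nat.card ((T : Subgroup Y) ⊓ Y₁ : Subgroup Y) ≤ 2 := by
          by_cases htQ : t ∈ Q
          · have hbot : Q ⊓ ((T : Subgroup Y) ⊓ Y₁) = ⊥ := by
              by_contra hne
              have h2 : 2 ∣ Nat.card (Q ⊓ ((T : Subgroup Y) ⊓ Y₁) : Subgroup Y) := by
                have hp : IsPGroup 2 (Q ⊓ ((T : Subgroup Y) ⊓ Y₁) : Subgroup Y) :=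
                  T.2.to_le (inf_le_right.trans inf_le_left)
                obtain ⟨k, hk⟩ := hp.exists_card_eq
                rcases Nat.eq_zero_or_pos k with rfl | hk0
                · rw [pow_zero] at hk
                  exact absurd (Subgroup.card_eq_one.mp hk) hne
                · rw [hk]; exact dvd_pow_self 2 hk0.ne'
              obtain ⟨z, hz⟩ := exists_prime_orderOf_dvd_card' 2 h2
              have hz2 : orderOf (z : Y) = 2 := by rw [Subgroup.orderOf_coe]; exact hz
              have hzt : (z : Y) = t := hQinv _ _ z.2.1 htQ hz2 ht2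
              exact htY₁ (hzt ▸ z.2.2.2)
            have h1 : Nat.card ((T : Subgroup Y) ⊓ Y₁ : Subgroup Y) =
                Q.relIndex ((T : Subgroup Y) ⊓ Y₁) := by
              rw [← Subgroup.inf_relIndex_right, hbot, Subgroup.relIndex_bot_left]
            rw [h1]
            exact le_trans (Subgroup.relIndex_le_of_le_right inf_le_left (by rw [hrel]; norm_num))
              (le_of_eq hrel)
          · -- `f t` is a reflection, so `T` has order at most `4`
            obtain ⟨i', hi'⟩ : ∃ i', f ⟨t, htT⟩ = DihedralGroup.sr i' := by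
              cases hfu : f ⟨t, htT⟩ with
              | r j =>
                exact absurd ((hQmem ⟨t, htT⟩).mpr ((hM₀mem _).mpr (hfu ▸ hrR j))) htQ
              | sr i => exact ⟨i, rfl⟩
            have hsq : ∀ x : M₀, x ^ 2 = 1 := by
              intro x
              obtain ⟨j, hj⟩ : ∃ j, f x = DihedralGroup.r j := by
                cases hfx : f (x : T) with
                | r j => exact ⟨j, rfl⟩
                | sr j => exact absurd (hfx ▸ x.2 : DihedralGroup.sr j ∈ R) (hsrR j)
              have hcomm : (x : T) * ⟨t, htT⟩ = ⟨t, htT⟩ * (x : T) :=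
                Subtype.ext (Subgroup.mem_center_iff.mp htc (x : T))
              have h1 := congrArg f hcomm
              rw [map_mul, map_mul, hj, hi', DihedralGroup.r_mul_sr, DihedralGroup.sr_mul_r] at h1
              have h2 : i' - j = i' + j := by
                injection h1
              have h3 : j + j = 0 := by
                have : (i' + j) - (i' - j) = 0 := by rw [h2]; ring
                rw [← this]; ring
              apply Subtype.ext
              apply hf
              rw [Subgroup.coe_pow, map_pow, hj, pow_two, DihedralGroup.r_mul_r, h3,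
                Subgroup.coe_one, map_one]
              rfl
            have hM₀card : Nat.card M₀ ≤ 2 := by
              have h1 : Monoid.exponent M₀ ∣ 2 := Monoid.exponent_dvd_of_forall_pow_eq_one hsq
              rw [IsCyclic.exponent_eq_card] at h1
              exact Nat.le_of_dvd (by norm_num) h1
            have hTcard : Nat.card (T : Subgroup Y) ≤ 4 := by
              have := M₀.card_mul_index
              rw [hM2] at this
              omega
            have hdvd : Nat.card ((T : Subgroup Y) ⊓ Y₁ : Subgroup Y) ∣ Nat.card (T : Subgroup Y) :=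
              Subgroup.card_dvd_of_le inf_le_left
            have hne : Nat.card ((T : Subgroup Y) ⊓ Y₁ : Subgroup Y) ≠ Nat.card (T : Subgroup Y) := by
              intro heq
              have : ((T : Subgroup Y) ⊓ Y₁ : Subgroup Y) = T :=
                Subgroup.eq_of_le_of_card_ge inf_le_left (le_of_eq heq.symm)
              have h3 : t ∈ ((T : Subgroup Y) ⊓ Y₁ : Subgroup Y) := by rw [this]; exact htT
              exact htY₁ h3.2
            obtain ⟨c, hc⟩ := hdvd
            have hpos : 0 < Nat.card (T : Subgroup Y) := Nat.card_pos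
            have hc2 : 2 ≤ c := by
              rcases Nat.lt_or_ge c 2 with h | h
              · interval_cases c
                · omega
                · omega
              · exact h
            nlinarith
        obtain ⟨P₁⟩ : Nonempty (Sylow 2 Y₁) := inferInstance
        apply hasN2C_of_isCyclic_sylow P₁
        apply isCyclic_of_card_le_two
        have hP₁' : IsPGroup 2 ((P₁ : Subgroup Y₁).map Y₁.subtype) := P₁.2.map _
        obtain ⟨g, -, hg⟩ := exists_conj_le_of_le_of_sylow T (H := ⊤) le_top le_top hP₁'
        have h1 : cj g⁻¹ ((P₁ : Subgroup Y₁).map Y₁.subtype) ≤ (T : Subgroup Y) ⊓ Y₁ := by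
          intro x hx
          rw [mem_cj, inv_inv] at hx
          constructor
          · have := hg hx
            rw [mem_cj] at this
            have e : g⁻¹ * (g * x * g⁻¹) * g = x := by group
            rw [e] at this
            exact this
          · have h2 : g * x * g⁻¹ ∈ Y₁ := by
              obtain ⟨y, -, hy⟩ := Subgroup.mem_map.mp hx
              rw [← hy]; exact y.2
            have := hY₁n.conj_mem _ h2 g⁻¹
            have e : g⁻¹ * (g * x * g⁻¹) * g⁻¹⁻¹ = x := by group
            rw [e] at this
            exact this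
        have h2 := Subgroup.card_le_of_le h1
        rw [card_cj, Subgroup.card_map_of_injective Y₁.subtype_injective] at h2
        exact le_trans h2 hW

/-- A finite group all of whose `2`-subgroups embed in a fixed dihedral group and which has a
central involution has a normal `2`-complement. -/
theorem hasN2C_of_dihedral {Y : Type u} [Group Y] [Finite Y] (m : ℕ)
    (hemb : ∀ Q : Subgroup Y, IsPGroup 2 Q → ∃ f : Q →* DihedralGroup m, Function.Injective f)
    (t : Y) (htc : t ∈ Subgroup.center Y) (ht2 : orderOf t = 2) : HasN2C Y :=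
  hasN2C_of_dihedral_aux m (Nat.card Y) Y le_rfl hemb ⟨t, htc, ht2⟩

end Cfsg.Agent.H11
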