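import Mathlib
import Cfsg.Agent.S0015
import Cfsg.Agent.S0127
import Cfsg.Agent.H59.CyclicMax
import Cfsg.Agent.H59.Quaternion
import Cfsg.Agent.H3.Dihedral
import Cfsg.Agent.H3.MaxAbelian
import Cfsg.Agent.H11.Dihedral2
import Cfsg.Prelude.Def_CaseTheorems

set_option autoImplicit false

namespace Cfsg.Agent.H11

/-- A finite group has a maximal normal abelian subgroup. -/
theorem exists_max_normal_abelian (P : Type*) [Group P] [Finite P] :
    ∃ A : Subgroup P, A.Normal ∧ IsMulCommutative A ∧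
      ∀ M : Subgroup P, M.Normal → IsMulCommutative M → A ≤ M → M = A := by
  have hne : ({A : Subgroup P | A.Normal ∧ IsMulCommutative A}).Nonempty :=
    ⟨⊥, inferInstance, ⟨⟨fun a b => Subsingleton.elim _ _⟩⟩⟩
  obtain ⟨A, ⟨hA1, hA2⟩, hmax⟩ := Set.exists_max_image
    {A : Subgroup P | A.Normal ∧ IsMulCommutative A} (fun A => Nat.card A) (Set.toFinite _) hne
  refine ⟨A, hA1, hA2, ?_⟩
  intro M hM1 hM2 hAM
  exact (Subgroup.eq_of_le_of_card_ge hAM (hmax M ⟨hM1, hM2⟩)).symm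

/-- The closure of a conjugation-invariant set is a normal subgroup. -/
theorem closure_normal_of_conj {P : Type*} [Group P] (s : Set P)
    (h : ∀ g x, x ∈ s → g * x * g⁻¹ ∈ s) : (Subgroup.closure s).Normal := by
  constructor
  intro x hx g
  induction hx using Subgroup.closure_induction with
  | mem x hx => exact Subgroup.subset_closure (h g x hx)
  | one => simp
  | mul x y _ _ ihx ihy =>
    have : g * (x * y) * g⁻¹ = (g * x * g⁻¹) * (g * y * g⁻¹) := by group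
    rw [this]; exact mul_mem ihx ihy
  | inv x _ ih =>
    have : g * x⁻¹ * g⁻¹ = (g * x * g⁻¹)⁻¹ := by group
    rw [this]; exact inv_mem ih

/-- For odd `p`, a non-cyclic finite `p`-group has a non-cyclic normal abelian subgroup. -/
theorem odd_case_false {P : Type*} [Group P] [Finite P] (p : ℕ) [Fact p.Prime] (hp : p ≠ 2)
    (hP : IsPGroup p P) (hn : ∀ A : Subgroup P, A.Normal → IsMulCommutative A → IsCyclic A)
    (hnc : ¬ IsCyclic P) : False := by
  have hpp : p.Prime := Fact.out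
  obtain ⟨A, hAn, hAc, hmax⟩ := exists_max_normal_abelian P
  have hAcyc : IsCyclic A := hn A hAn hAc
  have hAtop : A ≠ ⊤ := by
    intro h
    apply hnc
    have e : A ≃* P := h ▸ Subgroup.topEquiv
    exact isCyclic_of_surjective e e.surjective
  haveI : A.Normal := hAn
  have hQ : IsPGroup p (P ⧸ A) := hP.to_quotient A
  obtain ⟨x0, hx0⟩ : ∃ x : P, x ∉ A := by
    by_contra hcon
    apply hAtop
    rw [eq_top_iff]
    intro x _
    by_contra hx
    exact hcon ⟨x, hx⟩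
  have hnt : Nontrivial (P ⧸ A) :=
    ⟨⟨(x0 : P ⧸ A), 1, fun h => hx0 ((QuotientGroup.eq_one_iff x0).1 h)⟩⟩
  have hcnt : Nontrivial (Subgroup.center (P ⧸ A)) := hQ.center_nontrivial
  have hcp : IsPGroup p (Subgroup.center (P ⧸ A)) := hQ.to_subgroup _
  have hdvd : p ∣ Nat.card (Subgroup.center (P ⧸ A)) := by
    obtain ⟨n, hn'⟩ := IsPGroup.iff_card.1 hcp
    rw [hn']
    have h1 : 1 < Nat.card (Subgroup.center (P ⧸ A)) := Finite.one_lt_card
    rw [hn'] at h1
    have hn0 : n ≠ 0 := by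
      rintro rfl
      simp at h1
    exact dvd_pow_self p hn0
  obtain ⟨⟨zb, hzc⟩, hzo⟩ := exists_prime_orderOf_dvd_card' p hdvd
  have hzo' : orderOf zb = p := by
    rw [← hzo]; exact (Subgroup.orderOf_mk zb hzc).symm
  -- B = preimage of ⟨zb⟩
  set B : Subgroup P := (Subgroup.zpowers zb).comap (QuotientGroup.mk' A) with hB
  have hZn : (Subgroup.zpowers zb).Normal := ⟨fun n hn' g => by
    have h1 : Subgroup.zpowers zb ≤ Subgroup.center (P ⧸ A) := (Subgroup.zpowers_le).mpr hzc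
    have h2 := Subgroup.mem_center_iff.mp (h1 hn') g
    rw [h2, mul_inv_cancel_right]
    exact hn'⟩
  have hBn : B.Normal := Subgroup.Normal.comap hZn _
  have hAB : A ≤ B := by
    intro a ha
    rw [hB, Subgroup.mem_comap]
    have : (QuotientGroup.mk' A) a = 1 := (QuotientGroup.eq_one_iff a).2 ha
    rw [this]; exact one_mem _
  have hBcard : Nat.card B = Nat.card A * p := by
    rw [hB, Cfsg.Agent.H3.card_comap_mk', Nat.card_zpowers, hzo']
  have hApos : 0 < Nat.card A := Nat.card_pos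
  have hBnc : ¬ IsCyclic B := by
    intro hc
    have hBc : IsMulCommutative B := by
      haveI := hc
      exact ⟨⟨fun a b => (IsCyclic.commGroup (α := B)).mul_comm a b⟩⟩
    have := hmax B hBn hBc hAB
    rw [this] at hBcard
    have h2 : Nat.card A * 1 = Nat.card A * p := by rw [mul_one]; exact hBcard
    have := Nat.eq_of_mul_eq_mul_left hApos h2
    exact hpp.one_lt.ne this
  -- apply S0127 to B
  have hCcyc : IsCyclic (A.subgroupOf B) := by
    have e : A ≃* A.subgroupOf B := (Subgroup.subgroupOfEquivOfLe hAB).symm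
    haveI := hAcyc
    exact isCyclic_of_surjective e e.surjective
  have hCidx : (A.subgroupOf B).index = p := by
    have h1 := Subgroup.card_mul_index (A.subgroupOf B)
    have h2 : Nat.card (A.subgroupOf B) = Nat.card A :=
      Nat.card_congr (Subgroup.subgroupOfEquivOfLe hAB).toEquiv
    rw [h2, hBcard] at h1
    exact Nat.eq_of_mul_eq_mul_left hApos h1
  obtain ⟨⟨hEc, hEexp⟩, hEcard⟩ := Cfsg.Agent.S0127.result hp (hP.to_subgroup B) hBnc
    (A.subgroupOf B) hCcyc hCidx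
  set E : Subgroup P := (Subgroup.closure {x : B | x ^ p = 1}).map B.subtype with hE
  have hEeq : E = Subgroup.closure {x : P | x ∈ B ∧ x ^ p = 1} := by
    rw [hE, MonoidHom.map_closure]
    congr 1
    ext x
    constructor
    · rintro ⟨y, hy, rfl⟩
      refine ⟨y.2, ?_⟩
      have := congrArg Subtype.val (show y ^ p = 1 from hy)
      simpa using this
    · rintro ⟨hxB, hxp⟩
      refine ⟨⟨x, hxB⟩, ?_, rfl⟩
      apply Subtype.ext
      simpa using hxp
  have hEn : E.Normal := by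
    rw [hEeq]
    apply closure_normal_of_conj
    rintro g x ⟨hxB, hxp⟩
    refine ⟨hBn.conj_mem x hxB g, ?_⟩
    rw [conj_pow, hxp, mul_one, mul_inv_cancel]
  have hEcomm : IsMulCommutative E := by
    constructor; constructor
    rintro ⟨a, ha⟩ ⟨b, hb⟩
    obtain ⟨a', ha', rfl⟩ := ha
    obtain ⟨b', hb', rfl⟩ := hb
    apply Subtype.ext
    have := (isMulCommutative_iff.mp hEc) ⟨a', ha'⟩ ⟨b', hb'⟩
    have h2 := congrArg (fun t => B.subtype t.1) this
    simpa using h2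
  have hEcard' : Nat.card E = p ^ 2 := by
    rw [hE, Subgroup.card_map_of_injective B.subtype_injective, hEcard]
  have hEexp' : ∀ x ∈ E, x ^ p = 1 := by
    rintro x ⟨y, hy, rfl⟩
    have := hEexp y hy
    have h2 := congrArg Subtype.val this
    simpa using h2
  have hEcyc := hn E hEn hEcomm
  obtain ⟨g, hg⟩ := IsCyclic.exists_ofOrder_eq_natCard (α := E)
  have hgp : g ^ p = 1 := by
    apply Subtype.ext
    simpa using hEexp' g.1 g.2
  have := orderOf_dvd_of_pow_eq_one hgp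
  rw [hg, hEcard'] at this
  have h3 := Nat.le_of_dvd hpp.pos this
  have h4 : p < p ^ 2 := by
    have := hpp.one_lt
    nlinarith
  omega

section Two

variable {P : Type*} [Group P] [Finite P]

/-- A normal four-group `{1, z, b, zb}` contradicts "normal abelian subgroups are cyclic". -/
theorem four_normal_false
    (hn : ∀ A : Subgroup P, A.Normal → IsMulCommutative A → IsCyclic A)
    (z b : P) (hz1 : z ≠ 1) (hzz : z * z = 1) (hb1 : b ≠ 1) (hbb : b * b = 1) (hzb : z ≠ b)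
    (hcomm : z * b = b * z) (hzc : ∀ h : P, h * z * h⁻¹ = z)
    (hbc : ∀ h : P, h * b * h⁻¹ = b ∨ h * b * h⁻¹ = z * b) : False := by
  set s : Set P := {z, b, z * b} with hs
  have hzs : z ∈ s := by simp [hs]
  have hbs : b ∈ s := by simp [hs]
  have hzbs : z * b ∈ s := by simp [hs]
  have hEn : (Subgroup.closure s).Normal := by
    apply closure_normal_of_conj
    intro g x hx
    rcases hx with rfl | rfl | rfl
    · rw [hzc g]; exact hzs
    · rcases hbc g with h | h <;> rw [h]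
      · exact hbs
      · exact hzbs
    · have : g * (z * b) * g⁻¹ = (g * z * g⁻¹) * (g * b * g⁻¹) := by group
      rw [this, hzc g]
      rcases hbc g with h | h
      · rw [h]; exact hzbs
      · rw [h, ← mul_assoc, hzz, one_mul]; exact hbs
  have h1 : ∀ x ∈ s, x * z = z * x ∧ x * b = b * x := by
    intro x hx
    rcases hx with rfl | rfl | rfl
    · exact ⟨rfl, hcomm⟩
    · exact ⟨hcomm.symm, rfl⟩
    · constructor
      · rw [mul_assoc, ← hcomm]
      · rw [← mul_assoc b, ← hcomm]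
  have hcs : ∀ x ∈ s, ∀ y ∈ s, x * y = y * x := by
    intro x hx y hy
    obtain ⟨hxz, hxb⟩ := h1 x hx
    rcases hy with rfl | rfl | rfl
    · exact hxz
    · exact hxb
    · rw [← mul_assoc, hxz, mul_assoc, hxb, ← mul_assoc]
  have hEc : IsMulCommutative (Subgroup.closure s) := Subgroup.isMulCommutative_closure hcs
  have hcyc := hn _ hEn hEc
  have hzE : z ∈ Subgroup.closure s := Subgroup.subset_closure hzs
  have hbE : b ∈ Subgroup.closure s := Subgroup.subset_closure hbs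
  have hoz : orderOf (⟨z, hzE⟩ : Subgroup.closure s) = 2 := by
    rw [Subgroup.orderOf_mk]; exact orderOf_eq_prime (by rw [pow_two]; exact hzz) hz1
  have hob : orderOf (⟨b, hbE⟩ : Subgroup.closure s) = 2 := by
    rw [Subgroup.orderOf_mk]; exact orderOf_eq_prime (by rw [pow_two]; exact hbb) hb1
  have := involution_unique_of_isCyclic hoz hob
  exact hzb (congrArg Subtype.val this)

/-- Basic facts on the involution `z = a^(2^(k-1))` of a normal cyclic `2`-subgroup `⟨a⟩`. -/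
theorem z_facts (a : P) (k : ℕ) (hk : orderOf a = 2 ^ k) (hk1 : 1 ≤ k)
    (hnorm : ∀ g : P, g * a * g⁻¹ ∈ Subgroup.zpowers a) :
    a ^ (2 ^ (k - 1)) * a ^ (2 ^ (k - 1)) = 1 ∧ a ^ (2 ^ (k - 1)) ≠ 1 ∧
      ∀ g : P, g * a ^ (2 ^ (k - 1)) * g⁻¹ = a ^ (2 ^ (k - 1)) := by
  have hzz : a ^ (2 ^ (k - 1)) * a ^ (2 ^ (k - 1)) = 1 := by
    rw [← pow_add, ← two_mul, ← pow_succ', Nat.sub_add_cancel hk1, ← hk]
    exact pow_orderOf_eq_one a
  have hz1 : a ^ (2 ^ (k - 1)) ≠ 1 := by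
    intro h
    have h3 := orderOf_dvd_of_pow_eq_one h
    rw [hk] at h3
    have h4 := Nat.le_of_dvd (by positivity) h3
    have h5 : 2 ^ (k - 1) < 2 ^ k := Nat.pow_lt_pow_right (by norm_num) (by omega)
    omega
  refine ⟨hzz, hz1, ?_⟩
  intro g
  have hx : g * a ^ (2 ^ (k - 1)) * g⁻¹ ∈ Subgroup.zpowers a := by
    rw [← conj_pow]; exact Subgroup.pow_mem _ (hnorm g) _
  have hxx : (g * a ^ (2 ^ (k - 1)) * g⁻¹) * (g * a ^ (2 ^ (k - 1)) * g⁻¹) = 1 := by
    have : (g * a ^ (2 ^ (k - 1)) * g⁻¹) * (g * a ^ (2 ^ (k - 1)) * g⁻¹)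
        = g * (a ^ (2 ^ (k - 1)) * a ^ (2 ^ (k - 1))) * g⁻¹ := by group
    rw [this, hzz]; group
  rcases Cfsg.Agent.H59.eq_one_or_eq_of_sq_mem_zpowers hk1 hk hx hxx with h | h
  · exfalso
    apply hz1
    have : a ^ (2 ^ (k - 1)) = g⁻¹ * (g * a ^ (2 ^ (k - 1)) * g⁻¹) * g := by group
    rw [this, h]; group
  · exact h

/-- Exclusion of the modular type `b a b⁻¹ = a z`. -/
theorem typeM_false
    (hn : ∀ A : Subgroup P, A.Normal → IsMulCommutative A → IsCyclic A)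
    (a : P) (k : ℕ) (hk : orderOf a = 2 ^ k) (hk3 : 3 ≤ k)
    (hnorm : ∀ g : P, g * a * g⁻¹ ∈ Subgroup.zpowers a)
    (hcent : ∀ g : P, g * a = a * g → g ∈ Subgroup.zpowers a)
    (b : P) (hbA : b ∉ Subgroup.zpowers a) (hbb : b * b = 1)
    (hbM : b * a * b⁻¹ = a * a ^ (2 ^ (k - 1))) : False := by
  obtain ⟨hzz, hz1, hzc⟩ := z_facts a k hk (by omega) hnorm
  set z := a ^ (2 ^ (k - 1)) with hz
  have hza : z * a = a * z := by rw [hz, ← pow_succ, ← pow_succ']
  have hb1 : b ≠ 1 := fun h => hbA (h ▸ one_mem _)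
  have hzb : z ≠ b := fun h => hbA (h ▸ (Subgroup.pow_mem _ (Subgroup.mem_zpowers a) _))
  have hcomm : z * b = b * z := by
    have := hzc b
    calc z * b = (b * z * b⁻¹) * b := by rw [this]
      _ = b * z := by group
  have hbpow : ∀ i : ℤ, b * a ^ i * b⁻¹ = a ^ i * z ^ i := by
    intro i
    rw [← conj_zpow, hbM, (show Commute a z from hza.symm).mul_zpow]
  apply four_normal_false hn z b hz1 hzz hb1 hbb hzb hcomm hzc
  intro h
  obtain ⟨v, hv⟩ := Subgroup.mem_zpowers_iff.mp (hnorm h⁻¹)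
  rw [inv_inv] at hv
  set c := h * b * h⁻¹ with hc
  have hca : ∃ ζ, (ζ = 1 ∨ ζ = z) ∧ c * a * c⁻¹ = a * ζ := by
    refine ⟨z ^ v, Cfsg.Agent.H59.zpow_involution hzz v, ?_⟩
    have e1 : c * a * c⁻¹ = h * (b * (h⁻¹ * a * h) * b⁻¹) * h⁻¹ := by rw [hc]; group
    rw [e1, ← hv, hbpow v]
    have e2 : h * (a ^ v * z ^ v) * h⁻¹ = (h * a ^ v * h⁻¹) * (h * z ^ v * h⁻¹) := by group
    rw [e2, hv]
    have e3 : h * (h⁻¹ * a * h) * h⁻¹ = a := by group
    rw [e3, ← conj_zpow, hzc h]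
  obtain ⟨ζ, hζ, hcaζ⟩ := hca
  rcases hζ with rfl | rfl
  · exfalso
    rw [mul_one] at hcaζ
    have hcA : c ∈ Subgroup.zpowers a := hcent c (by
      have := congrArg (· * c) hcaζ; simpa using this)
    apply hbA
    have hb_eq : b = h⁻¹ * c * h⁻¹⁻¹ := by rw [hc]; group
    rw [hb_eq]
    obtain ⟨i, hi⟩ := Subgroup.mem_zpowers_iff.mp hcA
    rw [← hi, ← conj_zpow]
    exact Subgroup.zpow_mem _ (hnorm h⁻¹) i
  · have hbc : (b⁻¹ * c) * a = a * (b⁻¹ * c) := by
      have e1 : b⁻¹ * (a * z) * b = a := by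
        have : b⁻¹ * (b * a * b⁻¹) * b = a := by group
        rw [hbM] at this; exact this
      have : (b⁻¹ * c) * a * (b⁻¹ * c)⁻¹ = b⁻¹ * (c * a * c⁻¹) * b := by group
      rw [hcaζ, e1] at this
      calc (b⁻¹ * c) * a = ((b⁻¹ * c) * a * (b⁻¹ * c)⁻¹) * (b⁻¹ * c) := by group
        _ = a * (b⁻¹ * c) := by rw [this]
    obtain ⟨i, hi⟩ := Subgroup.mem_zpowers_iff.mp (hcent _ hbc)
    have hc_eq : c = b * a ^ i := by rw [hi]; group
    have hcc : c * c = 1 := by
      have : c * c = h * (b * b) * h⁻¹ := by rw [hc]; group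
      rw [this, hbb]; group
    have hrel : a ^ i * z ^ i * a ^ i = 1 := by
      have : (b * a ^ i) * (b * a ^ i) = (b * a ^ i * b⁻¹) * (b * b) * a ^ i := by group
      rw [hc_eq, this, hbpow i, hbb, mul_one] at hcc
      exact hcc
    rcases Int.even_or_odd' i with ⟨j, hj | hj⟩
    · have hzi : z ^ i = 1 := by rw [hj, zpow_mul, zpow_two, hzz, one_zpow]
      rw [hzi, mul_one] at hrel
      rcases Cfsg.Agent.H59.eq_one_or_eq_of_sq_mem_zpowers (by omega : 1 ≤ k) hk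
        (Subgroup.zpow_mem_zpowers a i) hrel with h1 | h1
      · left; rw [hc_eq, h1, mul_one]
      · right; rw [hc_eq, h1, ← hz, hcomm]
    · exfalso
      have hzi : z ^ i = z := by
        rw [hj, zpow_add, zpow_mul, zpow_two, hzz, one_zpow, one_mul, zpow_one]
      rw [hzi] at hrel
      have e : a ^ i * z * a ^ i = a ^ (i + ((2 ^ (k - 1) : ℕ) : ℤ) + i) := by
        rw [hz, zpow_add, zpow_add, zpow_natCast]
      rw [e] at hrel
      have hdvd := orderOf_dvd_iff_zpow_eq_one.mpr hrel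
      rw [hk] at hdvd
      obtain ⟨m, hm⟩ : ∃ m : ℕ, 2 ^ (k - 1) = 4 * m := ⟨2 ^ (k - 3), by
        have : k - 1 = 2 + (k - 3) := by omega
        rw [this, pow_add]; norm_num⟩
      have hk' : (2 : ℕ) ^ k = 2 * 2 ^ (k - 1) := by
        rw [← pow_succ', Nat.sub_add_cancel (by omega)]
      rw [hk', hm] at hdvd
      push_cast at hdvd
      have h4 : (4 : ℤ) ∣ i + 4 * (m : ℤ) + i := Dvd.dvd.trans ⟨2 * (m : ℤ), by ring⟩ hdvd
      omega

/-- Classification without the modular case. -/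
theorem cls_no_M
    (hn : ∀ A : Subgroup P, A.Normal → IsMulCommutative A → IsCyclic A)
    (a : P) (k : ℕ) (hk : orderOf a = 2 ^ k) (hk2 : 2 ≤ k)
    (hnorm : ∀ g : P, g * a * g⁻¹ ∈ Subgroup.zpowers a)
    (hcent : ∀ g : P, g * a = a * g → g ∈ Subgroup.zpowers a)
    (g : P) (hgA : g ∉ Subgroup.zpowers a) (hgg : g * g ∈ Subgroup.zpowers a) :
    ∃ b : P, g⁻¹ * b ∈ Subgroup.zpowers a ∧ b ∉ Subgroup.zpowers a ∧
      ((b * b = 1 ∧ b * a * b⁻¹ = a⁻¹) ∨
       (b * b = a ^ (2 ^ (k - 1)) ∧ b * a * b⁻¹ = a⁻¹) ∨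
       (3 ≤ k ∧ b * b = 1 ∧ b * a * b⁻¹ = a⁻¹ * a ^ (2 ^ (k - 1)))) := by
  have hnc : g * a ≠ a * g := fun h => hgA (hcent g h)
  obtain ⟨b, hb, hcases⟩ :=
    Cfsg.Agent.H59.cyclic_max_classification k hk2 a g hk hgg (hnorm g) hnc
  have hbA : b ∉ Subgroup.zpowers a := by
    intro hbm
    apply hgA
    have e : g = b * (g⁻¹ * b)⁻¹ := by group
    rw [e]; exact mul_mem hbm (inv_mem hb)
  refine ⟨b, hb, hbA, ?_⟩
  rcases hcases with h | h | ⟨h0, h1, h2⟩ | h
  · exact Or.inl h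
  · exact Or.inr (Or.inl h)
  · exact (typeM_false hn a k hk h0 hnorm hcent b hbA h1 h2).elim
  · exact Or.inr (Or.inr h)

/-- Every `g ∉ ⟨a⟩` with `g² ∈ ⟨a⟩` acts as `a ↦ a⁻¹ ζ` with `ζ ∈ {1, z}`. -/
theorem act_form
    (hn : ∀ A : Subgroup P, A.Normal → IsMulCommutative A → IsCyclic A)
    (a : P) (k : ℕ) (hk : orderOf a = 2 ^ k) (hk2 : 2 ≤ k)
    (hnorm : ∀ g : P, g * a * g⁻¹ ∈ Subgroup.zpowers a)
    (hcent : ∀ g : P, g * a = a * g → g ∈ Subgroup.zpowers a)
    (g : P) (hgA : g ∉ Subgroup.zpowers a) (hgg : g * g ∈ Subgroup.zpowers a) :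
    ∃ ζ : P, (ζ = 1 ∨ (ζ = a ^ (2 ^ (k - 1)) ∧ 3 ≤ k)) ∧ g * a * g⁻¹ = a⁻¹ * ζ := by
  obtain ⟨b, hb, hbA, hcases⟩ := cls_no_M hn a k hk hk2 hnorm hcent g hgA hgg
  obtain ⟨i, hi⟩ := Subgroup.mem_zpowers_iff.mp hb
  have hg : g * a * g⁻¹ = b * a * b⁻¹ := by
    have hb_eq : b = g * a ^ i := by rw [hi]; group
    rw [hb_eq]
    have : g * a ^ i * a * (g * a ^ i)⁻¹ = g * (a ^ i * a * (a ^ i)⁻¹) * g⁻¹ := by group
    rw [this, ((Commute.refl a).zpow_left i).eq, mul_inv_cancel_right]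
  rcases hcases with ⟨_, h⟩ | ⟨_, h⟩ | ⟨h0, _, h⟩
  · exact ⟨1, Or.inl rfl, by rw [hg, h, mul_one]⟩
  · exact ⟨1, Or.inl rfl, by rw [hg, h, mul_one]⟩
  · exact ⟨_, Or.inr ⟨rfl, h0⟩, by rw [hg, h]⟩

omit [Finite P] in
theorem dq_contra (a : P) (k : ℕ) (hk : orderOf a = 2 ^ k) (hk3 : 3 ≤ k)
    (h : a * a ^ (2 ^ (k - 1)) = a⁻¹) : False := by
  have h1 : a ^ (1 + 2 ^ (k - 1) + 1) = 1 := by
    rw [pow_add, pow_add, pow_one, h, inv_mul_cancel]
  have hdvd := orderOf_dvd_of_pow_eq_one h1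
  rw [hk] at hdvd
  obtain ⟨m, hm⟩ : ∃ m : ℕ, 2 ^ (k - 1) = 4 * m := ⟨2 ^ (k - 3), by
    have : k - 1 = 2 + (k - 3) := by omega
    rw [this, pow_add]; norm_num⟩
  have hk' : (2 : ℕ) ^ k = 2 * 2 ^ (k - 1) := by
    rw [← pow_succ', Nat.sub_add_cancel (by omega)]
  rw [hk', hm] at hdvd
  have h4 : 4 ∣ 1 + 4 * m + 1 := Dvd.dvd.trans ⟨2 * m, by ring⟩ hdvd
  omega

/-- Any two elements outside `⟨a⟩` with squares in `⟨a⟩` lie in the same coset. -/
theorem coset_eq
    (hn : ∀ A : Subgroup P, A.Normal → IsMulCommutative A → IsCyclic A)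
    (a : P) (k : ℕ) (hk : orderOf a = 2 ^ k) (hk2 : 2 ≤ k)
    (hnorm : ∀ g : P, g * a * g⁻¹ ∈ Subgroup.zpowers a)
    (hcent : ∀ g : P, g * a = a * g → g ∈ Subgroup.zpowers a)
    (g h : P) (hgA : g ∉ Subgroup.zpowers a) (hgg : g * g ∈ Subgroup.zpowers a)
    (hhA : h ∉ Subgroup.zpowers a) (hhh : h * h ∈ Subgroup.zpowers a) :
    g⁻¹ * h ∈ Subgroup.zpowers a := by
  obtain ⟨hzz, hz1, hzc⟩ := z_facts a k hk (by omega) hnorm
  obtain ⟨ζ, hζ, hgζ⟩ := act_form hn a k hk hk2 hnorm hcent g hgA hgg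
  obtain ⟨ζ', hζ', hhζ'⟩ := act_form hn a k hk hk2 hnorm hcent h hhA hhh
  have hza : a ^ (2 ^ (k - 1)) * a = a * a ^ (2 ^ (k - 1)) := by rw [← pow_succ, ← pow_succ']
  have hζp : ζ * ζ = 1 ∧ ∀ x : P, x * ζ * x⁻¹ = ζ := by
    rcases hζ with rfl | ⟨rfl, _⟩
    · simp
    · exact ⟨hzz, hzc⟩
  have hζ'p : ∀ x : P, x * ζ' * x⁻¹ = ζ' := by
    rcases hζ' with rfl | ⟨rfl, _⟩
    · simp
    · exact hzc
  set c := g⁻¹ * h with hc
  have e1 : g⁻¹ * a⁻¹ * g = a * ζ := by
    have h1 : g⁻¹ * (g * a * g⁻¹) * g = a := by group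
    rw [hgζ] at h1
    have h2 : g⁻¹ * (a⁻¹ * ζ) * g = (g⁻¹ * a⁻¹ * g) * (g⁻¹ * ζ * g⁻¹⁻¹) := by group
    rw [h2, hζp.2 g⁻¹] at h1
    calc g⁻¹ * a⁻¹ * g = (g⁻¹ * a⁻¹ * g * ζ) * ζ := by rw [mul_assoc _ ζ ζ, hζp.1, mul_one]
      _ = a * ζ := by rw [h1]
  have hca : c * a * c⁻¹ = a * (ζ * ζ') := by
    have : c * a * c⁻¹ = g⁻¹ * (h * a * h⁻¹) * g := by rw [hc]; group
    rw [this, hhζ']
    have h2 : g⁻¹ * (a⁻¹ * ζ') * g = (g⁻¹ * a⁻¹ * g) * (g⁻¹ * ζ' * g⁻¹⁻¹) := by group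
    rw [h2, hζ'p g⁻¹, e1, mul_assoc]
  have hprod : ζ * ζ' = 1 ∨ (ζ * ζ' = a ^ (2 ^ (k - 1)) ∧ 3 ≤ k) := by
    rcases hζ with rfl | ⟨rfl, h3⟩ <;> rcases hζ' with rfl | ⟨rfl, h3'⟩
    · left; simp
    · right; exact ⟨by simp, h3'⟩
    · right; exact ⟨by simp, h3⟩
    · left; exact hzz
  rcases hprod with h1 | ⟨h1, hk3⟩
  · rw [h1, mul_one] at hca
    exact hcent c (by
      calc c * a = (c * a * c⁻¹) * c := by group
        _ = a * c := by rw [hca])
  · exfalso
    rw [h1] at hca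
    have hcA : c ∉ Subgroup.zpowers a := by
      intro hcm
      obtain ⟨i, hi⟩ := Subgroup.mem_zpowers_iff.mp hcm
      have : c * a * c⁻¹ = a := by
        rw [← hi, ((Commute.refl a).zpow_left i).eq, mul_inv_cancel_right]
      rw [this] at hca
      apply hz1
      calc a ^ (2 ^ (k - 1)) = a⁻¹ * (a * a ^ (2 ^ (k - 1))) := by group
        _ = 1 := by rw [← hca, inv_mul_cancel]
    have hccA : c * c ∈ Subgroup.zpowers a := by
      apply hcent
      have h2 : c * (a * a ^ (2 ^ (k - 1))) * c⁻¹ = a := by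
        have : c * (a * a ^ (2 ^ (k - 1))) * c⁻¹
            = (c * a * c⁻¹) * (c * a ^ (2 ^ (k - 1)) * c⁻¹) := by group
        rw [this, hca, hzc c, mul_assoc, hzz, mul_one]
      have h3 : c * c * a * (c * c)⁻¹ = c * (c * a * c⁻¹) * c⁻¹ := by group
      rw [hca, h2] at h3
      calc c * c * a = (c * c * a * (c * c)⁻¹) * (c * c) := by group
        _ = a * (c * c) := by rw [h3]
    obtain ⟨b, hb, hcases⟩ := Cfsg.Agent.H59.cyclic_max_classification k hk2 a c hk hccA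
      (hnorm c) (fun hh => hcA (hcent c hh))
    have hbA : b ∉ Subgroup.zpowers a := by
      intro hbm
      apply hcA
      have e : c = b * (c⁻¹ * b)⁻¹ := by group
      rw [e]; exact mul_mem hbm (inv_mem hb)
    obtain ⟨i, hi⟩ := Subgroup.mem_zpowers_iff.mp hb
    have hbact : b * a * b⁻¹ = a * a ^ (2 ^ (k - 1)) := by
      have hb_eq : b = c * a ^ i := by rw [hi]; group
      rw [hb_eq]
      have : c * a ^ i * a * (c * a ^ i)⁻¹ = c * (a ^ i * a * (a ^ i)⁻¹) * c⁻¹ := by group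
      rw [this, ((Commute.refl a).zpow_left i).eq, mul_inv_cancel_right, hca]
    rcases hcases with ⟨_, h⟩ | ⟨_, h⟩ | ⟨h0, hbb, h⟩ | ⟨h0, hbb, h⟩
    · rw [hbact] at h
      exact dq_contra a k hk hk3 h
    · rw [hbact] at h
      exact dq_contra a k hk hk3 h
    · exact typeM_false hn a k hk h0 hnorm hcent b hbA hbb h
    · rw [hbact] at h
      have haa : a = a⁻¹ := mul_right_cancel h
      have h2 : a ^ 2 = 1 := by
        rw [pow_two]; nth_rewrite 2 [haa]; exact mul_inv_cancel a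
      have hdvd := orderOf_dvd_of_pow_eq_one h2
      rw [hk] at hdvd
      have h8 : 2 ^ 3 ≤ 2 ^ k := Nat.pow_le_pow_right (by norm_num) hk3
      have := Nat.le_of_dvd (by norm_num) hdvd
      omega

/-- Every element outside `⟨a⟩` has its square in `⟨a⟩`. -/
theorem sq_mem (hP : IsPGroup 2 P)
    (hn : ∀ A : Subgroup P, A.Normal → IsMulCommutative A → IsCyclic A)
    (a : P) (k : ℕ) (hk : orderOf a = 2 ^ k) (hk2 : 2 ≤ k)
    (hnorm : ∀ g : P, g * a * g⁻¹ ∈ Subgroup.zpowers a)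
    (hcent : ∀ g : P, g * a = a * g → g ∈ Subgroup.zpowers a)
    (h : P) (hhA : h ∉ Subgroup.zpowers a) : h * h ∈ Subgroup.zpowers a := by
  classical
  by_contra hnot
  obtain ⟨hzz, hz1, hzc⟩ := z_facts a k hk (by omega) hnorm
  have hex : ∃ j : ℕ, h ^ (2 ^ j) ∈ Subgroup.zpowers a := by
    obtain ⟨j, hj⟩ := hP h
    exact ⟨j, by rw [hj]; exact one_mem _⟩
  have hj0spec : h ^ (2 ^ (Nat.find hex)) ∈ Subgroup.zpowers a := Nat.find_spec hex
  have hj0min : ∀ j < Nat.find hex, h ^ (2 ^ j) ∉ Subgroup.zpowers a :=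
    fun j hj => Nat.find_min hex hj
  generalize Nat.find hex = j0 at hj0spec hj0min
  have hj2 : 2 ≤ j0 := by
    by_contra hlt
    have : j0 = 0 ∨ j0 = 1 := by omega
    rcases this with h0 | h1
    · rw [h0] at hj0spec
      simp only [pow_zero, pow_one] at hj0spec
      exact hhA hj0spec
    · rw [h1] at hj0spec
      simp only [pow_one, pow_two] at hj0spec
      exact hnot hj0spec
  set h1 := h ^ (2 ^ (j0 - 2)) with hh1
  set h2 := h1 * h1 with hh2
  have h2eq : h2 = h ^ (2 ^ (j0 - 1)) := by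
    rw [hh2, hh1, ← pow_add, ← two_mul, ← pow_succ']; congr 2; omega
  have h2A : h2 ∉ Subgroup.zpowers a := by rw [h2eq]; exact hj0min _ (by omega)
  have h22 : h2 * h2 ∈ Subgroup.zpowers a := by
    have : h2 * h2 = h ^ (2 ^ j0) := by
      rw [h2eq, ← pow_add, ← two_mul, ← pow_succ']; congr 2; omega
    rw [this]; exact hj0spec
  obtain ⟨ζ, hζ, hact⟩ := act_form hn a k hk hk2 hnorm hcent h2 h2A h22
  have hza : Commute a (a ^ (2 ^ (k - 1))) := (Commute.refl a).pow_right _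
  have hc4sq : a ^ (2 ^ (k - 2)) * a ^ (2 ^ (k - 2)) = a ^ (2 ^ (k - 1)) := by
    rw [← pow_add, ← two_mul, ← pow_succ']; congr 2; omega
  have e1 : h2 * a ^ (2 ^ (k - 2)) * h2⁻¹ = (a ^ (2 ^ (k - 2)))⁻¹ := by
    rw [← conj_pow, hact]
    rcases hζ with rfl | ⟨rfl, hk3⟩
    · rw [mul_one, inv_pow]
    · have hcomm : Commute a⁻¹ (a ^ (2 ^ (k - 1))) := hza.inv_left
      rw [hcomm.mul_pow, inv_pow]
      have : (a ^ (2 ^ (k - 1))) ^ (2 ^ (k - 2)) = 1 := by
        have e : 2 ^ (k - 2) = 2 * 2 ^ (k - 3) := by rw [← pow_succ']; congr 1; omega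
        rw [e, pow_mul, pow_two, hzz, one_pow]
      rw [this, mul_one]
  set c4 := a ^ (2 ^ (k - 2)) with hc4
  set z := a ^ (2 ^ (k - 1)) with hz
  set x := h1 * c4 * h1⁻¹ with hx
  have hxA : x ∈ Subgroup.zpowers a := by
    rw [hx, hc4, ← conj_pow]; exact Subgroup.pow_mem _ (hnorm h1) _
  have hxx : x * x = z := by
    have : x * x = h1 * (c4 * c4) * h1⁻¹ := by rw [hx]; group
    rw [this, hc4sq, hzc h1]
  have hyA : x * c4⁻¹ ∈ Subgroup.zpowers a :=
    mul_mem hxA (inv_mem (Subgroup.pow_mem _ (Subgroup.mem_zpowers a) _))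
  have hxc : x * c4 = c4 * x := by
    obtain ⟨i, hi⟩ := Subgroup.mem_zpowers_iff.mp hxA
    rw [← hi, hc4]
    exact (((Commute.refl a).zpow_left i).pow_right _).eq
  have hxc' : c4⁻¹ * x = x * c4⁻¹ := by
    calc c4⁻¹ * x = c4⁻¹ * (x * c4) * c4⁻¹ := by group
      _ = c4⁻¹ * (c4 * x) * c4⁻¹ := by rw [hxc]
      _ = x * c4⁻¹ := by group
  have hyy : (x * c4⁻¹) * (x * c4⁻¹) = 1 := by
    calc (x * c4⁻¹) * (x * c4⁻¹) = x * (c4⁻¹ * x) * c4⁻¹ := by group
      _ = x * (x * c4⁻¹) * c4⁻¹ := by rw [hxc']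
      _ = (x * x) * (c4 * c4)⁻¹ := by group
      _ = 1 := by rw [hxx, hc4sq, mul_inv_cancel]
  have hx_cases : x = c4 ∨ x = z * c4 := by
    rcases Cfsg.Agent.H59.eq_one_or_eq_of_sq_mem_zpowers (by omega : 1 ≤ k) hk hyA hyy
      with h | h
    · left
      calc x = (x * c4⁻¹) * c4 := by group
        _ = c4 := by rw [h, one_mul]
    · right
      calc x = (x * c4⁻¹) * c4 := by group
        _ = z * c4 := by rw [h]
  have e2 : h2 * c4 * h2⁻¹ = c4 := by
    have : h2 * c4 * h2⁻¹ = h1 * x * h1⁻¹ := by rw [hh2, hx]; group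
    rw [this]
    rcases hx_cases with h | h
    · rw [h, ← hx, h]
    · rw [h]
      have : h1 * (z * c4) * h1⁻¹ = (h1 * z * h1⁻¹) * (h1 * c4 * h1⁻¹) := by group
      rw [this, hzc h1, ← hx, h, ← mul_assoc, hzz, one_mul]
  rw [e2] at e1
  apply hz1
  rw [← hc4sq]
  nth_rewrite 2 [e1]
  exact mul_inv_cancel c4

/-- The `2`-group case. -/
theorem two_case (hP : IsPGroup 2 P)
    (hn : ∀ A : Subgroup P, A.Normal → IsMulCommutative A → IsCyclic A) (hnc : ¬ IsCyclic P) :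
    (∃ n : ℕ, Nonempty (P ≃* QuaternionGroup n)) ∨
      (∃ n : ℕ, 8 ≤ n ∧ Nonempty (P ≃* DihedralGroup n)) ∨ Cfsg.IsQuasiDihedral P := by
  obtain ⟨A, hAn, hAc, hmax⟩ := exists_max_normal_abelian P
  have hAcyc : IsCyclic A := hn A hAn hAc
  haveI : A.Normal := hAn
  haveI : IsMulCommutative A := hAc
  haveI : Group.IsNilpotent P := hP.isNilpotent
  have hCA : Subgroup.centralizer (A : Set P) = A := Cfsg.Agent.S0015.result A hmax
  obtain ⟨⟨a, haA⟩, hgen⟩ := hAcyc.exists_generator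
  have hAeq : Subgroup.zpowers a = A := by
    apply le_antisymm (Subgroup.zpowers_le.mpr haA)
    intro x hx
    obtain ⟨i, hi⟩ := Subgroup.mem_zpowers_iff.mp (hgen ⟨x, hx⟩)
    have := congrArg Subtype.val hi
    rw [Subgroup.mem_zpowers_iff]; exact ⟨i, by simpa using this⟩
  obtain ⟨k, hk⟩ : ∃ k, orderOf a = 2 ^ k := (IsPGroup.iff_orderOf (p := 2)).1 hP a
  have hnorm : ∀ g : P, g * a * g⁻¹ ∈ Subgroup.zpowers a := by
    intro g; rw [hAeq]; exact hAn.conj_mem a haA g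
  have hcent : ∀ g : P, g * a = a * g → g ∈ Subgroup.zpowers a := by
    intro g hg
    rw [hAeq, ← hCA, Subgroup.mem_centralizer_iff]
    intro x hx
    have hx' : x ∈ Subgroup.zpowers a := by rw [hAeq]; exact hx
    obtain ⟨i, rfl⟩ := Subgroup.mem_zpowers_iff.mp hx'
    exact ((Commute.zpow_right (show Commute g a from hg) i)).eq.symm
  have hAtop : ∃ h : P, h ∉ Subgroup.zpowers a := by
    by_contra hcon
    apply hnc
    have : ∀ x : P, x ∈ Subgroup.zpowers a := fun x => by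
      by_contra hx; exact hcon ⟨x, hx⟩
    exact ⟨⟨a, this⟩⟩
  have hk2 : 2 ≤ k := by
    by_contra hlt
    obtain ⟨h, hh⟩ := hAtop
    apply hh
    apply hcent
    have hk01 : k = 0 ∨ k = 1 := by omega
    rcases hk01 with rfl | rfl
    · have : a = 1 := by rw [← orderOf_eq_one_iff, hk, pow_zero]
      rw [this]; simp
    · have haa : a * a = 1 := by
        have := pow_orderOf_eq_one a
        rw [hk, pow_one, pow_two] at this; exact this
      have hx : h * a * h⁻¹ ∈ Subgroup.zpowers a := hnorm h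
      have hxx : (h * a * h⁻¹) * (h * a * h⁻¹) = 1 := by
        have : (h * a * h⁻¹) * (h * a * h⁻¹) = h * (a * a) * h⁻¹ := by group
        rw [this, haa]; group
      rcases Cfsg.Agent.H59.eq_one_or_eq_of_sq_mem_zpowers (le_refl 1) hk hx hxx with h1 | h1
      · exfalso
        have : a = 1 := by
          have e : a = h⁻¹ * (h * a * h⁻¹) * h := by group
          rw [e, h1]; group
        rw [this, orderOf_one] at hk; norm_num at hk
      · simp only [Nat.sub_self, pow_zero, pow_one] at h1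
        calc h * a = (h * a * h⁻¹) * h := by group
          _ = a * h := by rw [h1]
  obtain ⟨hzz, hz1, hzc⟩ := z_facts a k hk (by omega) hnorm
  obtain ⟨g0, hg0⟩ := hAtop
  have hg00 := sq_mem hP hn a k hk hk2 hnorm hcent g0 hg0
  obtain ⟨b, hb, hbA, hcases⟩ := cls_no_M hn a k hk hk2 hnorm hcent g0 hg0 hg00
  have hcos : ∀ h : P, h ∈ Subgroup.zpowers a ∨ b⁻¹ * h ∈ Subgroup.zpowers a := by
    intro h
    by_cases hh : h ∈ Subgroup.zpowers a
    · exact Or.inl hh
    · right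
      have h1 := coset_eq hn a k hk hk2 hnorm hcent g0 h hg0 hg00 hh
        (sq_mem hP hn a k hk hk2 hnorm hcent h hh)
      have e : b⁻¹ * h = (g0⁻¹ * b)⁻¹ * (g0⁻¹ * h) := by group
      rw [e]; exact mul_mem (inv_mem hb) h1
  have hnA : (Subgroup.zpowers a).Normal := hAeq ▸ hAn
  have hidx : (Subgroup.zpowers a).index = 2 := by
    rw [Subgroup.index_eq_two_iff]
    refine ⟨b⁻¹, fun x => ?_⟩
    by_cases hx : x ∈ Subgroup.zpowers a
    · refine Or.inr ⟨hx, fun h => hbA ?_⟩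
      have e : b = (x * b⁻¹)⁻¹ * x := by group
      rw [e]; exact mul_mem (inv_mem h) hx
    · refine Or.inl ⟨?_, hx⟩
      have h1 := (hcos x).resolve_left hx
      have e : x * b⁻¹ = b * (b⁻¹ * x) * b⁻¹ := by group
      rw [e]; exact hnA.conj_mem _ h1 b
  have hcard : Nat.card P = 2 * 2 ^ k := by
    have := Subgroup.card_mul_index (Subgroup.zpowers a)
    rw [hidx, Nat.card_zpowers, hk] at this
    omega
  have hb1 : b ≠ 1 := fun h => hbA (h ▸ one_mem _)
  rcases hcases with ⟨hbb, hba⟩ | ⟨hbb, hba⟩ | ⟨hk3, hbb, hba⟩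
  · by_cases hk3 : 3 ≤ k
    · right; left
      refine ⟨2 ^ k, ?_, ?_⟩
      · calc 8 = 2 ^ 3 := by norm_num
          _ ≤ 2 ^ k := Nat.pow_le_pow_right (by norm_num) hk3
      · haveI : NeZero (2 ^ k) := ⟨by positivity⟩
        exact Cfsg.Agent.H3.dihedral_of_gens (2 ^ k) hcard a b hk hbA hbb hba
    · exfalso
      have hk2' : k = 2 := by omega
      subst hk2'
      have hzb : a ^ (2 ^ (2 - 1)) ≠ b :=
        fun h => hbA (h ▸ (Subgroup.pow_mem _ (Subgroup.mem_zpowers a) _))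
      have hcomm : a ^ (2 ^ (2 - 1)) * b = b * a ^ (2 ^ (2 - 1)) := by
        have := hzc b
        calc a ^ (2 ^ (2 - 1)) * b = (b * a ^ (2 ^ (2 - 1)) * b⁻¹) * b := by rw [this]
          _ = b * a ^ (2 ^ (2 - 1)) := by group
      have hbinv : b⁻¹ = b := inv_eq_of_mul_eq_one_left hbb
      -- conjugating b by a power of a
      have hconj : ∀ i : ℤ, a ^ i * b * (a ^ i)⁻¹ = (a ^ i * a ^ i) * b := by
        intro i
        have h1 : b * a ^ i * b⁻¹ = (a ^ i)⁻¹ := by rw [← conj_zpow, hba, inv_zpow]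
        calc a ^ i * b * (a ^ i)⁻¹ = a ^ i * b * (b * a ^ i * b⁻¹) := by rw [h1]
          _ = a ^ i * (b * b) * a ^ i * b⁻¹ := by group
          _ = (a ^ i * a ^ i) * b := by rw [hbb, mul_one, hbinv]
      have hw : ∀ i : ℤ, a ^ i * a ^ i = 1 ∨ a ^ i * a ^ i = a ^ (2 ^ (2 - 1)) := by
        intro i
        apply Cfsg.Agent.H59.eq_one_or_eq_of_sq_mem_zpowers (by norm_num : 1 ≤ 2) hk
          (mul_mem (Subgroup.zpow_mem_zpowers a i) (Subgroup.zpow_mem_zpowers a i))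
        have : a ^ i * a ^ i * (a ^ i * a ^ i) = (a ^ (4 : ℤ)) ^ i := by
          rw [← zpow_add, ← zpow_add, ← zpow_mul]; congr 1; ring
        rw [this]
        have h4 : a ^ (4 : ℤ) = 1 := by
          have := pow_orderOf_eq_one a
          rw [hk] at this
          have e : a ^ (4 : ℤ) = a ^ (2 ^ 2 : ℕ) := by
            rw [← zpow_natCast]; norm_num
          rw [e, this]
        rw [h4, one_zpow]
      apply four_normal_false hn (a ^ (2 ^ (2 - 1))) b hz1 hzz hb1 hbb hzb hcomm hzc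
      intro h
      rcases hcos h with hh | hh
      · obtain ⟨i, rfl⟩ := Subgroup.mem_zpowers_iff.mp hh
        rw [hconj i]
        rcases hw i with h1 | h1
        · left; rw [h1, one_mul]
        · right; rw [h1]
      · obtain ⟨i, hi⟩ := Subgroup.mem_zpowers_iff.mp hh
        have hh_eq : h = b * a ^ i := by rw [hi]; group
        have e : h * b * h⁻¹ = b * (a ^ i * b * (a ^ i)⁻¹) * b⁻¹ := by rw [hh_eq]; group
        rw [e, hconj i]
        rcases hw i with h1 | h1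
        · left; rw [h1, one_mul]; group
        · right
          rw [h1]
          calc b * (a ^ (2 ^ (2 - 1)) * b) * b⁻¹ = b * a ^ (2 ^ (2 - 1)) := by group
            _ = a ^ (2 ^ (2 - 1)) * b := hcomm.symm
  · left
    refine ⟨2 ^ (k - 1), ?_⟩
    have hN : orderOf a = 2 * 2 ^ (k - 1) := by
      rw [hk, ← pow_succ', Nat.sub_add_cancel (by omega)]
    exact Cfsg.Agent.H59.quaternionEquiv hN hba hbb hbA hcos
  · right; right
    refine ⟨k, hk3, ?_, a, b, hk, ?_, ?_⟩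
    · rw [hcard, pow_succ']
    · exact orderOf_eq_prime (by rw [pow_two]; exact hbb) hb1
    · rw [hba]
      have hpos : 1 ≤ 2 ^ (k - 1) := Nat.one_le_two_pow
      have e : a ^ (2 ^ (k - 1)) = a * a ^ (2 ^ (k - 1) - 1) := by
        rw [← pow_succ', Nat.sub_add_cancel hpos]
      rw [e, inv_mul_cancel_left]

end Two

/-- A finite `p`-group in which every normal abelian subgroup is cyclic but which is not cyclic is a
generalized quaternion, dihedral (order `≥ 16`) or quasi-dihedral `2`-group. -/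
theorem abelian_normal_cyclic_main {P : Type*} [Group P] [Finite P] (p : ℕ) [Fact p.Prime]
    (hP : IsPGroup p P) (hn : ∀ A : Subgroup P, A.Normal → IsMulCommutative A → IsCyclic A)
    (hnc : ¬ IsCyclic P) :
    p = 2 ∧ ((∃ n : ℕ, Nonempty (P ≃* QuaternionGroup n)) ∨
      (∃ n : ℕ, 8 ≤ n ∧ Nonempty (P ≃* DihedralGroup n)) ∨ Cfsg.IsQuasiDihedral P) := by
  have hp2 : p = 2 := by
    by_contra hp
    exact odd_case_false p hp hP hn hnc
  subst hp2
  exact ⟨rfl, two_case hP hn hnc⟩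

end Cfsg.Agent.H11
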