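import Mathlib
import Cfsg.Agent.H57.BG134RDefs

/-!
# LEMMA R (B&G 12.18(a)), piece ABDEC: `[V, Q] ∩ C(Q) = 1` for a coprime action on an abelian `V`
-/

set_option autoImplicit false

namespace Cfsg.Agent.H11.BG134R

open Cfsg Subgroup Cfsg.Agent.H57.BG134R Cfsg.Agent.H58.BG10
open scoped commutatorElement

universe u

/-- Abstract form: a group `Q` acting by homomorphisms on a commutative group `A`; an element of
the subgroup generated by the `v * (x • v)⁻¹` which is fixed by `Q` has order dividing `|Q|`. -/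
theorem abDec_abs {A : Type*} [CommGroup A] {Q : Type*} [Group Q] [Fintype Q]
    (ρ : Q → A →* A) (hmul : ∀ x y a, ρ (x * y) a = ρ x (ρ y a)) (w : A)
    (hfix : ∀ x, ρ x w = w)
    (hw : w ∈ Subgroup.closure {a : A | ∃ (v : A) (x : Q), a = v * (ρ x v)⁻¹}) :
    w ^ Fintype.card Q = 1 := by
  classical
  have hν : ∀ (x : Q) (v : A), ∏ g : Q, ρ g (ρ x v) = ∏ g : Q, ρ g v := by
    intro x v
    calc ∏ g : Q, ρ g (ρ x v) = ∏ g : Q, ρ (g * x) v := by
          apply Finset.prod_congr rfl; intro g _; rw [hmul]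
      _ = ∏ g : Q, ρ g v := Fintype.prod_equiv (Equiv.mulRight x) _ _ (fun g => rfl)
  have hker : ∀ a ∈ Subgroup.closure {a : A | ∃ (v : A) (x : Q), a = v * (ρ x v)⁻¹},
      ∏ g : Q, ρ g a = 1 := by
    intro a ha
    induction ha using Subgroup.closure_induction with
    | mem a ha =>
      obtain ⟨v, x, rfl⟩ := ha
      simp only [map_mul, map_inv, Finset.prod_mul_distrib, Finset.prod_inv_distrib]
      rw [hν x v, mul_inv_cancel]
    | one => simp
    | mul a b _ _ iha ihb =>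
      simp only [map_mul, Finset.prod_mul_distrib]
      rw [iha, ihb, one_mul]
    | inv a _ iha =>
      simp only [map_inv, Finset.prod_inv_distrib]
      rw [iha, inv_one]
  have h1 := hker w hw
  simp only [hfix, Finset.prod_const, Finset.card_univ] at h1
  exact h1

variable {G : Type u} [Group G] [Finite G]

theorem abDec : StAbDec G := by
  intro V Q hV hQV hcop
  classical
  letI instV : CommGroup ↥V :=
    { (inferInstance : Group ↥V) with
      mul_comm := fun a b => Subtype.ext (hV a a.2 b b.2) }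
  haveI : Fintype ↥Q := Fintype.ofFinite _
  have hconj : ∀ g ∈ Q, ∀ v ∈ V, g * v * g⁻¹ ∈ V := fun g hg v hv =>
    (mem_normalizer_iff.mp (hQV hg) v).mp hv
  let ρ : ↥Q → ↥V →* ↥V := fun g =>
    { toFun := fun v => ⟨(g : G) * v * (g : G)⁻¹, hconj g g.2 v v.2⟩
      map_one' := Subtype.ext (by simp)
      map_mul' := fun a b => Subtype.ext (by
        show (g : G) * ((a : G) * (b : G)) * (g : G)⁻¹ =
          ((g : G) * a * (g : G)⁻¹) * ((g : G) * b * (g : G)⁻¹)
        group) }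
  have hρ : ∀ (g : ↥Q) (v : ↥V), ((ρ g v : ↥V) : G) = (g : G) * v * (g : G)⁻¹ := fun g v => rfl
  have hmul : ∀ (x y : ↥Q) (a : ↥V), ρ (x * y) a = ρ x (ρ y a) := by
    intro x y a
    apply Subtype.ext
    rw [hρ, hρ, hρ, Subgroup.coe_mul]
    group
  rw [eq_bot_iff]
  intro w hw
  rw [Subgroup.mem_bot]
  obtain ⟨hw1, hw2⟩ := Subgroup.mem_inf.mp hw
  -- the commutator subgroup lies in the image of the closure
  have hle : ⁅V, Q⁆ ≤ (Subgroup.closure
      {a : ↥V | ∃ (v : ↥V) (x : ↥Q), a = v * (ρ x v)⁻¹}).map V.subtype := by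
    rw [Subgroup.commutator_le]
    intro v hv x hx
    refine ⟨(⟨v, hv⟩ : ↥V) * (ρ ⟨x, hx⟩ ⟨v, hv⟩)⁻¹, Subgroup.subset_closure ⟨_, _, rfl⟩, ?_⟩
    show v * ((x * v * x⁻¹ : G))⁻¹ = ⁅v, x⁆
    rw [commutatorElement_def]
    group
  obtain ⟨w', hw', hww⟩ := hle hw1
  have hfix : ∀ x : ↥Q, ρ x w' = w' := by
    intro x
    apply Subtype.ext
    rw [hρ]
    have h1 : (w' : G) = w := hww
    rw [h1]
    have h2 := Subgroup.mem_centralizer_iff.mp hw2 x x.2
    -- h2 : x * w = w * x
    rw [h2, mul_inv_cancel_right]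
  have h3 := abDec_abs ρ hmul w' hfix hw'
  have h4 : w ^ Fintype.card ↥Q = 1 := by
    have h5 : ((w' ^ Fintype.card ↥Q : ↥V) : G) = 1 := by rw [h3]; rfl
    rw [← hww]
    exact h5
  have h6 : w ^ Nat.card ↥V = 1 := by
    have h7 : ((w' ^ Nat.card ↥V : ↥V) : G) = 1 := by rw [pow_card_eq_one']; rfl
    rw [← hww]
    exact h7
  have hd1 : orderOf w ∣ Nat.card ↥Q := by
    rw [Nat.card_eq_fintype_card]; exact orderOf_dvd_of_pow_eq_one h4
  have hd2 : orderOf w ∣ Nat.card ↥V := orderOf_dvd_of_pow_eq_one h6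
  exact orderOf_eq_one_iff.mp (Nat.eq_one_of_dvd_coprimes hcop hd1 hd2)

example : StAbDec G := abDec

end Cfsg.Agent.H11.BG134R

#print axioms Cfsg.Agent.H11.BG134R.abDec
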