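import Mathlib
import Cfsg.Agent.H57.BG134RDefs

/-!
# LEMMA R (B&G 12.18(a)), piece M1R: the relative fixed-point lemma for an abelian section
-/

set_option autoImplicit false

namespace Cfsg.Agent.H11.BG134R

open Cfsg Subgroup Cfsg.Agent.H57.BG134R Cfsg.Agent.H58.BG10
open scoped commutatorElement

universe u

/-- Abstract form: `Γ` acts by homomorphisms on the commutative group `A`; `Q`, `R` finite
subgroups, `R` normalises `Q`, nontrivial elements of `R` have no fixed points on `Q`, and neither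
`Q` nor `R` has nontrivial fixed points on `A`.  Then `A` has exponent dividing `|Q|`. -/
theorem m1r_abs {Γ : Type*} [Group Γ] {A : Type*} [CommGroup A] (ρ : Γ → A →* A)
    (hmul : ∀ x y a, ρ (x * y) a = ρ x (ρ y a)) (hone : ∀ a, ρ 1 a = a)
    (Q R : Subgroup Γ) [Fintype ↥Q] [Fintype ↥R]
    (hRQ : ∀ y ∈ R, ∀ g ∈ Q, y * g * y⁻¹ ∈ Q)
    (hC : ∀ y ∈ R, y ≠ 1 → ∀ g ∈ Q, g * y = y * g → g = 1)
    (hfQ : ∀ a, (∀ x ∈ Q, ρ x a = a) → a = 1)
    (hfR : ∀ a, (∀ y ∈ R, ρ y a = a) → a = 1) (a : A) :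
    a ^ Fintype.card ↥Q = 1 := by
  classical
  have hNQ : ∀ b : A, ∏ g : ↥Q, ρ (g : Γ) b = 1 := by
    intro b
    apply hfQ
    intro x hx
    rw [map_prod]
    calc ∏ g : ↥Q, ρ x (ρ (g : Γ) b) = ∏ g : ↥Q, ρ (((⟨x, hx⟩ : ↥Q) * g : ↥Q) : Γ) b := by
          apply Finset.prod_congr rfl; intro g _; rw [Subgroup.coe_mul, hmul]
      _ = ∏ g : ↥Q, ρ (g : Γ) b :=
          Fintype.prod_equiv (Equiv.mulLeft (⟨x, hx⟩ : ↥Q)) _ _ (fun g => rfl)
  have hNR : ∀ b : A, ∏ y : ↥R, ρ (y : Γ) b = 1 := by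
    intro b
    apply hfR
    intro x hx
    rw [map_prod]
    calc ∏ g : ↥R, ρ x (ρ (g : Γ) b) = ∏ g : ↥R, ρ (((⟨x, hx⟩ : ↥R) * g : ↥R) : Γ) b := by
          apply Finset.prod_congr rfl; intro g _; rw [Subgroup.coe_mul, hmul]
      _ = ∏ g : ↥R, ρ (g : Γ) b :=
          Fintype.prod_equiv (Equiv.mulLeft (⟨x, hx⟩ : ↥R)) _ _ (fun g => rfl)
  have hi : ∀ y : ↥R, (y : Γ) ≠ 1 →
      ∏ g : ↥Q, ρ ((g : Γ) * y * (g : Γ)⁻¹) a = ∏ g : ↥Q, ρ ((g : Γ) * y) a := by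
    intro y hy
    have hτmem : ∀ g : ↥Q, (g : Γ) * y * (g : Γ)⁻¹ * (y : Γ)⁻¹ ∈ Q := by
      intro g
      have h1 := hRQ y y.2 (g : Γ)⁻¹ (Q.inv_mem g.2)
      have h2 := Q.mul_mem g.2 h1
      have h3 : (g : Γ) * ((y : Γ) * (g : Γ)⁻¹ * (y : Γ)⁻¹) =
          (g : Γ) * y * (g : Γ)⁻¹ * (y : Γ)⁻¹ := by group
      rw [← h3]; exact h2
    let τ : ↥Q → ↥Q := fun g => ⟨(g : Γ) * y * (g : Γ)⁻¹ * (y : Γ)⁻¹, hτmem g⟩
    have hτinj : Function.Injective τ := by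
      intro g h hgh
      have h1 : (g : Γ) * y * (g : Γ)⁻¹ * (y : Γ)⁻¹ = (h : Γ) * y * (h : Γ)⁻¹ * (y : Γ)⁻¹ :=
        congrArg (fun z : ↥Q => (z : Γ)) hgh
      have h2 : (g : Γ) * y * (g : Γ)⁻¹ = (h : Γ) * y * (h : Γ)⁻¹ := mul_right_cancel h1
      have h3 : ((h : Γ)⁻¹ * g) * y = y * ((h : Γ)⁻¹ * g) := by
        calc (h : Γ)⁻¹ * g * y = (h : Γ)⁻¹ * ((g : Γ) * y * (g : Γ)⁻¹) * g := by group
          _ = (h : Γ)⁻¹ * ((h : Γ) * y * (h : Γ)⁻¹) * g := by rw [h2]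
          _ = y * ((h : Γ)⁻¹ * g) := by group
      have h4 := hC y y.2 hy ((h : Γ)⁻¹ * g) (Q.mul_mem (Q.inv_mem h.2) g.2) h3
      apply Subtype.ext
      exact (inv_mul_eq_one.mp h4).symm
    have hτbij : Function.Bijective τ := Finite.injective_iff_bijective.mp hτinj
    calc ∏ g : ↥Q, ρ ((g : Γ) * y * (g : Γ)⁻¹) a = ∏ g : ↥Q, ρ ((τ g : Γ) * y) a := by
          apply Finset.prod_congr rfl
          intro g _
          have h5 : ((τ g : ↥Q) : Γ) * y = (g : Γ) * y * (g : Γ)⁻¹ := by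
            show (g : Γ) * y * (g : Γ)⁻¹ * (y : Γ)⁻¹ * y = _
            group
          rw [h5]
      _ = ∏ g : ↥Q, ρ ((g : Γ) * y) a :=
          Fintype.prod_bijective τ hτbij _ _ (fun g => rfl)
  have hii : ∏ y : ↥R, ∏ g : ↥Q, ρ ((g : Γ) * y) a = 1 := by
    rw [Finset.prod_comm]
    apply Finset.prod_eq_one
    intro g _
    calc ∏ y : ↥R, ρ ((g : Γ) * y) a = ρ g (∏ y : ↥R, ρ (y : Γ) a) := by
          rw [map_prod]; apply Finset.prod_congr rfl; intro y _; rw [hmul]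
      _ = 1 := by rw [hNR, map_one]
  have hiii : ∏ y : ↥R, ∏ g : ↥Q, ρ ((g : Γ) * y * (g : Γ)⁻¹) a = 1 := by
    rw [Finset.prod_comm]
    apply Finset.prod_eq_one
    intro g _
    calc ∏ y : ↥R, ρ ((g : Γ) * y * (g : Γ)⁻¹) a
        = ρ g (∏ y : ↥R, ρ (y : Γ) (ρ (g : Γ)⁻¹ a)) := by
          rw [map_prod]; apply Finset.prod_congr rfl; intro y _; rw [hmul, hmul]
      _ = 1 := by rw [hNR, map_one]
  have h1 : ∏ g : ↥Q, ρ ((g : Γ) * ((1 : ↥R) : Γ)) a = 1 := by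
    simpa using hNQ a
  have h1' : ∏ g : ↥Q, ρ ((g : Γ) * ((1 : ↥R) : Γ) * (g : Γ)⁻¹) a = a ^ Fintype.card ↥Q := by
    simp [hone, Finset.prod_const, Finset.card_univ]
  rw [← Finset.mul_prod_erase Finset.univ _ (Finset.mem_univ (1 : ↥R))] at hii hiii
  rw [h1, one_mul] at hii
  rw [h1'] at hiii
  have h5 : ∏ y ∈ Finset.univ.erase (1 : ↥R), ∏ g : ↥Q, ρ ((g : Γ) * y * (g : Γ)⁻¹) a =
      ∏ y ∈ Finset.univ.erase (1 : ↥R), ∏ g : ↥Q, ρ ((g : Γ) * y) a := by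
    apply Finset.prod_congr rfl
    intro y hy
    apply hi
    intro h
    exact (Finset.mem_erase.mp hy).1 (Subtype.ext h)
  rw [h5, hii, mul_one] at hiii
  exact hiii

variable {G : Type u} [Group G] [Finite G]

theorem m1r : StM1R G := by
  intro V W Q R r hWV hVV hQV hRV hQW hRW hRQ hr hRr hQR hcop hfQ hfR
  classical
  -- the ambient group `N = N(V) ⊓ N(W)`
  obtain ⟨N, hN⟩ : ∃ N : Subgroup G, N = normalizer (V : Set G) ⊓ normalizer (W : Set G) :=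
    ⟨_, rfl⟩
  have hQN : Q ≤ N := by rw [hN]; exact le_inf hQV hQW
  have hRN : R ≤ N := by rw [hN]; exact le_inf hRV hRW
  have hNle1 : N ≤ normalizer (V : Set G) := by rw [hN]; exact inf_le_left
  have hNle2 : N ≤ normalizer (W : Set G) := by rw [hN]; exact inf_le_right
  have hNV : ∀ n : ↥N, ∀ v ∈ V, (n : G) * v * (n : G)⁻¹ ∈ V := by
    intro n v hv
    have h1 : (n : G) ∈ normalizer (V : Set G) := hNle1 n.2
    exact (mem_normalizer_iff.mp h1 v).mp hv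
  have hNW : ∀ n : ↥N, ∀ w ∈ W, (n : G) * w * (n : G)⁻¹ ∈ W := by
    intro n w hw
    have h1 : (n : G) ∈ normalizer (W : Set G) := hNle2 n.2
    exact (mem_normalizer_iff.mp h1 w).mp hw
  -- the quotient `V / W`
  haveI hWn : (W.subgroupOf V).Normal := by
    refine ⟨fun w hw v => ?_⟩
    rw [Subgroup.mem_subgroupOf] at hw ⊢
    have h1 : ⁅(v : G), (w : G)⁆ ∈ W := hVV (Subgroup.commutator_mem_commutator v.2 w.2)
    have h2 : ((v * w * v⁻¹ : ↥V) : G) = ⁅(v : G), (w : G)⁆ * w := by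
      rw [commutatorElement_def]
      show (v : G) * (w : G) * (v : G)⁻¹ = _
      group
    rw [h2]
    exact W.mul_mem h1 hw
  letI instA : CommGroup (↥V ⧸ W.subgroupOf V) :=
    { (inferInstance : Group (↥V ⧸ W.subgroupOf V)) with
      mul_comm := by
        intro a b
        induction a using QuotientGroup.induction_on with
        | H v =>
        induction b using QuotientGroup.induction_on with
        | H v' =>
        show ((v * v' : ↥V) : ↥V ⧸ W.subgroupOf V) = ((v' * v : ↥V) : ↥V ⧸ W.subgroupOf V)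
        rw [QuotientGroup.eq, Subgroup.mem_subgroupOf]
        have h1 : ⁅(v' : G)⁻¹, (v : G)⁻¹⁆ ∈ W :=
          hVV (Subgroup.commutator_mem_commutator (V.inv_mem v'.2) (V.inv_mem v.2))
        have h2 : (((v * v')⁻¹ * (v' * v) : ↥V) : G) = ⁅(v' : G)⁻¹, (v : G)⁻¹⁆ := by
          rw [commutatorElement_def]
          show ((v : G) * (v' : G))⁻¹ * ((v' : G) * (v : G)) = _
          group
        rw [h2]
        exact h1 }
  -- the action of `N`
  let cj : ↥N → (↥V →* ↥V) := fun n =>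
    { toFun := fun v => ⟨(n : G) * v * (n : G)⁻¹, hNV n v v.2⟩
      map_one' := Subtype.ext (by simp)
      map_mul' := fun a b => Subtype.ext (by
        show (n : G) * ((a : G) * (b : G)) * (n : G)⁻¹ =
          ((n : G) * a * (n : G)⁻¹) * ((n : G) * b * (n : G)⁻¹)
        group) }
  have hcjv : ∀ (n : ↥N) (v : ↥V), ((cj n v : ↥V) : G) = (n : G) * v * (n : G)⁻¹ :=
    fun n v => rfl
  have hcj : ∀ n : ↥N, W.subgroupOf V ≤ (W.subgroupOf V).comap (cj n) := by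
    intro n v hv
    rw [Subgroup.mem_comap, Subgroup.mem_subgroupOf, hcjv]
    exact hNW n v (Subgroup.mem_subgroupOf.mp hv)
  let ρ : ↥N → ((↥V ⧸ W.subgroupOf V) →* (↥V ⧸ W.subgroupOf V)) := fun n =>
    QuotientGroup.map _ _ (cj n) (hcj n)
  have hρ : ∀ (n : ↥N) (v : ↥V), ρ n (v : ↥V ⧸ W.subgroupOf V) = ((cj n v : ↥V) : ↥V ⧸ W.subgroupOf V) :=
    fun n v => rfl
  have hmul : ∀ (x y : ↥N) (a : ↥V ⧸ W.subgroupOf V), ρ (x * y) a = ρ x (ρ y a) := by
    intro x y a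
    induction a using QuotientGroup.induction_on with
    | H v =>
    rw [hρ, hρ, hρ]
    congr 1
    apply Subtype.ext
    rw [hcjv, hcjv, hcjv, Subgroup.coe_mul]
    group
  have hone : ∀ a : ↥V ⧸ W.subgroupOf V, ρ 1 a = a := by
    intro a
    induction a using QuotientGroup.induction_on with
    | H v =>
    rw [hρ]
    congr 1
    apply Subtype.ext
    rw [hcjv]
    simp
  -- the subgroups `Q`, `R` inside `N`
  haveI : Fintype ↥(Q.subgroupOf N) := Fintype.ofFinite _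
  haveI : Fintype ↥(R.subgroupOf N) := Fintype.ofFinite _
  have hRQ' : ∀ y ∈ R.subgroupOf N, ∀ g ∈ Q.subgroupOf N, y * g * y⁻¹ ∈ Q.subgroupOf N := by
    intro y hy g hg
    rw [Subgroup.mem_subgroupOf] at hy hg ⊢
    exact (mem_normalizer_iff.mp (hRQ hy) g).mp hg
  have hC' : ∀ y ∈ R.subgroupOf N, y ≠ 1 → ∀ g ∈ Q.subgroupOf N, g * y = y * g → g = 1 := by
    intro y hy hy1 g hg hgy
    rw [Subgroup.mem_subgroupOf] at hy hg
    have hy1' : (y : G) ≠ 1 := fun h => hy1 (Subtype.ext h)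
    have hgy' : (g : G) * (y : G) = (y : G) * (g : G) := congrArg (fun z : ↥N => (z : G)) hgy
    -- `zpowers y = R`
    haveI : Fact r.Prime := ⟨hr⟩
    have hz : Subgroup.zpowers (⟨(y : G), hy⟩ : ↥R) = ⊤ := by
      apply zpowers_eq_top_of_prime_card (p := r) hRr
      intro h
      exact hy1' (congrArg (fun z : ↥R => (z : G)) h)
    have hcent : (g : G) ∈ centralizer (R : Set G) := by
      rw [Subgroup.mem_centralizer_iff]
      intro z hz'
      have h1 : (⟨z, hz'⟩ : ↥R) ∈ Subgroup.zpowers (⟨(y : G), hy⟩ : ↥R) := by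
        rw [hz]; exact Subgroup.mem_top _
      obtain ⟨k, hk⟩ := Subgroup.mem_zpowers_iff.mp h1
      have h2 : z = (y : G) ^ k := by
        have := congrArg (fun z : ↥R => (z : G)) hk
        simpa using this.symm
      rw [h2]
      exact ((Commute.zpow_right (show Commute (g : G) (y : G) from hgy') k).eq).symm
    have h3 : (g : G) ∈ Q ⊓ centralizer (R : Set G) := Subgroup.mem_inf.mpr ⟨hg, hcent⟩
    rw [hQR, Subgroup.mem_bot] at h3
    exact Subtype.ext h3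
  -- fixed points
  have hfix : ∀ (S : Subgroup G), S ≤ N →
      (∀ v ∈ V, (∀ x ∈ S, x * v * x⁻¹ * v⁻¹ ∈ W) → v ∈ W) →
      ∀ a : ↥V ⧸ W.subgroupOf V, (∀ x ∈ S.subgroupOf N, ρ x a = a) → a = 1 := by
    intro S hSN hS a
    induction a using QuotientGroup.induction_on with
    | H v =>
    intro ha
    rw [QuotientGroup.eq_one_iff, Subgroup.mem_subgroupOf]
    apply hS v v.2
    intro x hx
    have h1 := ha ⟨x, hSN hx⟩ (Subgroup.mem_subgroupOf.mpr hx)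
    rw [hρ] at h1
    have h2 : ((cj ⟨x, hSN hx⟩ v * v⁻¹ : ↥V) : ↥V ⧸ W.subgroupOf V) = 1 := by
      rw [QuotientGroup.mk_mul, h1, ← QuotientGroup.mk_mul, mul_inv_cancel]
      rfl
    rw [QuotientGroup.eq_one_iff, Subgroup.mem_subgroupOf] at h2
    exact h2
  have hexp : ∀ a : ↥V ⧸ W.subgroupOf V, a ^ Fintype.card ↥(Q.subgroupOf N) = 1 :=
    fun a => m1r_abs ρ hmul hone (Q.subgroupOf N) (R.subgroupOf N) hRQ' hC'
      (hfix Q hQN hfQ) (hfix R hRN hfR) a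
  -- conclude by coprimality
  have hcardQ : Fintype.card ↥(Q.subgroupOf N) = Nat.card ↥Q := by
    rw [← Nat.card_eq_fintype_card]
    exact Nat.card_congr (Subgroup.subgroupOfEquivOfLe hQN).toEquiv
  intro v hv
  have h1 : ((⟨v, hv⟩ : ↥V) : ↥V ⧸ W.subgroupOf V) = 1 := by
    have h2 := hexp ((⟨v, hv⟩ : ↥V) : ↥V ⧸ W.subgroupOf V)
    rw [hcardQ] at h2
    have h3 : ((⟨v, hv⟩ : ↥V) : ↥V ⧸ W.subgroupOf V) ^ Nat.card (↥V ⧸ W.subgroupOf V) = 1 :=
      pow_card_eq_one'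
    have hd1 : orderOf ((⟨v, hv⟩ : ↥V) : ↥V ⧸ W.subgroupOf V) ∣ Nat.card ↥Q :=
      orderOf_dvd_of_pow_eq_one h2
    have hd2 : orderOf ((⟨v, hv⟩ : ↥V) : ↥V ⧸ W.subgroupOf V) ∣ Nat.card ↥V :=
      (orderOf_dvd_of_pow_eq_one h3).trans
        (Subgroup.card_quotient_dvd_card (W.subgroupOf V))
    exact orderOf_eq_one_iff.mp (Nat.eq_one_of_dvd_coprimes hcop hd1 hd2)
  rw [QuotientGroup.eq_one_iff, Subgroup.mem_subgroupOf] at h1
  exact h1

example : StM1R G := m1r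

end Cfsg.Agent.H11.BG134R

#print axioms Cfsg.Agent.H11.BG134R.m1r
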