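import Mathlib
import Cfsg.Agent.H33.C3.Defs

/-!
# S2071 (helper33's project), piece C3-CENTX: the centraliser in `G3` of the monomial element of
order 23 is the cyclic group it generates
-/

set_option autoImplicit false

namespace Cfsg.Agent.H11.C3

open Cfsg Cfsg.Agent.H9 Cfsg.Agent.H33 Cfsg.Agent.H33.C3 Cfsg.Agent.H93
open scoped Pointwise

/-- powers of an unsigned monomial element -/
theorem actsAs_pow_empty {g : ↥Co0} {σ : Equiv.Perm GolayPt} (h : ActsAs g σ ∅) (n : ℕ) :
    ActsAs (g ^ n) (σ ^ n) ∅ := by
  induction n with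
  | zero =>
    rw [pow_zero, pow_zero]
    exact actsAs_one
  | succ n ih =>
    have h1 := actsAs_mul ih h
    have h2 : symmDiff (∅ : Finset GolayPt) ((σ ^ n) • (∅ : Finset GolayPt)) = ∅ := by
      rw [Finset.smul_finset_empty, symmDiff_self, Finset.bot_eq_empty]
    rw [h2] at h1
    rw [pow_succ, pow_succ]
    exact h1

/-- the permutation of a monomial element is unique -/
theorem actsAs_perm_unique {g : ↥Co0} {σ σ' : Equiv.Perm GolayPt} {c c' : Finset GolayPt}
    (h : ActsAs g σ c) (h' : ActsAs g σ' c') : σ = σ' := by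
  apply Equiv.ext
  intro i
  by_contra hne
  have h1 := (h ⟨bvec i, bvec_mem i⟩).symm.trans (h' ⟨bvec i, bvec_mem i⟩)
  simp only at h1
  unfold bvec at h1
  rw [signedPerm_single, signedPerm_single] at h1
  have h3 := congrFun h1 (σ i)
  rw [Pi.single_eq_same, Pi.single_eq_of_ne hne] at h3
  split_ifs at h3 <;> norm_num at h3

theorem tau_ne_one : tau ≠ 1 := by
  intro h
  have h1 : tau none = none := by rw [h]; rfl
  revert h1
  decide

theorem tau_pow23 : tau ^ 23 = 1 := by decide +kernel

theorem tau_orbit : ∀ p : GolayPt, p ≠ some 0 → ∃ n : Fin 23, (tau ^ n.val) none = p := by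
  decide +kernel

theorem tau_fix0 : tau (some 0) = some 0 := by decide

theorem a48_coord : ∀ p : GolayPt, vec LF552A p = if p = some 0 then 5 else 1 := by
  decide +kernel

theorem centX : StCentX := by
  intro x hx s hs hcomm
  have hxc : x ∈ crossStab := actsAs_mem_crossStab hx
  have hx23 : x ^ 23 = 1 := by
    have h1 := actsAs_pow_empty hx 23
    rw [tau_pow23] at h1
    exact actsAs_ext h1 actsAs_one
  have hx1 : x ≠ 1 := by
    rintro rfl
    exact tau_ne_one (actsAs_one_perm hx)
  have hsc : s ∈ crossStab := centralizer23_le x s hxc hx23 hx1 hcomm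
  obtain ⟨σ, hσ, c, hc, hsσ⟩ := crossStab_actsAs s hsc
  have hfix : s • a48 = a48 := hs
  have h1 : signedPerm σ c (vec LF552A) = vec LF552A := by
    have h2 := hsσ a48
    have h3 : ((s : Equiv.Perm leechLattice) a48 : leechLattice) = a48 := hfix
    rw [h3] at h2
    exact h2.symm
  have hc0 : c = ∅ := by
    apply Finset.eq_empty_of_forall_notMem
    intro i hi
    have h2 : (if i ∈ c then -vec LF552A (σ.symm i) else vec LF552A (σ.symm i))
        = vec LF552A i := congrFun h1 i
    rw [if_pos hi, a48_coord, a48_coord] at h2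
    split_ifs at h2
  subst hc0
  have hσ0 : σ (some 0) = some 0 := by
    have h2 : (if σ (some 0) ∈ (∅ : Finset GolayPt) then -vec LF552A (σ.symm (σ (some 0)))
        else vec LF552A (σ.symm (σ (some 0)))) = vec LF552A (σ (some 0)) :=
      congrFun h1 (σ (some 0))
    rw [if_neg (Finset.notMem_empty _), Equiv.symm_apply_apply, a48_coord, a48_coord] at h2
    by_contra hne
    rw [if_pos rfl, if_neg hne] at h2
    omega
  have hcomm' : σ * tau = tau * σ := by
    have h2 := actsAs_mul hsσ hx
    have h3 := actsAs_mul hx hsσ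
    rw [hcomm] at h2
    exact actsAs_perm_unique h2 h3
  have hne : σ none ≠ some 0 := by
    intro h
    have h2 : σ none = σ (some 0) := by rw [h, hσ0]
    exact absurd (σ.injective h2) (by decide)
  obtain ⟨n, hn⟩ := tau_orbit (σ none) hne
  have hpow : ∀ m : ℕ, σ * tau ^ m = tau ^ m * σ := by
    intro m
    exact (Commute.pow_right (show Commute σ tau from hcomm') m).eq
  have hσeq : σ = tau ^ n.val := by
    apply Equiv.ext
    intro p
    by_cases hp : p = some 0
    · rw [hp, hσ0]
      exact (Equiv.Perm.pow_apply_eq_self_of_apply_eq_self tau_fix0 n.val).symm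
    · obtain ⟨m, hm⟩ := tau_orbit p hp
      rw [← hm]
      have h2 : σ ((tau ^ m.val) none) = (tau ^ m.val) (σ none) :=
        congrArg (fun f : Equiv.Perm GolayPt => f none) (hpow m.val)
      rw [h2, ← hn]
      show (tau ^ m.val * tau ^ n.val) none = (tau ^ n.val * tau ^ m.val) none
      rw [← pow_add, ← pow_add, add_comm]
  have h4 := actsAs_pow_empty hx n.val
  rw [← hσeq] at h4
  have h5 : s = x ^ n.val := actsAs_ext hsσ h4
  rw [h5]
  exact Subgroup.pow_mem _ (Subgroup.mem_zpowers x) _

example : Cfsg.Agent.H33.C3.StCentX := centX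

end Cfsg.Agent.H11.C3

#print axioms Cfsg.Agent.H11.C3.centX
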