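import Cfsg.Agent.H11.SmallSimple
import Cfsg.Agent.H2.CensusStmts

/-!
# Census tables for the orders `3641 .. 6232` (helper11, for helper2's S0983): the boolean tests

Boolean versions of the Sylow and Burnside arithmetic tests of `H11.SmallSimple` (after helper21's
`H21/SmallTable.lean`), with a primality test valid below `80 ^ 2`, and the row/chunk soundness
lemmas for the list `Cfsg.Agent.H2.Census.special`.
-/

set_option autoImplicit false

namespace Cfsg.Agent.H11.Census

open Cfsg.Agent.H11 Cfsg.Agent.H2.Census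

/-- Boolean primality test by trial division, valid below `80 ^ 2`. -/
def primeB (p : ℕ) : Bool :=
  decide (2 ≤ p) && decide (p < 6400) &&
    (List.range 80).all (fun m => decide (m < 2) || decide (p ≤ m) || !decide (m ∣ p))

theorem primeB_sound {p : ℕ} (h : primeB p = true) : 2 ≤ p ∧ ∀ m < p, 2 ≤ m → ¬ m ∣ p := by
  unfold primeB at h
  rw [Bool.and_eq_true, Bool.and_eq_true, decide_eq_true_eq, decide_eq_true_eq,
    List.all_eq_true] at h
  obtain ⟨⟨h2, hlt⟩, hall⟩ := h
  have hprime : p.Prime := by
    by_contra hnp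
    have hsq := Nat.minFac_sq_le_self (by omega : 0 < p) hnp
    have hq : (Nat.minFac p).Prime := Nat.minFac_prime (by omega)
    have hq80 : Nat.minFac p < 80 := by nlinarith
    have hqp : Nat.minFac p < p := by
      have := hq.two_le
      nlinarith
    have := hall _ (List.mem_range.mpr hq80)
    rw [Bool.or_eq_true, Bool.or_eq_true, decide_eq_true_eq, decide_eq_true_eq,
      Bool.not_eq_true', decide_eq_false_iff_not] at this
    rcases this with (h' | h') | h'
    · have := hq.two_le
      omega
    · omega
    · exact h' (Nat.minFac_dvd p)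
  refine ⟨h2, fun m hm hm2 hdvd => ?_⟩
  rcases (Nat.dvd_prime hprime).mp hdvd with h' | h' <;> omega

/-- Boolean version of `SylowKills`: only the `d = 1 + p k` are inspected. -/
def sylowB (n p : ℕ) : Bool :=
  primeB p && decide (p ∣ n) &&
    (List.range (n / p + 1)).all (fun k =>
      !(decide (1 + p * k ∣ n) && !decide (k = 0) && decide (n ∣ (1 + p * k).factorial)))

theorem sylowB_sound {n p : ℕ} (h : sylowB n p = true) : SylowKills n p := by
  unfold sylowB at h
  rw [Bool.and_eq_true, Bool.and_eq_true, decide_eq_true_eq, List.all_eq_true] at h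
  obtain ⟨⟨hp, hpn⟩, hall⟩ := h
  have hp2 := (primeB_sound hp).1
  refine ⟨primeB_sound hp, hpn, fun d hd hdn hmod hd1 hfac => ?_⟩
  have hdk : d = 1 + p * (d / p) := by
    have := Nat.div_add_mod d p
    omega
  have hk : d / p ≤ n / p := Nat.div_le_div_right hd
  have := hall (d / p) (List.mem_range.mpr (by omega))
  rw [← hdk, Bool.not_eq_true', Bool.and_eq_false_iff, Bool.and_eq_false_iff,
    decide_eq_false_iff_not, Bool.not_eq_false', decide_eq_true_eq,
    decide_eq_false_iff_not] at this
  rcases this with (h' | h') | h'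
  · exact h' hdn
  · rw [h'] at hdk; omega
  · exact h' hfac

/-- Boolean version of `BurnsideKills`. -/
def burnB (n p : ℕ) : Bool :=
  primeB p && decide (p ∣ n) && !decide (p * p ∣ n) &&
    (List.range (n / p + 1)).all (fun k =>
      !(decide (1 + p * k ∣ n) && !decide (k = 0) && decide (n ∣ (1 + p * k).factorial)) ||
        decide (Nat.gcd (n / ((1 + p * k) * p)) (p - 1) = 1))

theorem burnB_sound {n p : ℕ} (h : burnB n p = true) : BurnsideKills n p := by
  unfold burnB at h
  rw [Bool.and_eq_true, Bool.and_eq_true, Bool.and_eq_true, decide_eq_true_eq,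
    Bool.not_eq_true', decide_eq_false_iff_not, List.all_eq_true] at h
  obtain ⟨⟨⟨hp, hpn⟩, hpp⟩, hall⟩ := h
  have hp2 := (primeB_sound hp).1
  refine ⟨primeB_sound hp, hpn, hpp, fun d hd hdn hmod hd1 hfac => ?_⟩
  have hdk : d = 1 + p * (d / p) := by
    have := Nat.div_add_mod d p
    omega
  have hk : d / p ≤ n / p := Nat.div_le_div_right hd
  have := hall (d / p) (List.mem_range.mpr (by omega))
  rw [← hdk, Bool.or_eq_true, Bool.not_eq_true', Bool.and_eq_false_iff, Bool.and_eq_false_iff,
    decide_eq_false_iff_not, Bool.not_eq_false', decide_eq_true_eq,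
    decide_eq_false_iff_not, decide_eq_true_eq] at this
  rcases this with ((h' | h') | h') | h'
  · exact absurd hdn h'
  · rw [h'] at hdk; omega
  · exact absurd hfac h'
  · exact h'

/-- One row of the table: an order with its witness prime. -/
def rowB (x : ℕ × ℕ) : Bool :=
  sylowB x.1 x.2 || burnB x.1 x.2 || special.contains x.1

theorem row_sound {x : ℕ × ℕ} (h : rowB x = true) :
    (∃ p, SylowKills x.1 p) ∨ (∃ p, BurnsideKills x.1 p) ∨ x.1 ∈ special := by
  unfold rowB at h
  rw [Bool.or_eq_true, Bool.or_eq_true] at h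
  rcases h with (h | h) | h
  · exact Or.inl ⟨_, sylowB_sound h⟩
  · exact Or.inr (Or.inl ⟨_, burnB_sound h⟩)
  · exact Or.inr (Or.inr (by simpa using h))

theorem chunk_sound (l : List (ℕ × ℕ)) (a len : ℕ) (hl : l.map Prod.fst = List.range' a len)
    (hall : l.all rowB = true) (n : ℕ) (ha : a ≤ n) (hb : n < a + len) :
    (∃ p, SylowKills n p) ∨ (∃ p, BurnsideKills n p) ∨ n ∈ special := by
  have hn : n ∈ l.map Prod.fst := by
    rw [hl]; exact List.mem_range'_1.mpr ⟨ha, hb⟩
  obtain ⟨x, hx, rfl⟩ := List.mem_map.mp hn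
  exact row_sound (List.all_eq_true.mp hall x hx)

end Cfsg.Agent.H11.Census
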