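import Mathlib
import Cfsg.Agent.H84.DihDefs
import Cfsg.Agent.H24.DihBASIC
import Cfsg.Agent.H75.DihCARD
import Cfsg.Agent.H80.DihQInv
import Cfsg.Agent.H71.DihQIOTA
import Cfsg.Agent.H11.DihQJ0Core

/-!
helper11: S4482-QJ0 (`card_invol_pairs_J`), assembled from the core `card_invol_pairs_J_core`
and the landed pieces QINV (helper80), QIOTA (helper71), CARD (helper75).
-/

set_option autoImplicit false
set_option linter.unusedSectionVars false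

open Cfsg.Agent.H84.Dih

universe u

namespace Cfsg.Agent.H11.Dih

variable {G : Type u} [Group G] [Finite G] {n : ℕ} {P : Sylow 2 G} {σ τ : G} {X : Subgroup G}

theorem card_invol_pairs_J (h : Hyp n P σ τ) (hX : Core n P σ X)
    (hconj : IsConj (σ ^ (2 ^ (n - 2))) τ ∧ IsConj (σ ^ (2 ^ (n - 2))) (σ * τ)) :
    Nat.card {q : G × G // IsConj (σ ^ (2 ^ (n - 2))) q.1 ∧ IsConj (σ ^ (2 ^ (n - 2))) q.2 ∧
        ∃ ρ ∈ X, q.1 * q.2 = σ ^ (2 ^ (n - 2)) * ρ} *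
      (4 * Nat.card ↥(X ⊓ Subgroup.centralizer ({τ} : Set G)) ^ 2 *
        Nat.card ↥(X ⊓ Subgroup.centralizer ({σ * τ} : Set G)) ^ 2) =
    Nat.card (Subgroup.centralizer ({σ ^ (2 ^ (n - 2))} : Set G)) * Nat.card X *
      (Nat.card ↥(X ⊓ Subgroup.centralizer ({τ} : Set G)) ^ 2 +
        Nat.card ↥(X ⊓ Subgroup.centralizer ({σ * τ} : Set G)) ^ 2) :=
  card_invol_pairs_J_core h hX hconj
    (fun u hu huC huJ => Cfsg.Agent.H80.Dih.invol_class h hX u hu huC huJ)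
    (fun g hg => Cfsg.Agent.H80.Dih.invol_not_conj h hX g hg)
    (fun g hg => Cfsg.Agent.H71.DihC.iota_J_τ h hX g hg)
    (fun g hg => Cfsg.Agent.H71.DihC.iota_J_στ h hX g hg)
    (Cfsg.Agent.H75.Dih.card_cent_τ h hX) (Cfsg.Agent.H75.Dih.card_cent_στ h hX)

example (h : Hyp n P σ τ) (hX : Core n P σ X)
    (hconj : IsConj (σ ^ (2 ^ (n - 2))) τ ∧ IsConj (σ ^ (2 ^ (n - 2))) (σ * τ)) :
    Nat.card {q : G × G // IsConj (σ ^ (2 ^ (n - 2))) q.1 ∧ IsConj (σ ^ (2 ^ (n - 2))) q.2 ∧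
        ∃ ρ ∈ X, q.1 * q.2 = σ ^ (2 ^ (n - 2)) * ρ} *
      (4 * Nat.card ↥(X ⊓ Subgroup.centralizer ({τ} : Set G)) ^ 2 *
        Nat.card ↥(X ⊓ Subgroup.centralizer ({σ * τ} : Set G)) ^ 2) =
    Nat.card (Subgroup.centralizer ({σ ^ (2 ^ (n - 2))} : Set G)) * Nat.card X *
      (Nat.card ↥(X ⊓ Subgroup.centralizer ({τ} : Set G)) ^ 2 +
        Nat.card ↥(X ⊓ Subgroup.centralizer ({σ * τ} : Set G)) ^ 2) :=
  card_invol_pairs_J h hX hconj

end Cfsg.Agent.H11.Dih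

#print axioms Cfsg.Agent.H11.Dih.card_invol_pairs_J
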