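import Cfsg.Agent.H11.Dihedral2
import Cfsg.Agent.H11.Cores

set_option autoImplicit false

namespace Cfsg.Agent.H11

open Pointwise

variable {X : Type*} [Group X]

theorem r_mem_zpowers_r_one {m : ℕ} (i : ZMod m) :
    DihedralGroup.r i ∈ Subgroup.zpowers (DihedralGroup.r (1 : ZMod m)) :=
  ⟨(i.cast : ℤ), by simp⟩

theorem mem_zpowers_r_one_iff {m : ℕ} (d : DihedralGroup m) :
    d ∈ Subgroup.zpowers (DihedralGroup.r (1 : ZMod m)) ↔ ∃ i, d = DihedralGroup.r i := by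
  constructor
  · rintro ⟨k, rfl⟩
    exact ⟨(k : ZMod m), by simp⟩
  · rintro ⟨i, rfl⟩
    exact r_mem_zpowers_r_one i

/-- The rotation subgroup of a subgroup `S ≃* DihedralGroup m`, as a subgroup of the ambient group. -/
def rot {m : ℕ} (S : Subgroup X) (e : S ≃* DihedralGroup m) : Subgroup X :=
  ((Subgroup.zpowers (DihedralGroup.r (1 : ZMod m))).comap e.toMonoidHom).map S.subtype

theorem mem_rot {m : ℕ} {S : Subgroup X} {e : S ≃* DihedralGroup m} {x : X} :
    x ∈ rot S e ↔ ∃ hx : x ∈ S, ∃ i : ZMod m, e ⟨x, hx⟩ = DihedralGroup.r i := by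
  constructor
  · intro h
    obtain ⟨y, hy, rfl⟩ := Subgroup.mem_map.mp h
    exact ⟨y.2, (mem_zpowers_r_one_iff _).mp hy⟩
  · rintro ⟨hx, i, hi⟩
    refine Subgroup.mem_map.mpr ⟨⟨x, hx⟩, ?_, rfl⟩
    show e ⟨x, hx⟩ ∈ Subgroup.zpowers (DihedralGroup.r (1 : ZMod m))
    rw [hi]
    exact r_mem_zpowers_r_one i

theorem rot_le {m : ℕ} (S : Subgroup X) (e : S ≃* DihedralGroup m) : rot S e ≤ S := by
  intro x hx
  exact (mem_rot.mp hx).1

theorem exists_sr_of_not_mem_rot {m : ℕ} {S : Subgroup X} {e : S ≃* DihedralGroup m} {x : X}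
    (hx : x ∈ S) (h : x ∉ rot S e) : ∃ i : ZMod m, e ⟨x, hx⟩ = DihedralGroup.sr i := by
  cases hfx : e ⟨x, hx⟩ with
  | r j => exact absurd (mem_rot.mpr ⟨hx, j, hfx⟩) h
  | sr i => exact ⟨i, rfl⟩

theorem orderOf_eq_two_of_not_mem_rot {m : ℕ} {S : Subgroup X} {e : S ≃* DihedralGroup m} {x : X}
    (hx : x ∈ S) (h : x ∉ rot S e) : orderOf x = 2 := by
  obtain ⟨i, hi⟩ := exists_sr_of_not_mem_rot hx h
  rw [← Subgroup.orderOf_mk x hx, ← e.orderOf_eq, hi, DihedralGroup.orderOf_sr]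

theorem mul_mem_rot_of_not_mem {m : ℕ} {S : Subgroup X} {e : S ≃* DihedralGroup m} {x y : X}
    (hx : x ∈ S) (hy : y ∈ S) (hx' : x ∉ rot S e) (hy' : y ∉ rot S e) : x * y ∈ rot S e := by
  obtain ⟨i, hi⟩ := exists_sr_of_not_mem_rot hx hx'
  obtain ⟨j, hj⟩ := exists_sr_of_not_mem_rot hy hy'
  refine mem_rot.mpr ⟨S.mul_mem hx hy, j - i, ?_⟩
  have : (⟨x * y, S.mul_mem hx hy⟩ : S) = ⟨x, hx⟩ * ⟨y, hy⟩ := rfl
  rw [this, map_mul, hi, hj, DihedralGroup.sr_mul_sr]

theorem rot_isCyclic {m : ℕ} (S : Subgroup X) (e : S ≃* DihedralGroup m) : IsCyclic (rot S e) := by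
  set R : Subgroup (DihedralGroup m) := Subgroup.zpowers (DihedralGroup.r (1 : ZMod m))
  set M₀ : Subgroup S := R.comap e.toMonoidHom
  have hM₀cyc : IsCyclic M₀ :=
    isCyclic_of_injective ((e.toMonoidHom.comp M₀.subtype).codRestrict R (fun x => x.2)) (by
      intro x y hxy
      apply Subtype.ext
      apply e.injective
      exact congrArg Subtype.val hxy)
  exact isCyclic_of_injective
    (M₀.equivMapOfInjective S.subtype (Subgroup.subtype_injective _)).symm.toMonoidHom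
    (MulEquiv.injective _)

/-- An element of odd order normalizing a cyclic `2`-group centralizes it. -/
theorem mem_centralizer_of_isCyclic_of_odd [Finite X] (Q : Subgroup X) (hQc : IsCyclic Q)
    (hQ2 : IsPGroup 2 Q) (g : X) (hg : g ∈ Subgroup.normalizer (Q : Set X))
    (hodd : Odd (orderOf g)) : g ∈ Subgroup.centralizer (Q : Set X) := by
  have : Fact (Nat.Prime 2) := ⟨Nat.prime_two⟩
  let φ : MulAut Q := Q.normalizerMonoidHom ⟨g, hg⟩
  have h1 : orderOf φ ∣ orderOf g := by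
    have := orderOf_map_dvd Q.normalizerMonoidHom (⟨g, hg⟩ : Subgroup.normalizer (Q : Set X))
    rwa [Subgroup.orderOf_mk] at this
  have h2 : orderOf φ ∣ Nat.card (MulAut Q) := orderOf_dvd_natCard φ
  rw [IsCyclic.card_mulAut] at h2
  obtain ⟨k, hk⟩ := hQ2.exists_card_eq
  rw [hk] at h2
  have h3 : ∃ j, Nat.totient (2 ^ k) = 2 ^ j := by
    rcases Nat.eq_zero_or_pos k with rfl | hk0
    · exact ⟨0, by simp⟩
    · exact ⟨k - 1, by rw [Nat.totient_prime_pow Nat.prime_two hk0]; simp⟩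
  obtain ⟨j, hj⟩ := h3
  rw [hj] at h2
  have hoddφ : Odd (orderOf φ) := Odd.of_dvd_nat hodd h1
  have h4 : orderOf φ = 1 :=
    Nat.Coprime.eq_one_of_dvd (Nat.Coprime.pow_right j (Nat.coprime_two_right.mpr hoddφ)) h2
  have hφ : φ = 1 := orderOf_eq_one_iff.mp h4
  have hker : (⟨g, hg⟩ : Subgroup.normalizer (Q : Set X)) ∈ Q.normalizerMonoidHom.ker :=
    MonoidHom.mem_ker.mpr hφ
  rw [Subgroup.normalizerMonoidHom_ker, Subgroup.mem_subgroupOf] at hker
  exact hker

/-- If `N(Q) = C(Q) S₀` with `S₀` a `2`-group, then elements of odd order of `N(Q)` centralize `Q`. -/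
theorem mem_centralizer_of_normalizer_eq_sup [Finite X] (Q S₀ : Subgroup X) (hS₀ : IsPGroup 2 S₀)
    (hS₀N : S₀ ≤ Subgroup.normalizer (Q : Set X))
    (hN : Subgroup.normalizer (Q : Set X) = Subgroup.centralizer (Q : Set X) ⊔ S₀)
    (g : X) (hg : g ∈ Subgroup.normalizer (Q : Set X)) (hodd : Odd (orderOf g)) :
    g ∈ Subgroup.centralizer (Q : Set X) := by
  have hC : Subgroup.centralizer (Q : Set X) ≤ Subgroup.normalizer (Q : Set X) :=
    Subgroup.centralizer_le_normalizer _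
  have htop : (⊤ : Subgroup (Subgroup.normalizer (Q : Set X))) =
      (Subgroup.centralizer (Q : Set X)).subgroupOf (Subgroup.normalizer (Q : Set X)) ⊔
        S₀.subgroupOf (Subgroup.normalizer (Q : Set X)) := by
    rw [← Subgroup.subgroupOf_sup hC hS₀N, ← hN, Subgroup.subgroupOf_self]
  have hmem : Q.normalizerMonoidHom ⟨g, hg⟩ ∈
      (S₀.subgroupOf (Subgroup.normalizer (Q : Set X))).map Q.normalizerMonoidHom := by
    have h1 : Q.normalizerMonoidHom ⟨g, hg⟩ ∈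
        (⊤ : Subgroup (Subgroup.normalizer (Q : Set X))).map Q.normalizerMonoidHom :=
      Subgroup.mem_map_of_mem _ (Subgroup.mem_top _)
    rw [htop, Subgroup.map_sup] at h1
    have h2 : ((Subgroup.centralizer (Q : Set X)).subgroupOf
        (Subgroup.normalizer (Q : Set X))).map Q.normalizerMonoidHom = ⊥ :=
      (Subgroup.map_eq_bot_iff _).mpr (le_of_eq (Subgroup.normalizerMonoidHom_ker Q).symm)
    rw [h2, bot_sup_eq] at h1
    exact h1
  have hP : IsPGroup 2 ((S₀.subgroupOf (Subgroup.normalizer (Q : Set X))).map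
      Q.normalizerMonoidHom) := (hS₀.comap_subtype).map _
  obtain ⟨k, hk⟩ := hP ⟨_, hmem⟩
  have hk' : (Q.normalizerMonoidHom ⟨g, hg⟩) ^ 2 ^ k = 1 := congrArg Subtype.val hk
  have h1 : orderOf (Q.normalizerMonoidHom ⟨g, hg⟩) ∣ 2 ^ k := orderOf_dvd_of_pow_eq_one hk'
  have h2 : orderOf (Q.normalizerMonoidHom ⟨g, hg⟩) ∣ orderOf g := by
    have := orderOf_map_dvd Q.normalizerMonoidHom (⟨g, hg⟩ : Subgroup.normalizer (Q : Set X))
    rwa [Subgroup.orderOf_mk] at this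
  have hoddφ : Odd (orderOf (Q.normalizerMonoidHom ⟨g, hg⟩)) := Odd.of_dvd_nat hodd h2
  have h4 : orderOf (Q.normalizerMonoidHom ⟨g, hg⟩) = 1 :=
    Nat.Coprime.eq_one_of_dvd (Nat.Coprime.pow_right k (Nat.coprime_two_right.mpr hoddφ)) h1
  have hφ : Q.normalizerMonoidHom ⟨g, hg⟩ = 1 := orderOf_eq_one_iff.mp h4
  have hker : (⟨g, hg⟩ : Subgroup.normalizer (Q : Set X)) ∈ Q.normalizerMonoidHom.ker :=
    MonoidHom.mem_ker.mpr hφ
  rw [Subgroup.normalizerMonoidHom_ker, Subgroup.mem_subgroupOf] at hker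
  exact hker

/-- A subgroup `Q₀ ≤ Q` whose complement in `Q` is closed under `x, y ↦ x * y ∈ Q₀` has index `2`
(when it is proper). -/
theorem card_eq_two_mul_of_mul_mem [Finite X] (Q Q₀ : Subgroup X) (hQ₀Q : Q₀ ≤ Q)
    (hmul : ∀ x ∈ Q, ∀ y ∈ Q, x ∉ Q₀ → y ∉ Q₀ → x * y ∈ Q₀)
    (s : X) (hs : s ∈ Q) (hs' : s ∉ Q₀) : Nat.card Q = 2 * Nat.card Q₀ := by
  have hidx : (Q₀.subgroupOf Q).index = 2 := by
    rw [Subgroup.index_eq_two_iff]
    refine ⟨⟨s, hs⟩, fun b => ?_⟩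
    by_cases hb : (b : X) ∈ Q₀
    · refine Or.inr ⟨Subgroup.mem_subgroupOf.mpr hb, ?_⟩
      intro hbs
      have hbs' : (b : X) * s ∈ Q₀ := Subgroup.mem_subgroupOf.mp hbs
      have : s = (b : X)⁻¹ * ((b : X) * s) := by group
      exact hs' (this ▸ Q₀.mul_mem (Q₀.inv_mem hb) hbs')
    · refine Or.inl ⟨Subgroup.mem_subgroupOf.mpr (hmul b b.2 s hs hb hs'), ?_⟩
      intro hb'
      exact hb (Subgroup.mem_subgroupOf.mp hb')
  have h2 := Subgroup.card_mul_index (Q₀.subgroupOf Q)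
  have hc : Nat.card (Q₀.subgroupOf Q) = Nat.card Q₀ :=
    Nat.card_congr (Subgroup.subgroupOfEquivOfLe hQ₀Q).toEquiv
  rw [hc, hidx] at h2
  omega

/-- Odd-order elements normalizing a "dihedral-like" `2`-group (cyclic subgroup `Q₀` of order at
least `4` with all elements outside being involutions whose pairwise products lie in `Q₀`)
centralize it. -/
theorem mem_centralizer_of_dihedral_like [Finite X] (Q Q₀ : Subgroup X) (hQ₀Q : Q₀ ≤ Q)
    (hQ₀c : IsCyclic Q₀) (hQ₀2 : IsPGroup 2 Q₀) (h4 : 4 ≤ Nat.card Q₀)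
    (hinv : ∀ x ∈ Q, x ∉ Q₀ → orderOf x = 2)
    (hmul : ∀ x ∈ Q, ∀ y ∈ Q, x ∉ Q₀ → y ∉ Q₀ → x * y ∈ Q₀)
    (g : X) (hg : g ∈ Subgroup.normalizer (Q : Set X)) (hodd : Odd (orderOf g)) :
    g ∈ Subgroup.centralizer (Q : Set X) := by
  obtain ⟨c, hc⟩ := hQ₀c.exists_generator
  have hcord : orderOf (c : X) = Nat.card Q₀ := by
    rw [Subgroup.orderOf_coe]
    exact orderOf_eq_card_of_forall_mem_zpowers hc
  have hzg : Subgroup.zpowers g ≤ Subgroup.normalizer (Q : Set X) := Subgroup.zpowers_le.mpr hg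
  -- powers of `g` normalize `Q₀`
  have hA : ∀ c' ∈ Subgroup.zpowers g, ∀ x ∈ Q₀, c' * x * c'⁻¹ ∈ Q₀ := by
    intro c' hc' x hx
    have h1 : c' * (c : X) * c'⁻¹ ∈ Q := conj_mem_of_mem_normalizer (hzg hc') (hQ₀Q c.2)
    have h2 : c' * (c : X) * c'⁻¹ ∈ Q₀ := by
      by_contra hcon
      have h3 := hinv _ h1 hcon
      rw [orderOf_conj_eq, hcord] at h3
      omega
    obtain ⟨k, hk⟩ := Subgroup.mem_zpowers_iff.mp (hc ⟨x, hx⟩)
    have hx' : x = (c : X) ^ k := by
      have := congrArg Subtype.val hk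
      simpa using this.symm
    rw [hx', ← conj_zpow]
    exact Q₀.zpow_mem h2 k
  have hgN₀ : g ∈ Subgroup.normalizer (Q₀ : Set X) :=
    le_normalizer_of_conj_mem hA (Subgroup.mem_zpowers g)
  have hgC₀ : g ∈ Subgroup.centralizer (Q₀ : Set X) :=
    mem_centralizer_of_isCyclic_of_odd Q₀ hQ₀c hQ₀2 g hgN₀ hodd
  rw [Subgroup.mem_centralizer_iff]
  intro x hx
  by_cases hx0 : x ∈ Q₀
  · exact Subgroup.mem_centralizer_iff.mp hgC₀ x hx0
  · set y := g * x * g⁻¹ with hy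
    have hyQ : y ∈ Q := conj_mem_of_mem_normalizer hg hx
    have hy0 : y ∉ Q₀ := by
      intro hcon
      have h1 := hA g⁻¹ (Subgroup.inv_mem _ (Subgroup.mem_zpowers g)) y hcon
      have e : g⁻¹ * y * g⁻¹⁻¹ = x := by rw [hy]; group
      rw [e] at h1
      exact hx0 h1
    have hcQ : x * y ∈ Q₀ := hmul x hx y hyQ hx0 hy0
    have hx2 : x * x = 1 := by
      have := hinv x hx hx0
      rw [← pow_two, ← this]
      exact pow_orderOf_eq_one x
    set d := x * y with hd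
    have hyd : y = x * d := by
      rw [hd, ← mul_assoc, hx2, one_mul]
    have hgd : d * g = g * d := Subgroup.mem_centralizer_iff.mp hgC₀ d hcQ
    have hconj : g * x * g⁻¹ = x * d := hyd
    have hgdk : ∀ k : ℕ, g * d ^ k * g⁻¹ = d ^ k := by
      intro k
      have : g * d ^ k = d ^ k * g := by
        induction k with
        | zero => simp
        | succ k ih => rw [pow_succ, ← mul_assoc, ih, mul_assoc, ← hgd, ← mul_assoc]
      rw [this, mul_assoc, mul_inv_cancel, mul_one]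
    have hind : ∀ k : ℕ, g ^ k * x * (g ^ k)⁻¹ = x * d ^ k := by
      intro k
      induction k with
      | zero => simp
      | succ k ih =>
        have e1 : g ^ (k + 1) * x * (g ^ (k + 1))⁻¹ = g * (g ^ k * x * (g ^ k)⁻¹) * g⁻¹ := by
          rw [pow_succ']; group
        rw [e1, ih]
        have e2 : g * (x * d ^ k) * g⁻¹ = (g * x * g⁻¹) * (g * d ^ k * g⁻¹) := by group
        rw [e2, hconj, hgdk k, mul_assoc, ← pow_succ']
    have hfin := hind (orderOf g)
    rw [pow_orderOf_eq_one, one_mul, inv_one, mul_one] at hfin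
    have hdn : d ^ orderOf g = 1 := by
      have : x * d ^ orderOf g = x * 1 := by rw [mul_one]; exact hfin.symm
      exact mul_left_cancel this
    have hd1 : orderOf d ∣ orderOf g := orderOf_dvd_of_pow_eq_one hdn
    obtain ⟨a, ha⟩ := hQ₀2.exists_card_eq
    have hd2 : orderOf d ∣ 2 ^ a := by
      rw [← ha]
      have := orderOf_dvd_natCard (⟨d, hcQ⟩ : Q₀)
      rwa [Subgroup.orderOf_mk] at this
    have hoddd : Odd (orderOf d) := Odd.of_dvd_nat hodd hd1
    have hd3 : orderOf d = 1 :=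
      Nat.Coprime.eq_one_of_dvd (Nat.Coprime.pow_right a (Nat.coprime_two_right.mpr hoddd)) hd2
    have hd4 : d = 1 := orderOf_eq_one_iff.mp hd3
    rw [hd4, mul_one] at hconj
    have : g * x = x * g := by
      have e : g * x = (g * x * g⁻¹) * g := by group
      rw [e, hconj]
    exact this.symm

/-- For a dihedral Sylow `2`-subgroup `S`: if `N(U) = C(U) (S ∩ N(U))` for all four-subgroups
`U ≤ S`, then every odd-order element normalizing a subgroup `Q ≤ S` centralizes it. -/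
theorem frobenius_condition_of_dihedral [Finite X] (S : Sylow 2 X) {m : ℕ}
    (e : (S : Subgroup X) ≃* DihedralGroup m)
    (H : ∀ U : Subgroup X, U ≤ S → IsKleinFour U →
      Subgroup.normalizer (U : Set X) =
        Subgroup.centralizer (U : Set X) ⊔ ((S : Subgroup X) ⊓ Subgroup.normalizer (U : Set X)))
    (Q : Subgroup X) (hQS : Q ≤ S) (g : X) (hg : g ∈ Subgroup.normalizer (Q : Set X))
    (hodd : Odd (orderOf g)) : g ∈ Subgroup.centralizer (Q : Set X) := by
  have : Fact (Nat.Prime 2) := ⟨Nat.prime_two⟩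
  have hQ2 : IsPGroup 2 Q := S.2.to_le hQS
  set Q₀ : Subgroup X := Q ⊓ rot (S : Subgroup X) e with hQ₀
  have hQ₀Q : Q₀ ≤ Q := inf_le_left
  have hQ₀2 : IsPGroup 2 Q₀ := hQ2.to_le hQ₀Q
  have hrc : IsCyclic (rot (S : Subgroup X) e) := rot_isCyclic _ e
  have hQ₀c : IsCyclic Q₀ :=
    isCyclic_of_injective (Subgroup.inclusion (inf_le_right : Q₀ ≤ rot (S : Subgroup X) e))
      (Subgroup.inclusion_injective _)
  have hnr : ∀ x ∈ Q, x ∉ Q₀ → x ∉ rot (S : Subgroup X) e := fun x hx hx0 hr => hx0 ⟨hx, hr⟩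
  have hinv : ∀ x ∈ Q, x ∉ Q₀ → orderOf x = 2 := fun x hx hx0 =>
    orderOf_eq_two_of_not_mem_rot (hQS hx) (hnr x hx hx0)
  have hmul : ∀ x ∈ Q, ∀ y ∈ Q, x ∉ Q₀ → y ∉ Q₀ → x * y ∈ Q₀ := fun x hx y hy hx0 hy0 =>
    ⟨Q.mul_mem hx hy, mul_mem_rot_of_not_mem (hQS hx) (hQS hy) (hnr x hx hx0) (hnr y hy hy0)⟩
  by_cases h4 : 4 ≤ Nat.card Q₀
  · exact mem_centralizer_of_dihedral_like Q Q₀ hQ₀Q hQ₀c hQ₀2 h4 hinv hmul g hg hodd
  · -- `|Q₀| ≤ 2`
    obtain ⟨a, ha⟩ := hQ₀2.exists_card_eq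
    have ha1 : a ≤ 1 := by
      by_contra hcon
      have : 2 ^ 2 ≤ 2 ^ a := Nat.pow_le_pow_right (by norm_num) (by omega)
      omega
    have hQ₀le : Nat.card Q₀ ≤ 2 := by
      rw [ha]
      calc 2 ^ a ≤ 2 ^ 1 := Nat.pow_le_pow_right (by norm_num) ha1
        _ = 2 := by norm_num
    have hsq0 : ∀ x ∈ Q₀, x * x = 1 := by
      intro x hx
      have h1 : orderOf x ∣ 2 := by
        have h2 := orderOf_dvd_natCard (⟨x, hx⟩ : Q₀)
        rw [Subgroup.orderOf_mk, ha] at h2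
        exact h2.trans (pow_dvd_pow 2 ha1)
      rw [← pow_two]
      exact orderOf_dvd_iff_pow_eq_one.mp h1
    have hsq : ∀ x ∈ Q, x * x = 1 := by
      intro x hx
      by_cases hx0 : x ∈ Q₀
      · exact hsq0 x hx0
      · have := hinv x hx hx0
        rw [← pow_two, ← this]
        exact pow_orderOf_eq_one x
    have hQle : Nat.card Q ≤ 4 := by
      by_cases hex : ∃ s ∈ Q, s ∉ Q₀
      · obtain ⟨s, hs, hs0⟩ := hex
        rw [card_eq_two_mul_of_mul_mem Q Q₀ hQ₀Q hmul s hs hs0]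
        omega
      · have hle : Q ≤ Q₀ := by
          intro x hx
          by_contra hx0
          exact hex ⟨x, hx, hx0⟩
        exact le_trans (Subgroup.card_le_of_le hle) (by omega)
    obtain ⟨b, hb⟩ := hQ2.exists_card_eq
    by_cases hQ4 : Nat.card Q = 4
    · have hK : IsKleinFour Q := isKleinFour_of_card_sq Q hQ4 hsq
      exact mem_centralizer_of_normalizer_eq_sup Q _ (S.2.to_le inf_le_left) inf_le_right
        (H Q hQS hK) g hg hodd
    · have hQ2' : Nat.card Q ≤ 2 := by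
        have hb2 : b ≤ 1 := by
          by_contra hcon
          have h1 : 2 ^ 2 ≤ 2 ^ b := Nat.pow_le_pow_right (by norm_num) (by omega)
          have h2 : b ≠ 2 := by
            rintro rfl
            exact hQ4 (by rw [hb]; norm_num)
          have h3 : 2 ^ 3 ≤ 2 ^ b := Nat.pow_le_pow_right (by norm_num) (by omega)
          omega
        rw [hb]
        calc 2 ^ b ≤ 2 ^ 1 := Nat.pow_le_pow_right (by norm_num) hb2
          _ = 2 := by norm_num
      exact mem_centralizer_of_isCyclic_of_odd Q (isCyclic_of_card_le_two Q hQ2') hQ2 g hg hodd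

end Cfsg.Agent.H11
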