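import Mathlib
import Cfsg.Agent.H86.GsDefs

/-!
# S5665 (helper86's project), piece GS-PROPER: a non-trivial symplectic transvection does not
normalise the quadratic field `K = F + F J`
-/

set_option autoImplicit false

namespace Cfsg.Agent.H11.Gs

open Cfsg Cfsg.Geo Cfsg.Agent.H95 Cfsg.Agent.H86.Gs
open scoped MatrixGroups Matrix

universe u

theorem gsProper : StProper.{u} := by
  intro m F _ J δ C hm K hK v hv hT
  have hT' : ∀ k : Mat m F, k ∈ K ↔
      ((sympTransv v 1 : GL (Fin m ⊕ Fin m) F) : Mat m F) * k *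
        (((sympTransv v 1)⁻¹ : GL (Fin m ⊕ Fin m) F) : Mat m F) ∈ K := hT
  have hJK : J ∈ K := (hK J).mpr ⟨0, 1, by rw [zero_smul, zero_add, one_smul]⟩
  obtain ⟨a, b, hab⟩ := (hK _).mp ((hT' J).mp hJK)
  have hinv : (((sympTransv v 1)⁻¹ : GL (Fin m ⊕ Fin m) F) : Mat m F) *
      ((sympTransv v 1 : GL (Fin m ⊕ Fin m) F) : Mat m F) = 1 := by
    rw [← Units.val_mul, inv_mul_cancel, Units.val_one]
  have hTJ : ((sympTransv v 1 : GL (Fin m ⊕ Fin m) F) : Mat m F) * J =
      (a • (1 : Mat m F) + b • J) * ((sympTransv v 1 : GL (Fin m ⊕ Fin m) F) : Mat m F) := by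
    rw [← hab, mul_assoc, hinv, mul_one]
  -- the relation on vectors
  have hrel : ∀ y : V m F, J *ᵥ y + sympForm m F (J *ᵥ y) v • v =
      a • (y + sympForm m F y v • v) + b • (J *ᵥ y + sympForm m F y v • (J *ᵥ v)) := by
    intro y
    have h1 : (((sympTransv v 1 : GL (Fin m ⊕ Fin m) F) : Mat m F) * J) *ᵥ y =
        ((a • (1 : Mat m F) + b • J) * ((sympTransv v 1 : GL (Fin m ⊕ Fin m) F) : Mat m F)) *ᵥ y := by
      rw [hTJ]
    rw [← Matrix.mulVec_mulVec, ← Matrix.mulVec_mulVec, sympTransv_mulVec, sympTransv_mulVec,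
      Matrix.add_mulVec, Matrix.smul_mulVec, Matrix.smul_mulVec, Matrix.one_mulVec, one_mul,
      one_mul, Matrix.mulVec_add, Matrix.mulVec_smul] at h1
    exact h1
  -- a non-zero vector orthogonal to `v` and `J v`
  obtain ⟨y, hy0, hy1, hy2⟩ : ∃ y : V m F, y ≠ 0 ∧ sympForm m F y v = 0 ∧
      sympForm m F y (J *ᵥ v) = 0 := by
    have hlt : Module.finrank F (F × F) < Module.finrank F (V m F) := by
      rw [Module.finrank_prod, Module.finrank_self, Module.finrank_pi, Fintype.card_sum,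
        Fintype.card_fin]
      omega
    have hker := LinearMap.ker_ne_bot_of_finrank_lt (f := (sympL v).prod (sympL (J *ᵥ v))) hlt
    obtain ⟨y, hyk, hy0⟩ := (Submodule.ne_bot_iff _).mp hker
    have h1 : ((sympL v).prod (sympL (J *ᵥ v))) y = 0 := hyk
    have h2 : (sympForm m F y v, sympForm m F y (J *ᵥ v)) = (0, 0) := h1
    exact ⟨y, hy0, (Prod.mk.inj h2).1, (Prod.mk.inj h2).2⟩
  have hy3 : sympForm m F (J *ᵥ y) v = 0 := by rw [C.skew, hy2, neg_zero]
  have hab1 : a = 0 ∧ b - 1 = 0 := by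
    apply C.indep hy0
    have h1 := hrel y
    simp only [hy1, hy3, zero_smul, add_zero] at h1
    have e : a • y + (b - 1) • (J *ᵥ y) = (a • y + b • (J *ᵥ y)) - J *ᵥ y := by module
    rw [e, ← h1, sub_self]
  obtain ⟨ha, hb⟩ := hab1
  have hb1 : b = 1 := by linear_combination hb
  subst ha
  subst hb1
  -- a vector not orthogonal to `v`
  obtain ⟨w, hw⟩ := Cfsg.Agent.H17.sympForm_exists_ne m v hv
  have hw' : sympForm m F w v ≠ 0 := by
    rw [sympForm_skew]
    exact neg_ne_zero.mpr hw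
  have h1 := hrel w
  rw [zero_smul, zero_add, one_smul] at h1
  have h3 : (-(sympForm m F (J *ᵥ w) v)) • v + sympForm m F w v • (J *ᵥ v) = 0 := by
    have e : (-(sympForm m F (J *ᵥ w) v)) • v + sympForm m F w v • (J *ᵥ v) =
        (J *ᵥ w + sympForm m F w v • (J *ᵥ v)) - (J *ᵥ w + sympForm m F (J *ᵥ w) v • v) := by
      module
    rw [e, ← h1, sub_self]
  exact hw' (C.indep hv h3).2

example : Cfsg.Agent.H86.Gs.StProper.{u} := gsProper

end Cfsg.Agent.H11.Gs

#print axioms Cfsg.Agent.H11.Gs.gsProper
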