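import Mathlib
import Cfsg.Agent.H82.JxDefs

/-!
# JX-FUN (helper82, clause `|W_K| = 4`): an abelian 2-group acting on an elementary abelian
2-group with at most two fixed points

Route: a character `lam` of `U` with `lam f ≠ 1` (`f` the fixed involution); the twists
`lam ∘ c_b` are pairwise different modulo `C_B(U)` and take the value `≠ 1` at `f`, and
there are at most `|U| / 2` characters with that property.
-/

set_option autoImplicit false

namespace Cfsg.Agent.H11.Jx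

universe u

open Cfsg Cfsg.Agent.H82.Jx

/-- a 2-group normalizing a nontrivial subgroup of exponent 2 fixes a nontrivial element -/
theorem fix_pt {G : Type u} [Group G] [Finite G] (B D : Subgroup G) (hB : IsPGroup 2 ↥B)
    (hD2 : ∀ u ∈ D, u * u = 1) (hBD : ∀ b ∈ B, ∀ u ∈ D, b * u * b⁻¹ ∈ D) (hD : D ≠ ⊥) :
    ∃ u ∈ D, u ≠ 1 ∧ ∀ b ∈ B, b * u * b⁻¹ = u := by
  classical
  letI : MulAction ↥B ↥D :=
    { smul := fun b u => ⟨(b : G) * (u : G) * (b : G)⁻¹, hBD b b.2 u u.2⟩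
      one_smul := fun u => Subtype.ext (by
        show ((1 : ↥B) : G) * (u : G) * ((1 : ↥B) : G)⁻¹ = u
        simp)
      mul_smul := fun b c u => Subtype.ext (by
        show ((b * c : ↥B) : G) * (u : G) * ((b * c : ↥B) : G)⁻¹
          = (b : G) * ((c : G) * (u : G) * (c : G)⁻¹) * (b : G)⁻¹
        simp [mul_assoc]) }
  haveI : Fact (Nat.Prime 2) := ⟨Nat.prime_two⟩
  have h2 : 2 ∣ Nat.card ↥D := by
    obtain ⟨u, hu1⟩ := (Subgroup.ne_bot_iff_exists_ne_one).mp hD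
    have ho : orderOf u = 2 := by
      refine orderOf_eq_prime ?_ hu1
      rw [pow_two]
      exact Subtype.ext (hD2 u u.2)
    rw [← ho]
    exact orderOf_dvd_natCard u
  have h1 : (1 : ↥D) ∈ MulAction.fixedPoints ↥B ↥D := by
    intro b
    apply Subtype.ext
    show (b : G) * ((1 : ↥D) : G) * (b : G)⁻¹ = ((1 : ↥D) : G)
    simp
  obtain ⟨x, hx, hne⟩ := hB.exists_fixed_point_of_prime_dvd_card_of_fixed_point ↥D h2 h1
  refine ⟨x, x.2, ?_, ?_⟩
  · intro h
    apply hne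
    exact Subtype.ext h.symm
  · intro b hb
    have := hx ⟨b, hb⟩
    exact congrArg Subtype.val this

theorem units_aux (z w : ℂˣ) (hz : z * z = 1) (hw : w * w = 1) (hz1 : z ≠ 1) (hw1 : w ≠ 1) :
    z * w = 1 := by
  have h1 : ∀ t : ℂˣ, t * t = 1 → t ≠ 1 → t = -1 := by
    intro t ht ht1
    have h3 : (t : ℂ) * (t : ℂ) = 1 := by
      have := congrArg Units.val ht
      simpa using this
    have h2 : ((t : ℂ) - 1) * ((t : ℂ) + 1) = 0 := by
      linear_combination h3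
    rcases mul_eq_zero.mp h2 with h | h
    · exfalso
      apply ht1
      apply Units.ext
      have : (t : ℂ) = 1 := by linear_combination h
      simpa using this
    · apply Units.ext
      have : (t : ℂ) = -1 := by linear_combination h
      simpa using this
  rw [h1 z hz hz1, h1 w hw hw1]
  simp

/-- JX-FUN. -/
theorem fn : StFun.{u} := by
  intro G _ _ B U hBc hB hUc hU2 hBU hF hU
  classical
  obtain ⟨f, hfU, hf1, hfB⟩ := fix_pt B U hB hU2 hBU hU
  have hfF : f ∈ U ⊓ Subgroup.centralizer (B : Set G) := by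
    refine ⟨hfU, ?_⟩
    show f ∈ Subgroup.centralizer (B : Set G)
    rw [Subgroup.mem_centralizer_iff]
    intro b hb
    have := hfB b hb
    calc b * f = b * f * b⁻¹ * b := by group
      _ = f * b := by rw [this]
  have hFall : ∀ y ∈ U ⊓ Subgroup.centralizer (B : Set G), y = 1 ∨ y = f := by
    intro y hy
    have hof : orderOf f = 2 := by
      haveI : Fact (Nat.Prime 2) := ⟨Nat.prime_two⟩
      exact orderOf_eq_prime (by rw [pow_two]; exact hU2 f hfU) hf1
    have hz : Subgroup.zpowers f ≤ U ⊓ Subgroup.centralizer (B : Set G) := by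
      rw [Subgroup.zpowers_le]; exact hfF
    have hc : Nat.card ↥(Subgroup.zpowers f) = 2 := by rw [Nat.card_zpowers, hof]
    have heq : Subgroup.zpowers f = U ⊓ Subgroup.centralizer (B : Set G) :=
      Subgroup.eq_of_le_of_card_ge hz (by rw [hc]; exact hF)
    rw [← heq] at hy
    obtain ⟨k, rfl⟩ := Subgroup.mem_zpowers_iff.mp hy
    rcases Int.emod_two_eq_zero_or_one k with h | h
    · left
      have hk : k = 2 * (k / 2) := by omega
      rw [hk, zpow_mul, zpow_two, hU2 f hfU, one_zpow]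
    · right
      have hk : k = 2 * (k / 2) + 1 := by omega
      rw [hk, zpow_add, zpow_mul, zpow_two, hU2 f hfU, one_zpow, one_mul, zpow_one]
  letI : CommGroup ↥U :=
    { (inferInstance : Group ↥U) with mul_comm := fun a b => Subtype.ext (hUc a a.2 b b.2) }
  obtain ⟨lam, hlam⟩ := CommGroup.exists_apply_ne_one_of_hasEnoughRootsOfUnity ↥U ℂ
    (a := (⟨f, hfU⟩ : ↥U)) (fun h => hf1 (congrArg Subtype.val h))
  have hcardX : Nat.card (↥U →* ℂˣ) = Nat.card ↥U :=
    CommGroup.card_monoidHom_of_hasEnoughRootsOfUnity ↥U ℂ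
  haveI : Finite (↥U →* ℂˣ) :=
    Nat.finite_of_card_ne_zero (by rw [hcardX]; exact Nat.card_pos.ne')
  have hsq : ∀ μ : ↥U →* ℂˣ, μ ⟨f, hfU⟩ * μ ⟨f, hfU⟩ = 1 := by
    intro μ
    rw [← map_mul]
    have : (⟨f, hfU⟩ : ↥U) * ⟨f, hfU⟩ = 1 := Subtype.ext (hU2 f hfU)
    rw [this, map_one]
  let cj : ↥B → (↥U →* ↥U) := fun b =>
    { toFun := fun u => ⟨(b : G) * (u : G) * (b : G)⁻¹, hBU b b.2 u u.2⟩
      map_one' := Subtype.ext (by simp)
      map_mul' := fun u v => Subtype.ext (by simp [mul_assoc]) }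
  have hcjf : ∀ b : ↥B, cj b ⟨f, hfU⟩ = ⟨f, hfU⟩ := fun b => Subtype.ext (hfB b b.2)
  have key : ∀ b c : ↥B, lam.comp (cj b) = lam.comp (cj c) →
      (c⁻¹ * b : ↥B) ∈ (B ⊓ Subgroup.centralizer (U : Set G)).subgroupOf B := by
    intro b c hbc
    obtain ⟨d, hd⟩ : ∃ d : G, d = (c : G)⁻¹ * (b : G) := ⟨_, rfl⟩
    have hdB : d ∈ B := by rw [hd]; exact B.mul_mem (B.inv_mem c.2) b.2
    have hlamd : ∀ w : ↥U, lam ⟨d * (w : G) * d⁻¹, hBU d hdB w w.2⟩ = lam w := by
      intro w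
      have hcw : (c : G)⁻¹ * (w : G) * ((c : G)⁻¹)⁻¹ ∈ U := hBU _ (B.inv_mem c.2) w w.2
      have h1 := DFunLike.congr_fun hbc ⟨(c : G)⁻¹ * (w : G) * ((c : G)⁻¹)⁻¹, hcw⟩
      have e1 : cj b ⟨(c : G)⁻¹ * (w : G) * ((c : G)⁻¹)⁻¹, hcw⟩
          = ⟨d * (w : G) * d⁻¹, hBU d hdB w w.2⟩ := by
        apply Subtype.ext
        show (b : G) * ((c : G)⁻¹ * (w : G) * ((c : G)⁻¹)⁻¹) * (b : G)⁻¹ = d * (w : G) * d⁻¹
        have hcb : (b : G) * (c : G)⁻¹ = (c : G)⁻¹ * (b : G) :=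
          (hBc _ (B.inv_mem c.2) _ b.2).symm
        rw [hd]
        calc (b : G) * ((c : G)⁻¹ * (w : G) * ((c : G)⁻¹)⁻¹) * (b : G)⁻¹
            = ((b : G) * (c : G)⁻¹) * (w : G) * ((b : G) * (c : G)⁻¹)⁻¹ := by group
          _ = _ := by rw [hcb]
      have e2 : cj c ⟨(c : G)⁻¹ * (w : G) * ((c : G)⁻¹)⁻¹, hcw⟩ = w := by
        apply Subtype.ext
        show (c : G) * ((c : G)⁻¹ * (w : G) * ((c : G)⁻¹)⁻¹) * (c : G)⁻¹ = (w : G)
        group
      simp only [MonoidHom.comp_apply] at h1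
      rw [e1, e2] at h1
      exact h1
    let D : Subgroup G :=
      { carrier := {y | ∃ w ∈ U, y = d * w * d⁻¹ * w⁻¹}
        one_mem' := ⟨1, U.one_mem, by group⟩
        mul_mem' := by
          rintro _ _ ⟨w, hw, rfl⟩ ⟨w', hw', rfl⟩
          refine ⟨w * w', U.mul_mem hw hw', ?_⟩
          have h1 : w⁻¹ * (d * w' * d⁻¹) = (d * w' * d⁻¹) * w⁻¹ :=
            hUc _ (U.inv_mem hw) _ (hBU d hdB w' hw')
          have h2 : w⁻¹ * w'⁻¹ = w'⁻¹ * w⁻¹ := hUc _ (U.inv_mem hw) _ (U.inv_mem hw')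
          calc d * w * d⁻¹ * w⁻¹ * (d * w' * d⁻¹ * w'⁻¹)
              = d * w * d⁻¹ * (w⁻¹ * (d * w' * d⁻¹)) * w'⁻¹ := by group
            _ = d * w * d⁻¹ * ((d * w' * d⁻¹) * w⁻¹) * w'⁻¹ := by rw [h1]
            _ = d * (w * w') * d⁻¹ * (w⁻¹ * w'⁻¹) := by group
            _ = d * (w * w') * d⁻¹ * (w'⁻¹ * w⁻¹) := by rw [h2]
            _ = d * (w * w') * d⁻¹ * (w * w')⁻¹ := by group
        inv_mem' := by
          rintro _ ⟨w, hw, rfl⟩
          have hy : d * w * d⁻¹ * w⁻¹ ∈ U := U.mul_mem (hBU d hdB w hw) (U.inv_mem hw)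
          have : (d * w * d⁻¹ * w⁻¹)⁻¹ = d * w * d⁻¹ * w⁻¹ :=
            inv_eq_of_mul_eq_one_left (hU2 _ hy)
          exact ⟨w, hw, this⟩ }
    have hDU : D ≤ U := by
      rintro _ ⟨w, hw, rfl⟩
      exact U.mul_mem (hBU d hdB w hw) (U.inv_mem hw)
    have hDinv : ∀ c' ∈ B, ∀ y ∈ D, c' * y * c'⁻¹ ∈ D := by
      rintro c' hc' _ ⟨w, hw, rfl⟩
      refine ⟨c' * w * c'⁻¹, hBU c' hc' w hw, ?_⟩
      have hcd : c' * d = d * c' := hBc c' hc' d hdB
      calc c' * (d * w * d⁻¹ * w⁻¹) * c'⁻¹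
          = (c' * d) * w * (c' * d)⁻¹ * (c' * w * c'⁻¹)⁻¹ := by group
        _ = (d * c') * w * (d * c')⁻¹ * (c' * w * c'⁻¹)⁻¹ := by rw [hcd]
        _ = d * (c' * w * c'⁻¹) * d⁻¹ * (c' * w * c'⁻¹)⁻¹ := by group
    have hDbot : D = ⊥ := by
      by_contra hne
      obtain ⟨y, hyD, hy1, hyB⟩ := fix_pt B D hB (fun u hu => hU2 u (hDU hu)) hDinv hne
      have hyF : y ∈ U ⊓ Subgroup.centralizer (B : Set G) := by
        refine ⟨hDU hyD, ?_⟩
        show y ∈ Subgroup.centralizer (B : Set G)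
        rw [Subgroup.mem_centralizer_iff]
        intro b hb
        have := hyB b hb
        calc b * y = b * y * b⁻¹ * b := by group
          _ = y * b := by rw [this]
      rcases hFall y hyF with h | h
      · exact hy1 h
      · obtain ⟨w, hw, hyw⟩ := hyD
        apply hlam
        have e : (⟨f, hfU⟩ : ↥U) = ⟨d * w * d⁻¹, hBU d hdB w hw⟩ * (⟨w, hw⟩ : ↥U)⁻¹ := by
          apply Subtype.ext
          show f = d * w * d⁻¹ * w⁻¹
          rw [← h, hyw]
        rw [e, map_mul, map_inv, hlamd ⟨w, hw⟩, mul_inv_cancel]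
    rw [Subgroup.mem_subgroupOf]
    have hcoe : ((c⁻¹ * b : ↥B) : G) = d := by rw [hd]; rfl
    rw [hcoe]
    refine ⟨hdB, ?_⟩
    show d ∈ Subgroup.centralizer (U : Set G)
    rw [Subgroup.mem_centralizer_iff]
    intro w hw
    have hmem : d * w * d⁻¹ * w⁻¹ ∈ D := ⟨w, hw, rfl⟩
    rw [hDbot, Subgroup.mem_bot] at hmem
    calc w * d = (d * w * d⁻¹ * w⁻¹)⁻¹ * (d * w) := by group
      _ = d * w := by rw [hmem, inv_one, one_mul]
  -- counting
  obtain ⟨K', hK'⟩ : ∃ K' : Subgroup ↥B,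
      K' = (B ⊓ Subgroup.centralizer (U : Set G)).subgroupOf B := ⟨_, rfl⟩
  let Ψ : Bool × (↥B ⧸ K') → (↥U →* ℂˣ) := fun p =>
    if p.1 = true then lam.comp (cj p.2.out) else lam.comp (cj p.2.out) * lam
  have hΨf1 : ∀ q : ↥B ⧸ K', (lam.comp (cj q.out)) ⟨f, hfU⟩ ≠ 1 := by
    intro q
    rw [MonoidHom.comp_apply, hcjf]
    exact hlam
  have hΨf2 : ∀ q : ↥B ⧸ K', (lam.comp (cj q.out) * lam) ⟨f, hfU⟩ = 1 := by
    intro q
    rw [MonoidHom.mul_apply, MonoidHom.comp_apply, hcjf]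
    exact units_aux _ _ (hsq lam) (hsq lam) hlam hlam
  have hq : ∀ q q' : ↥B ⧸ K', lam.comp (cj q.out) = lam.comp (cj q'.out) → q = q' := by
    intro q q' h
    have h1 := key q.out q'.out h
    rw [← hK'] at h1
    have h2 : (QuotientGroup.mk q'.out : ↥B ⧸ K') = QuotientGroup.mk q.out :=
      QuotientGroup.eq.mpr h1
    rw [QuotientGroup.out_eq', QuotientGroup.out_eq'] at h2
    exact h2.symm
  have hΨ : Function.Injective Ψ := by
    rintro ⟨e, q⟩ ⟨e', q'⟩ h
    cases e <;> cases e'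
    · have h' : lam.comp (cj q.out) * lam = lam.comp (cj q'.out) * lam := by simpa [Ψ] using h
      rw [hq q q' (mul_right_cancel h')]
    · exfalso
      have h' : lam.comp (cj q.out) * lam = lam.comp (cj q'.out) := by simpa [Ψ] using h
      have h1 := hΨf2 q
      rw [h'] at h1
      exact hΨf1 q' h1
    · exfalso
      have h' : lam.comp (cj q.out) = lam.comp (cj q'.out) * lam := by simpa [Ψ] using h
      have h1 := hΨf2 q'
      rw [← h'] at h1
      exact hΨf1 q h1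
    · have h' : lam.comp (cj q.out) = lam.comp (cj q'.out) := by simpa [Ψ] using h
      rw [hq q q' h']
  have hcard := Nat.card_le_card_of_injective Ψ hΨ
  rw [Nat.card_prod, Nat.card_eq_fintype_card, Fintype.card_bool, hcardX] at hcard
  have hrel : (B ⊓ Subgroup.centralizer (U : Set G)).relIndex B = Nat.card (↥B ⧸ K') := by
    rw [hK']; rfl
  rw [hrel]
  exact hcard

example : StFun.{u} := fn

#print axioms fn

end Cfsg.Agent.H11.Jx
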