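import Mathlib
import Cfsg.Prelude.Def_Blocks

/-!
# S0435-CT11 and S0435-CT5 (helper11, for helper93): identification of the Brauer data for
`p = 11` and `p = 5` in a group with character degrees `1, 10, 10, 10, 11, 16, 16, 44, 45, 55`.
-/

set_option autoImplicit false

namespace Cfsg.Agent.H11.M11

open Subgroup
open scoped ComplexConjugate

theorem ct11 {G : Type*} [Group G] [Finite G] (χ₁ a b c u s s' w d f : Cfsg.IrrCharacter G)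
    (h1 : Cfsg.charDegree (χ₁ : G → ℂ) = 1) (ha : Cfsg.charDegree (a : G → ℂ) = 10)
    (hb : Cfsg.charDegree (b : G → ℂ) = 10) (hc : Cfsg.charDegree (c : G → ℂ) = 10)
    (hu : Cfsg.charDegree (u : G → ℂ) = 11) (hs : Cfsg.charDegree (s : G → ℂ) = 16)
    (hs' : Cfsg.charDegree (s' : G → ℂ) = 16) (hw : Cfsg.charDegree (w : G → ℂ) = 44)
    (hd : Cfsg.charDegree (d : G → ℂ) = 45) (hf : Cfsg.charDegree (f : G → ℂ) = 55)
    (hab : a ≠ b) (hac : a ≠ c) (hbc : b ≠ c) (hss' : s ≠ s')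
    (hall : ∀ χ : Cfsg.IrrCharacter G, χ = χ₁ ∨ χ = a ∨ χ = b ∨ χ = c ∨ χ = u ∨ χ = s ∨
      χ = s' ∨ χ = w ∨ χ = d ∨ χ = f)
    (P : Subgroup G)
    (X Y : Finset (Cfsg.IrrCharacter G)) (εX : Cfsg.IrrCharacter G → ℤ) (ε : ℤ)
    (hXY : ∀ χ, χ ∈ X ∨ χ ∈ Y ↔ ¬ 11 ∣ Cfsg.charDegree (χ : G → ℂ)) (hdisj : Disjoint X Y)
    (hX : X.card = 5) (hY : Y.card = 2)
    (hεX : ∀ χ ∈ X, (εX χ = 1 ∨ εX χ = -1) ∧
        (Cfsg.charDegree (χ : G → ℂ) : ℤ) ≡ εX χ [ZMOD 11] ∧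
        ∀ x ∈ P, x ≠ 1 → (χ : G → ℂ) x = (εX χ : ℂ))
    (hε : ε = 1 ∨ ε = -1)
    (hYd : ∀ θ ∈ Y, (Cfsg.charDegree (θ : G → ℂ) : ℤ) ≡ ε * 5 [ZMOD 11])
    (hYeq : ∀ θ ∈ Y, ∀ θ' ∈ Y, ∀ g : G, ¬ 11 ∣ orderOf g → (θ : G → ℂ) g = (θ' : G → ℂ) g)
    (hrel : ∀ θ ∈ Y, ∀ g : G, ¬ 11 ∣ orderOf g →
        (ε : ℂ) * (θ : G → ℂ) g = ∑ χ ∈ X, (εX χ : ℂ) * (χ : G → ℂ) g) :
    (∀ g : G, ¬ 11 ∣ orderOf g → (s : G → ℂ) g = (s' : G → ℂ) g ∧
      (s : G → ℂ) g = (χ₁ : G → ℂ) g - (a : G → ℂ) g - (b : G → ℂ) g - (c : G → ℂ) g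
        + (d : G → ℂ) g) ∧
    (∀ x ∈ P, x ≠ 1 → (χ₁ : G → ℂ) x = 1 ∧ (a : G → ℂ) x = -1 ∧ (b : G → ℂ) x = -1 ∧
      (c : G → ℂ) x = -1 ∧ (d : G → ℂ) x = 1) := by
  classical
  have hne : ∀ χ χ' : Cfsg.IrrCharacter G,
      Cfsg.charDegree (χ : G → ℂ) ≠ Cfsg.charDegree (χ' : G → ℂ) → χ ≠ χ' :=
    fun χ χ' h e => h (by rw [e])
  have key : ∀ θ ∈ Y, ∀ n : ℕ, Cfsg.charDegree (θ : G → ℂ) = n → n % 11 = 5 ∨ n % 11 = 6 := by
    intro θ hθ n hn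
    have h2 := hYd θ hθ
    rw [hn] at h2
    unfold Int.ModEq at h2
    omega
  have hYmem : ∀ θ ∈ Y, θ = s ∨ θ = s' := by
    intro θ hθ
    rcases hall θ with h | h | h | h | h | h | h | h | h | h
    · have := key θ hθ 1 (by rw [h, h1])
      omega
    · have := key θ hθ 10 (by rw [h, ha])
      omega
    · have := key θ hθ 10 (by rw [h, hb])
      omega
    · have := key θ hθ 10 (by rw [h, hc])
      omega
    · have := key θ hθ 11 (by rw [h, hu])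
      omega
    · exact Or.inl h
    · exact Or.inr h
    · have := key θ hθ 44 (by rw [h, hw])
      omega
    · have := key θ hθ 45 (by rw [h, hd])
      omega
    · have := key θ hθ 55 (by rw [h, hf])
      omega
  have hYeq' : Y = {s, s'} := by
    apply Finset.eq_of_subset_of_card_le
    · intro θ hθ
      rcases hYmem θ hθ with h | h <;> simp [h]
    · rw [Finset.card_pair hss', hY]
  have hsY : s ∈ Y := by
    rw [hYeq']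
    simp
  have hs'Y : s' ∈ Y := by
    rw [hYeq']
    simp
  have hε1 : ε = 1 := by
    have h2 := hYd s hsY
    rw [hs] at h2
    unfold Int.ModEq at h2
    omega
  have hXmem : ∀ χ : Cfsg.IrrCharacter G, ¬ 11 ∣ Cfsg.charDegree (χ : G → ℂ) →
      Cfsg.charDegree (χ : G → ℂ) ≠ 16 → χ ∈ X := by
    intro χ h11 h16
    rcases (hXY χ).mpr h11 with h | h
    · exact h
    · exfalso
      rcases hYmem χ h with e | e
      · exact h16 (by rw [e, hs])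
      · exact h16 (by rw [e, hs'])
  have h1X : χ₁ ∈ X := hXmem χ₁ (by rw [h1]; norm_num) (by rw [h1]; norm_num)
  have haX : a ∈ X := hXmem a (by rw [ha]; norm_num) (by rw [ha]; norm_num)
  have hbX : b ∈ X := hXmem b (by rw [hb]; norm_num) (by rw [hb]; norm_num)
  have hcX : c ∈ X := hXmem c (by rw [hc]; norm_num) (by rw [hc]; norm_num)
  have hdX : d ∈ X := hXmem d (by rw [hd]; norm_num) (by rw [hd]; norm_num)
  have n1a : χ₁ ≠ a := hne _ _ (by rw [h1, ha]; norm_num)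
  have n1b : χ₁ ≠ b := hne _ _ (by rw [h1, hb]; norm_num)
  have n1c : χ₁ ≠ c := hne _ _ (by rw [h1, hc]; norm_num)
  have n1d : χ₁ ≠ d := hne _ _ (by rw [h1, hd]; norm_num)
  have nad : a ≠ d := hne _ _ (by rw [ha, hd]; norm_num)
  have nbd : b ≠ d := hne _ _ (by rw [hb, hd]; norm_num)
  have ncd : c ≠ d := hne _ _ (by rw [hc, hd]; norm_num)
  have hcard5 : ({χ₁, a, b, c, d} : Finset (Cfsg.IrrCharacter G)).card = 5 := by
    rw [Finset.card_insert_of_notMem (by simp [n1a, n1b, n1c, n1d]),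
      Finset.card_insert_of_notMem (by simp [hab, hac, nad]),
      Finset.card_insert_of_notMem (by simp [hbc, nbd]), Finset.card_pair ncd]
  have hXeq : {χ₁, a, b, c, d} = X := by
    apply Finset.eq_of_subset_of_card_le
    · intro χ hχ
      simp only [Finset.mem_insert, Finset.mem_singleton] at hχ
      rcases hχ with h | h | h | h | h <;> rw [h] <;> assumption
    · rw [hcard5, hX]
  have sgn : ∀ χ ∈ X, ∀ n : ℕ, Cfsg.charDegree (χ : G → ℂ) = n →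
      (n % 11 = 1 → εX χ = 1) ∧ (n % 11 = 10 → εX χ = -1) := by
    intro χ hχ n hn
    obtain ⟨h2, h3, -⟩ := hεX χ hχ
    rw [hn] at h3
    unfold Int.ModEq at h3
    constructor <;> intro h <;> omega
  have e1 : εX χ₁ = 1 := (sgn χ₁ h1X 1 h1).1 (by norm_num)
  have ea : εX a = -1 := (sgn a haX 10 ha).2 (by norm_num)
  have eb : εX b = -1 := (sgn b hbX 10 hb).2 (by norm_num)
  have ec : εX c = -1 := (sgn c hcX 10 hc).2 (by norm_num)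
  have ed : εX d = 1 := (sgn d hdX 45 hd).1 (by norm_num)
  constructor
  · intro g hg
    refine ⟨hYeq s hsY s' hs'Y g hg, ?_⟩
    have h3 := hrel s hsY g hg
    rw [← hXeq, Finset.sum_insert (by simp [n1a, n1b, n1c, n1d]),
      Finset.sum_insert (by simp [hab, hac, nad]), Finset.sum_insert (by simp [hbc, nbd]),
      Finset.sum_pair ncd, hε1, e1, ea, eb, ec, ed] at h3
    push_cast at h3
    linear_combination h3
  · intro x hx hx1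
    refine ⟨?_, ?_, ?_, ?_, ?_⟩
    · rw [(hεX χ₁ h1X).2.2 x hx hx1, e1]
      norm_num
    · rw [(hεX a haX).2.2 x hx hx1, ea]
      norm_num
    · rw [(hεX b hbX).2.2 x hx hx1, eb]
      norm_num
    · rw [(hεX c hcX).2.2 x hx hx1, ec]
      norm_num
    · rw [(hεX d hdX).2.2 x hx hx1, ed]
      norm_num

theorem ct5 {G : Type*} [Group G] [Finite G] (χ₁ a b c u s s' w d f : Cfsg.IrrCharacter G)
    (h1 : Cfsg.charDegree (χ₁ : G → ℂ) = 1) (ha : Cfsg.charDegree (a : G → ℂ) = 10)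
    (hb : Cfsg.charDegree (b : G → ℂ) = 10) (hc : Cfsg.charDegree (c : G → ℂ) = 10)
    (hu : Cfsg.charDegree (u : G → ℂ) = 11) (hs : Cfsg.charDegree (s : G → ℂ) = 16)
    (hs' : Cfsg.charDegree (s' : G → ℂ) = 16) (hw : Cfsg.charDegree (w : G → ℂ) = 44)
    (hd : Cfsg.charDegree (d : G → ℂ) = 45) (hf : Cfsg.charDegree (f : G → ℂ) = 55)
    (hss' : s ≠ s')
    (hall : ∀ χ : Cfsg.IrrCharacter G, χ = χ₁ ∨ χ = a ∨ χ = b ∨ χ = c ∨ χ = u ∨ χ = s ∨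
      χ = s' ∨ χ = w ∨ χ = d ∨ χ = f)
    (X Y : Finset (Cfsg.IrrCharacter G)) (εX : Cfsg.IrrCharacter G → ℤ) (ε : ℤ)
    (hXY : ∀ χ, χ ∈ X ∨ χ ∈ Y ↔ ¬ 5 ∣ Cfsg.charDegree (χ : G → ℂ)) (hdisj : Disjoint X Y)
    (hX : X.card = 4) (hY : Y.card = 1)
    (hεX : ∀ χ ∈ X, (εX χ = 1 ∨ εX χ = -1) ∧
        (Cfsg.charDegree (χ : G → ℂ) : ℤ) ≡ εX χ [ZMOD 5])
    (hε : ε = 1 ∨ ε = -1)
    (hYd : ∀ θ ∈ Y, (Cfsg.charDegree (θ : G → ℂ) : ℤ) ≡ ε * 4 [ZMOD 5])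
    (hrel : ∀ θ ∈ Y, ∀ g : G, ¬ 5 ∣ orderOf g →
        (ε : ℂ) * (θ : G → ℂ) g = ∑ χ ∈ X, (εX χ : ℂ) * (χ : G → ℂ) g) :
    ∀ g : G, ¬ 5 ∣ orderOf g → (χ₁ : G → ℂ) g + (u : G → ℂ) g + (s : G → ℂ) g
      + (s' : G → ℂ) g - (w : G → ℂ) g = 0 := by
  classical
  intro g hg
  have hne : ∀ χ χ' : Cfsg.IrrCharacter G,
      Cfsg.charDegree (χ : G → ℂ) ≠ Cfsg.charDegree (χ' : G → ℂ) → χ ≠ χ' :=
    fun χ χ' h e => h (by rw [e])
  obtain ⟨θ, hYθ⟩ := Finset.card_eq_one.mp hY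
  have hθY : θ ∈ Y := by
    rw [hYθ]
    exact Finset.mem_singleton_self θ
  obtain ⟨σ, hσ⟩ : ∃ σ : Cfsg.IrrCharacter G → ℤ, ∀ χ, σ χ = if χ ∈ Y then -ε else εX χ :=
    ⟨_, fun _ => rfl⟩
  have hσX : ∀ χ ∈ X, σ χ = εX χ := by
    intro χ hχ
    rw [hσ, if_neg (Finset.disjoint_left.mp hdisj hχ)]
  have hσY : ∀ χ ∈ Y, σ χ = -ε := fun χ hχ => by rw [hσ, if_pos hχ]
  have hσp : ∀ χ, χ ∈ X ∨ χ ∈ Y → ∀ n : ℕ, Cfsg.charDegree (χ : G → ℂ) = n →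
      (n % 5 = 1 → σ χ = 1) ∧ (n % 5 = 4 → σ χ = -1) := by
    intro χ hχ n hn
    rcases hχ with hχ | hχ
    · rw [hσX χ hχ]
      obtain ⟨h2, h3⟩ := hεX χ hχ
      rw [hn] at h3
      unfold Int.ModEq at h3
      constructor <;> intro h <;> omega
    · rw [hσY χ hχ]
      have h2 := hYd χ hχ
      rw [hn] at h2
      unfold Int.ModEq at h2
      constructor <;> intro h <;> omega
  have hrel' : ∑ χ ∈ X ∪ Y, (σ χ : ℂ) * (χ : G → ℂ) g = 0 := by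
    rw [Finset.sum_union hdisj, hYθ, Finset.sum_singleton, hσY θ hθY]
    have h3 := hrel θ hθY g hg
    have h4 : ∑ χ ∈ X, (σ χ : ℂ) * (χ : G → ℂ) g = ∑ χ ∈ X, (εX χ : ℂ) * (χ : G → ℂ) g :=
      Finset.sum_congr rfl (fun χ hχ => by rw [hσX χ hχ])
    rw [h4, ← h3]
    push_cast
    ring
  have hT : X ∪ Y = {χ₁, u, s, s', w} := by
    ext χ
    rw [Finset.mem_union, hXY χ]
    simp only [Finset.mem_insert, Finset.mem_singleton]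
    constructor
    · intro hnd
      rcases hall χ with h | h | h | h | h | h | h | h | h | h
      · exact Or.inl h
      · exact (hnd (by rw [h, ha]; norm_num)).elim
      · exact (hnd (by rw [h, hb]; norm_num)).elim
      · exact (hnd (by rw [h, hc]; norm_num)).elim
      · exact Or.inr (Or.inl h)
      · exact Or.inr (Or.inr (Or.inl h))
      · exact Or.inr (Or.inr (Or.inr (Or.inl h)))
      · exact Or.inr (Or.inr (Or.inr (Or.inr h)))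
      · exact (hnd (by rw [h, hd]; norm_num)).elim
      · exact (hnd (by rw [h, hf]; norm_num)).elim
    · rintro (h | h | h | h | h) <;> rw [h]
      · rw [h1]; norm_num
      · rw [hu]; norm_num
      · rw [hs]; norm_num
      · rw [hs']; norm_num
      · rw [hw]; norm_num
  have mem : ∀ χ, χ ∈ ({χ₁, u, s, s', w} : Finset (Cfsg.IrrCharacter G)) → χ ∈ X ∨ χ ∈ Y :=
    fun χ hχ => by
      rw [← hT] at hχ
      exact Finset.mem_union.mp hχ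
  have v1 : σ χ₁ = 1 := (hσp χ₁ (mem χ₁ (by simp)) 1 h1).1 (by norm_num)
  have vu : σ u = 1 := (hσp u (mem u (by simp)) 11 hu).1 (by norm_num)
  have vs : σ s = 1 := (hσp s (mem s (by simp)) 16 hs).1 (by norm_num)
  have vs' : σ s' = 1 := (hσp s' (mem s' (by simp)) 16 hs').1 (by norm_num)
  have vw : σ w = -1 := (hσp w (mem w (by simp)) 44 hw).2 (by norm_num)
  have n1u : χ₁ ≠ u := hne _ _ (by rw [h1, hu]; norm_num)
  have n1s : χ₁ ≠ s := hne _ _ (by rw [h1, hs]; norm_num)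
  have n1s' : χ₁ ≠ s' := hne _ _ (by rw [h1, hs']; norm_num)
  have n1w : χ₁ ≠ w := hne _ _ (by rw [h1, hw]; norm_num)
  have nus : u ≠ s := hne _ _ (by rw [hu, hs]; norm_num)
  have nus' : u ≠ s' := hne _ _ (by rw [hu, hs']; norm_num)
  have nuw : u ≠ w := hne _ _ (by rw [hu, hw]; norm_num)
  have nsw : s ≠ w := hne _ _ (by rw [hs, hw]; norm_num)
  have ns'w : s' ≠ w := hne _ _ (by rw [hs', hw]; norm_num)
  rw [hT, Finset.sum_insert (by simp [n1u, n1s, n1s', n1w]),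
    Finset.sum_insert (by simp [nus, nus', nuw]), Finset.sum_insert (by simp [hss', nsw]),
    Finset.sum_pair ns'w, v1, vu, vs, vs', vw] at hrel'
  push_cast at hrel'
  linear_combination hrel'

end Cfsg.Agent.H11.M11

section Check
open Subgroup
open scoped ComplexConjugate

example {G : Type*} [Group G] [Finite G] (χ₁ a b c u s s' w d f : Cfsg.IrrCharacter G)
    (h1 : Cfsg.charDegree (χ₁ : G → ℂ) = 1) (ha : Cfsg.charDegree (a : G → ℂ) = 10)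
    (hb : Cfsg.charDegree (b : G → ℂ) = 10) (hc : Cfsg.charDegree (c : G → ℂ) = 10)
    (hu : Cfsg.charDegree (u : G → ℂ) = 11) (hs : Cfsg.charDegree (s : G → ℂ) = 16)
    (hs' : Cfsg.charDegree (s' : G → ℂ) = 16) (hw : Cfsg.charDegree (w : G → ℂ) = 44)
    (hd : Cfsg.charDegree (d : G → ℂ) = 45) (hf : Cfsg.charDegree (f : G → ℂ) = 55)
    (hab : a ≠ b) (hac : a ≠ c) (hbc : b ≠ c) (hss' : s ≠ s')
    (hall : ∀ χ : Cfsg.IrrCharacter G, χ = χ₁ ∨ χ = a ∨ χ = b ∨ χ = c ∨ χ = u ∨ χ = s ∨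
      χ = s' ∨ χ = w ∨ χ = d ∨ χ = f)
    (P : Subgroup G)
    (X Y : Finset (Cfsg.IrrCharacter G)) (εX : Cfsg.IrrCharacter G → ℤ) (ε : ℤ)
    (hXY : ∀ χ, χ ∈ X ∨ χ ∈ Y ↔ ¬ 11 ∣ Cfsg.charDegree (χ : G → ℂ)) (hdisj : Disjoint X Y)
    (hX : X.card = 5) (hY : Y.card = 2)
    (hεX : ∀ χ ∈ X, (εX χ = 1 ∨ εX χ = -1) ∧
        (Cfsg.charDegree (χ : G → ℂ) : ℤ) ≡ εX χ [ZMOD 11] ∧
        ∀ x ∈ P, x ≠ 1 → (χ : G → ℂ) x = (εX χ : ℂ))
    (hε : ε = 1 ∨ ε = -1)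
    (hYd : ∀ θ ∈ Y, (Cfsg.charDegree (θ : G → ℂ) : ℤ) ≡ ε * 5 [ZMOD 11])
    (hYeq : ∀ θ ∈ Y, ∀ θ' ∈ Y, ∀ g : G, ¬ 11 ∣ orderOf g → (θ : G → ℂ) g = (θ' : G → ℂ) g)
    (hrel : ∀ θ ∈ Y, ∀ g : G, ¬ 11 ∣ orderOf g →
        (ε : ℂ) * (θ : G → ℂ) g = ∑ χ ∈ X, (εX χ : ℂ) * (χ : G → ℂ) g) :
    (∀ g : G, ¬ 11 ∣ orderOf g → (s : G → ℂ) g = (s' : G → ℂ) g ∧
      (s : G → ℂ) g = (χ₁ : G → ℂ) g - (a : G → ℂ) g - (b : G → ℂ) g - (c : G → ℂ) g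
        + (d : G → ℂ) g) ∧
    (∀ x ∈ P, x ≠ 1 → (χ₁ : G → ℂ) x = 1 ∧ (a : G → ℂ) x = -1 ∧ (b : G → ℂ) x = -1 ∧
      (c : G → ℂ) x = -1 ∧ (d : G → ℂ) x = 1) :=
  Cfsg.Agent.H11.M11.ct11 χ₁ a b c u s s' w d f h1 ha hb hc hu hs hs' hw hd hf hab hac hbc hss' hall P
    X Y εX ε hXY hdisj hX hY hεX hε hYd hYeq hrel

example {G : Type*} [Group G] [Finite G] (χ₁ a b c u s s' w d f : Cfsg.IrrCharacter G)
    (h1 : Cfsg.charDegree (χ₁ : G → ℂ) = 1) (ha : Cfsg.charDegree (a : G → ℂ) = 10)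
    (hb : Cfsg.charDegree (b : G → ℂ) = 10) (hc : Cfsg.charDegree (c : G → ℂ) = 10)
    (hu : Cfsg.charDegree (u : G → ℂ) = 11) (hs : Cfsg.charDegree (s : G → ℂ) = 16)
    (hs' : Cfsg.charDegree (s' : G → ℂ) = 16) (hw : Cfsg.charDegree (w : G → ℂ) = 44)
    (hd : Cfsg.charDegree (d : G → ℂ) = 45) (hf : Cfsg.charDegree (f : G → ℂ) = 55)
    (hss' : s ≠ s')
    (hall : ∀ χ : Cfsg.IrrCharacter G, χ = χ₁ ∨ χ = a ∨ χ = b ∨ χ = c ∨ χ = u ∨ χ = s ∨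
      χ = s' ∨ χ = w ∨ χ = d ∨ χ = f)
    (X Y : Finset (Cfsg.IrrCharacter G)) (εX : Cfsg.IrrCharacter G → ℤ) (ε : ℤ)
    (hXY : ∀ χ, χ ∈ X ∨ χ ∈ Y ↔ ¬ 5 ∣ Cfsg.charDegree (χ : G → ℂ)) (hdisj : Disjoint X Y)
    (hX : X.card = 4) (hY : Y.card = 1)
    (hεX : ∀ χ ∈ X, (εX χ = 1 ∨ εX χ = -1) ∧
        (Cfsg.charDegree (χ : G → ℂ) : ℤ) ≡ εX χ [ZMOD 5])
    (hε : ε = 1 ∨ ε = -1)
    (hYd : ∀ θ ∈ Y, (Cfsg.charDegree (θ : G → ℂ) : ℤ) ≡ ε * 4 [ZMOD 5])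
    (hrel : ∀ θ ∈ Y, ∀ g : G, ¬ 5 ∣ orderOf g →
        (ε : ℂ) * (θ : G → ℂ) g = ∑ χ ∈ X, (εX χ : ℂ) * (χ : G → ℂ) g) :
    ∀ g : G, ¬ 5 ∣ orderOf g → (χ₁ : G → ℂ) g + (u : G → ℂ) g + (s : G → ℂ) g
      + (s' : G → ℂ) g - (w : G → ℂ) g = 0 :=
  Cfsg.Agent.H11.M11.ct5 χ₁ a b c u s s' w d f h1 ha hb hc hu hs hs' hw hd hf hss' hall
    X Y εX ε hXY hdisj hX hY hεX hε hYd hrel

end Check

#print axioms Cfsg.Agent.H11.M11.ct11
#print axioms Cfsg.Agent.H11.M11.ct5
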