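import Mathlib

/-!
# S0435-NAME (helper11, for helper93): naming the ten irreducible characters of a group whose
degree multiset is `1, 10, 10, 10, 11, 16, 16, 44, 45, 55`.
-/

set_option autoImplicit false

namespace Cfsg.Agent.H11.M11

theorem exists_names {ι : Type*} [Finite ι] (deg : ι → ℕ)
    (hcount : ∀ n : ℕ, Nat.card {i : ι // deg i = n} =
      (if n = 1 ∨ n = 11 ∨ n = 44 ∨ n = 45 ∨ n = 55 then 1 else if n = 10 then 3
        else if n = 16 then 2 else 0)) :
    ∃ χ₁ a b c u s s' w d f : ι,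
      deg χ₁ = 1 ∧ deg a = 10 ∧ deg b = 10 ∧ deg c = 10 ∧ deg u = 11 ∧ deg s = 16 ∧
      deg s' = 16 ∧ deg w = 44 ∧ deg d = 45 ∧ deg f = 55 ∧
      a ≠ b ∧ a ≠ c ∧ b ≠ c ∧ s ≠ s' ∧
      (∀ i : ι, i = χ₁ ∨ i = a ∨ i = b ∨ i = c ∨ i = u ∨ i = s ∨ i = s' ∨ i = w ∨ i = d ∨
        i = f) ∧
      ∀ F : ι → ℂ, ∑ᶠ i, F i =
        F χ₁ + F a + F b + F c + F u + F s + F s' + F w + F d + F f := by
  classical
  have hFin : Fintype ι := Fintype.ofFinite ι
  have hc : ∀ n : ℕ, (Finset.univ.filter (fun i => deg i = n)).card =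
      (if n = 1 ∨ n = 11 ∨ n = 44 ∨ n = 45 ∨ n = 55 then 1 else if n = 10 then 3
        else if n = 16 then 2 else 0) := by
    intro n
    rw [← hcount n, Nat.card_eq_fintype_card, Fintype.card_subtype]
  have c1 := hc 1
  have c10 := hc 10
  have c11 := hc 11
  have c16 := hc 16
  have c44 := hc 44
  have c45 := hc 45
  have c55 := hc 55
  norm_num at c1 c10 c11 c16 c44 c45 c55
  obtain ⟨χ₁, h1⟩ := Finset.card_eq_one.mp c1
  obtain ⟨a, b, c, hab, hac, hbc, h10⟩ := Finset.card_eq_three.mp c10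
  obtain ⟨u, h11⟩ := Finset.card_eq_one.mp c11
  obtain ⟨s, s', hss', h16⟩ := Finset.card_eq_two.mp c16
  obtain ⟨w, h44⟩ := Finset.card_eq_one.mp c44
  obtain ⟨d, h45⟩ := Finset.card_eq_one.mp c45
  obtain ⟨f, h55⟩ := Finset.card_eq_one.mp c55
  have m1 : ∀ i, deg i = 1 ↔ i = χ₁ := fun i => by
    have h := Finset.ext_iff.mp h1 i
    simpa using h
  have m10 : ∀ i, deg i = 10 ↔ i = a ∨ i = b ∨ i = c := fun i => by
    have h := Finset.ext_iff.mp h10 i
    simpa using h
  have m11 : ∀ i, deg i = 11 ↔ i = u := fun i => by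
    have h := Finset.ext_iff.mp h11 i
    simpa using h
  have m16 : ∀ i, deg i = 16 ↔ i = s ∨ i = s' := fun i => by
    have h := Finset.ext_iff.mp h16 i
    simpa using h
  have m44 : ∀ i, deg i = 44 ↔ i = w := fun i => by
    have h := Finset.ext_iff.mp h44 i
    simpa using h
  have m45 : ∀ i, deg i = 45 ↔ i = d := fun i => by
    have h := Finset.ext_iff.mp h45 i
    simpa using h
  have m55 : ∀ i, deg i = 55 ↔ i = f := fun i => by
    have h := Finset.ext_iff.mp h55 i
    simpa using h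
  have hdeg : ∀ i : ι, deg i ∈ ({1, 10, 11, 16, 44, 45, 55} : Finset ℕ) := by
    intro i
    by_contra hni
    have h0 := hc (deg i)
    have hpos : 0 < (Finset.univ.filter (fun j => deg j = deg i)).card :=
      Finset.card_pos.mpr ⟨i, by simp⟩
    simp only [Finset.mem_insert, Finset.mem_singleton, not_or] at hni
    obtain ⟨n1, n10, n11, n16, n44, n45, n55⟩ := hni
    rw [if_neg (by tauto), if_neg n10, if_neg n16] at h0
    omega
  refine ⟨χ₁, a, b, c, u, s, s', w, d, f, (m1 χ₁).mpr rfl, (m10 a).mpr (Or.inl rfl),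
    (m10 b).mpr (Or.inr (Or.inl rfl)), (m10 c).mpr (Or.inr (Or.inr rfl)), (m11 u).mpr rfl,
    (m16 s).mpr (Or.inl rfl), (m16 s').mpr (Or.inr rfl), (m44 w).mpr rfl, (m45 d).mpr rfl,
    (m55 f).mpr rfl, hab, hac, hbc, hss', ?_, ?_⟩
  · intro i
    have h := hdeg i
    simp only [Finset.mem_insert, Finset.mem_singleton] at h
    rcases h with h | h | h | h | h | h | h
    · have := (m1 i).mp h
      tauto
    · have := (m10 i).mp h
      tauto
    · have := (m11 i).mp h
      tauto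
    · have := (m16 i).mp h
      tauto
    · have := (m44 i).mp h
      tauto
    · have := (m45 i).mp h
      tauto
    · have := (m55 i).mp h
      tauto
  · intro F
    rw [finsum_eq_sum_of_fintype, ← Finset.sum_fiberwise_of_maps_to (fun i _ => hdeg i) F]
    rw [Finset.sum_insert (by decide), Finset.sum_insert (by decide),
      Finset.sum_insert (by decide), Finset.sum_insert (by decide),
      Finset.sum_insert (by decide), Finset.sum_insert (by decide), Finset.sum_singleton]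
    rw [h1, h10, h11, h16, h44, h45, h55]
    rw [Finset.sum_singleton, Finset.sum_singleton, Finset.sum_singleton, Finset.sum_singleton,
      Finset.sum_singleton, Finset.sum_pair hss',
      Finset.sum_insert (by simp [hab, hac]), Finset.sum_pair hbc]
    ring

end Cfsg.Agent.H11.M11

example {ι : Type*} [Finite ι] (deg : ι → ℕ)
    (hcount : ∀ n : ℕ, Nat.card {i : ι // deg i = n} =
      (if n = 1 ∨ n = 11 ∨ n = 44 ∨ n = 45 ∨ n = 55 then 1 else if n = 10 then 3
        else if n = 16 then 2 else 0)) :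
    ∃ χ₁ a b c u s s' w d f : ι,
      deg χ₁ = 1 ∧ deg a = 10 ∧ deg b = 10 ∧ deg c = 10 ∧ deg u = 11 ∧ deg s = 16 ∧
      deg s' = 16 ∧ deg w = 44 ∧ deg d = 45 ∧ deg f = 55 ∧
      a ≠ b ∧ a ≠ c ∧ b ≠ c ∧ s ≠ s' ∧
      (∀ i : ι, i = χ₁ ∨ i = a ∨ i = b ∨ i = c ∨ i = u ∨ i = s ∨ i = s' ∨ i = w ∨ i = d ∨
        i = f) ∧
      ∀ F : ι → ℂ, ∑ᶠ i, F i =
        F χ₁ + F a + F b + F c + F u + F s + F s' + F w + F d + F f :=
  Cfsg.Agent.H11.M11.exists_names deg hcount

#print axioms Cfsg.Agent.H11.M11.exists_names
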