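import Mathlib
import Cfsg.Prelude.Def_OddOrderLocal

/-!
# General lemmas on two-generated and metacyclic groups (for S1896)
-/

set_option autoImplicit false

namespace Cfsg.Agent.H11.Meta2

universe u

variable {X : Type u} [Group X]

/-- An element commuting with both generators commutes with everything. -/
theorem central_of_gen {x y : X} (h : Subgroup.closure {x, y} = ⊤) {f : X}
    (hx : f * x = x * f) (hy : f * y = y * f) (g : X) : f * g = g * f := by
  have hg : g ∈ Subgroup.closure {x, y} := by rw [h]; exact Subgroup.mem_top g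
  have hmem : g ∈ Subgroup.centralizer {f} := by
    refine (Subgroup.closure_le _).mpr ?_ hg
    intro u hu
    rw [SetLike.mem_coe, Subgroup.mem_centralizer_iff]
    intro v hv
    rw [Set.mem_singleton_iff] at hv
    subst hv
    rcases hu with rfl | rfl
    · exact hx
    · exact hy
  rw [Subgroup.mem_centralizer_iff] at hmem
  exact hmem f rfl

/-- A group generated by two commuting elements is commutative. -/
theorem comm_of_gen {x y : X} (h : Subgroup.closure {x, y} = ⊤) (hxy : x * y = y * x) :
    ∀ a b : X, a * b = b * a := by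
  intro a b
  have hx : ∀ g, x * g = g * x := central_of_gen h rfl hxy
  have hy : ∀ g, y * g = g * y := central_of_gen h hxy.symm rfl
  exact central_of_gen h (hx a).symm (hy a).symm b

/-- In a commutative group generated by `x, y`, every element is `x ^ i * y ^ j`. -/
theorem ab_repr {x y : X} (hc : ∀ a b : X, a * b = b * a) (h : Subgroup.closure {x, y} = ⊤)
    (g : X) : ∃ i j : ℤ, g = x ^ i * y ^ j := by
  have hg : g ∈ Subgroup.closure {x, y} := by rw [h]; exact Subgroup.mem_top g
  induction hg using Subgroup.closure_induction with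
  | mem u hu =>
    rcases hu with rfl | rfl
    · exact ⟨1, 0, by simp⟩
    · exact ⟨0, 1, by simp⟩
  | one => exact ⟨0, 0, by simp⟩
  | mul a b _ _ iha ihb =>
    obtain ⟨i, j, rfl⟩ := iha
    obtain ⟨i', j', rfl⟩ := ihb
    refine ⟨i + i', j + j', ?_⟩
    rw [zpow_add, zpow_add, mul_assoc, ← mul_assoc (y ^ j), hc (y ^ j) (x ^ i'), mul_assoc,
      mul_assoc]
  | inv a _ iha =>
    obtain ⟨i, j, rfl⟩ := iha
    refine ⟨-i, -j, ?_⟩
    rw [mul_inv_rev, zpow_neg, zpow_neg, hc]

/-- If `g ↦ g ^ n` is multiplicative and kills both generators, it kills everything. -/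
theorem pow_one_of_gen {x y : X} (h : Subgroup.closure {x, y} = ⊤) (n : ℕ)
    (hmul : ∀ a b : X, (a * b) ^ n = a ^ n * b ^ n) (hx : x ^ n = 1) (hy : y ^ n = 1)
    (g : X) : g ^ n = 1 := by
  have hg : g ∈ Subgroup.closure {x, y} := by rw [h]; exact Subgroup.mem_top g
  induction hg using Subgroup.closure_induction with
  | mem u hu =>
    rcases hu with rfl | rfl
    · exact hx
    · exact hy
  | one => exact one_pow n
  | mul a b _ _ iha ihb => rw [hmul, iha, ihb, one_mul]
  | inv a _ iha => rw [inv_pow, iha, inv_one]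

/-- A metacyclic group is generated by two elements. -/
theorem two_gen (hm : Cfsg.IsMetacyclic X) : ∃ a b : X, Subgroup.closure {a, b} = ⊤ := by
  obtain ⟨N, hN, hNc, hQc⟩ := hm
  obtain ⟨a, ha⟩ := hNc.exists_generator
  obtain ⟨q, hq⟩ := hQc.exists_generator
  obtain ⟨b, rfl⟩ := QuotientGroup.mk_surjective q
  refine ⟨a.1, b, ?_⟩
  rw [eq_top_iff]
  intro g _
  obtain ⟨k, hk⟩ := Subgroup.mem_zpowers_iff.mp (hq (QuotientGroup.mk g))
  have h1 : (b ^ k)⁻¹ * g ∈ N := by
    rw [← QuotientGroup.eq]
    rw [QuotientGroup.mk_zpow]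
    exact hk
  obtain ⟨j, hj⟩ := Subgroup.mem_zpowers_iff.mp (ha ⟨_, h1⟩)
  have h2 : (a.1) ^ j = (b ^ k)⁻¹ * g := by
    have := congrArg Subtype.val hj
    simpa using this
  have h3 : g = b ^ k * a.1 ^ j := by rw [h2]; group
  rw [h3]
  exact mul_mem (zpow_mem (Subgroup.subset_closure (by simp)) _)
    (zpow_mem (Subgroup.subset_closure (by simp)) _)

/-- A quotient of a metacyclic group is metacyclic. -/
theorem metacyclic_quotient (hm : Cfsg.IsMetacyclic X) (K : Subgroup X) [K.Normal] :
    Cfsg.IsMetacyclic (X ⧸ K) := by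
  obtain ⟨N, hN, hNc, hQc⟩ := hm
  haveI := hN
  haveI hN' : (N.map (QuotientGroup.mk' K)).Normal :=
    Subgroup.Normal.map hN _ (QuotientGroup.mk'_surjective K)
  refine ⟨N.map (QuotientGroup.mk' K), hN', ?_, ?_⟩
  · have : Function.Surjective ((QuotientGroup.mk' K).subgroupMap N) :=
      MonoidHom.subgroupMap_surjective _ _
    exact isCyclic_of_surjective _ this
  · let φ : X ⧸ N →* (X ⧸ K) ⧸ (N.map (QuotientGroup.mk' K)) :=
      QuotientGroup.map N _ (QuotientGroup.mk' K) (Subgroup.le_comap_map _ _)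
    have hφ : Function.Surjective φ := by
      intro q
      obtain ⟨q', rfl⟩ := QuotientGroup.mk_surjective q
      obtain ⟨g, rfl⟩ := QuotientGroup.mk_surjective q'
      exact ⟨QuotientGroup.mk g, rfl⟩
    exact isCyclic_of_surjective φ hφ

/-- A finite metacyclic group of exponent dividing `E` has order dividing `E * E`. -/
theorem card_dvd_of_exp [Finite X] (hm : Cfsg.IsMetacyclic X) {E : ℕ} (hE : ∀ g : X, g ^ E = 1) :
    Nat.card X ∣ E * E := by
  obtain ⟨N, hN, hNc, hQc⟩ := hm
  haveI := hN
  have h1 : Nat.card N ∣ E := by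
    rw [← IsCyclic.exponent_eq_card]
    apply Monoid.exponent_dvd_of_forall_pow_eq_one
    intro g
    apply Subtype.ext
    simpa using hE g.1
  have h2 : Nat.card (X ⧸ N) ∣ E := by
    rw [← IsCyclic.exponent_eq_card]
    apply Monoid.exponent_dvd_of_forall_pow_eq_one
    intro q
    obtain ⟨g, rfl⟩ := QuotientGroup.mk_surjective q
    rw [← QuotientGroup.mk_pow, hE]
    rfl
  rw [Subgroup.card_eq_card_quotient_mul_card_subgroup N]
  exact mul_dvd_mul h2 h1

/-- A subgroup of order 4 is generated by any of its elements of order 4. -/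
theorem eq_zpowers_of_card_four [Finite X] {F : Subgroup X} (hF : Nat.card F = 4) {s : X}
    (hs : s ∈ F) (h1 : s ≠ 1) (h2 : s * s ≠ 1) : F = Subgroup.zpowers s := by
  have hd : orderOf s ∣ 4 := hF ▸ Subgroup.orderOf_dvd_natCard F hs
  have ho : orderOf s = 4 := by
    have hle : orderOf s ≤ 4 := Nat.le_of_dvd (by norm_num) hd
    have hpos : 0 < orderOf s := orderOf_pos s
    have h1' : orderOf s ≠ 1 := fun h => h1 (orderOf_eq_one_iff.mp h)
    have h2' : orderOf s ≠ 2 := fun h => h2 (by rw [← pow_two, ← h]; exact pow_orderOf_eq_one s)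
    have h3' : orderOf s ≠ 3 := fun h => by rw [h] at hd; norm_num at hd
    omega
  symm
  apply Subgroup.eq_of_le_of_card_ge
  · rw [Subgroup.zpowers_le]; exact hs
  · rw [Nat.card_zpowers, ho, hF]

/-- A commutative group of order `N * N` generated by two elements killed by `N` is
`C_N × C_N`. -/
theorem ab_iso [Finite X] (hc : ∀ a b : X, a * b = b * a) {x y : X}
    (h : Subgroup.closure {x, y} = ⊤) {N : ℕ} (hN : 0 < N) (hcard : Nat.card X = N * N)
    (hx : x ^ N = 1) (hy : y ^ N = 1) :
    Nonempty (X ≃* Multiplicative (ZMod N) × Multiplicative (ZMod N)) := by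
  haveI : NeZero N := ⟨hN.ne'⟩
  have hpow : ∀ (t : X), t ^ N = 1 → ∀ a b : ZMod N, t ^ (a + b).val = t ^ a.val * t ^ b.val := by
    intro t ht a b
    rw [ZMod.val_add, ← pow_eq_pow_mod _ ht, pow_add]
  let f : Multiplicative (ZMod N) × Multiplicative (ZMod N) →* X :=
    { toFun := fun p => x ^ (Multiplicative.toAdd p.1).val * y ^ (Multiplicative.toAdd p.2).val
      map_one' := by simp
      map_mul' := by
        intro p q
        show x ^ (Multiplicative.toAdd p.1 + Multiplicative.toAdd q.1).val *
            y ^ (Multiplicative.toAdd p.2 + Multiplicative.toAdd q.2).val = _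
        rw [hpow x hx, hpow y hy]
        rw [mul_assoc, ← mul_assoc (x ^ _) (y ^ _), hc (x ^ (Multiplicative.toAdd q.1).val),
          mul_assoc, mul_assoc] }
  have hred : ∀ (t : X), t ^ N = 1 → ∀ i : ℤ, ∃ k : ℕ, k < N ∧ t ^ i = t ^ k := by
    intro t ht i
    have hN' : (0 : ℤ) < N := by exact_mod_cast hN
    refine ⟨(i % N).toNat, ?_, ?_⟩
    · have := Int.emod_lt_of_pos i hN'
      have h0 := Int.emod_nonneg i hN'.ne'
      omega
    · have h0 := Int.emod_nonneg i hN'.ne'
      rw [← zpow_natCast, Int.toNat_of_nonneg h0]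
      exact zpow_eq_zpow_emod' i ht
  have hsurj : Function.Surjective f := by
    intro g
    obtain ⟨i, j, rfl⟩ := ab_repr hc h g
    obtain ⟨k, hk, hk'⟩ := hred x hx i
    obtain ⟨l, hl, hl'⟩ := hred y hy j
    refine ⟨(Multiplicative.ofAdd (k : ZMod N), Multiplicative.ofAdd (l : ZMod N)), ?_⟩
    show x ^ ((k : ZMod N)).val * y ^ ((l : ZMod N)).val = _
    rw [ZMod.val_natCast_of_lt hk, ZMod.val_natCast_of_lt hl, hk', hl']
  have hcard' : Nat.card (Multiplicative (ZMod N) × Multiplicative (ZMod N)) = N * N := by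
    rw [Nat.card_prod]
    have : Nat.card (Multiplicative (ZMod N)) = N := by
      rw [Nat.card_congr Multiplicative.toAdd, Nat.card_zmod]
    rw [this]
  have hbij : Function.Bijective f :=
    hsurj.bijective_of_nat_card_le (by rw [hcard', hcard])
  exact ⟨(MulEquiv.ofBijective f hbij).symm⟩

end Cfsg.Agent.H11.Meta2
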