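import Mathlib
import Cfsg.Agent.H76.NCZDefs

/-!
# S1353 (helper76's NCZ project), piece NCZ-FREEGRP: the group form of the freeness count from its
abstract (additive) form
-/

set_option autoImplicit false

namespace Cfsg.Agent.H11.NCZ

open Cfsg Subgroup Cfsg.Agent.H76.NCKill

universe u

/-- multiplicative form of (FREEABS) for a group with commuting elements -/
theorem freeMul (h : StFreeAbs.{u}) (W : Type u) [Group W] [Finite W]
    (hab : ∀ x y : W, x * y = y * x) (D : Type u) [Group D] [Finite D]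
    (ρ : D →* Monoid.End W) (β : Monoid.End W)
    (hcomm : ∀ d d' : D, (ρ d * β * ρ d⁻¹) * (ρ d' * β * ρ d'⁻¹) =
      (ρ d' * β * ρ d'⁻¹) * (ρ d * β * ρ d⁻¹))
    (hfree : ∀ d d' : D, d ≠ d' → ∀ w : W,
      (ρ d * β * ρ d⁻¹) w = (ρ d' * β * ρ d'⁻¹) w → w = 1) :
    Nat.card W = Nat.card {w : W // ∀ d : D, ρ d w = w} ^ Nat.card D := by
  letI : CommGroup W := { (inferInstance : Group W) with mul_comm := hab }
  let T : Monoid.End W →* AddMonoid.End (Additive W) :=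
    { toFun := fun f => MonoidHom.toAdditive f
      map_one' := rfl
      map_mul' := fun f g => rfl }
  have hT : ∀ (f : Monoid.End W) (w : W), T f (Additive.ofMul w) = Additive.ofMul (f w) :=
    fun f w => rfl
  have key := h (Additive W) D (T.comp ρ) (T β) ?_ ?_
  · exact key
  · intro d d'
    simp only [MonoidHom.comp_apply, ← map_mul]
    rw [hcomm]
  · intro d d' hdd' v hv
    simp only [MonoidHom.comp_apply, ← map_mul] at hv
    have hv' : (ρ d * β * ρ d⁻¹) (Additive.toMul v) = (ρ d' * β * ρ d'⁻¹) (Additive.toMul v) := hv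
    have h1 := hfree d d' hdd' (Additive.toMul v) hv'
    exact h1

theorem freeGrp (h : StFreeAbs.{u}) {G : Type u} [Group G] [Finite G] : StFree G := by
  intro V D b hab hb hD hDb hfaith hfpf
  have hconj : ∀ g : G, g ∈ normalizer (V : Set G) → ∀ v : G, v ∈ V → g * v * g⁻¹ ∈ V :=
    fun g hg v hv => (mem_normalizer_iff.mp hg v).mp hv
  let cj : ∀ g : G, g ∈ normalizer (V : Set G) → Monoid.End ↥V := fun g hg =>
    { toFun := fun v => ⟨g * v.1 * g⁻¹, hconj g hg v.1 v.2⟩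
      map_one' := Subtype.ext (by
        show g * 1 * g⁻¹ = 1
        group)
      map_mul' := fun v w => Subtype.ext (by
        show g * (v.1 * w.1) * g⁻¹ = g * v.1 * g⁻¹ * (g * w.1 * g⁻¹)
        group) }
  have hcj : ∀ (g : G) (hg : g ∈ normalizer (V : Set G)) (v : ↥V),
      ((cj g hg v : ↥V) : G) = g * v.1 * g⁻¹ := fun g hg v => rfl
  let ρ : ↥D →* Monoid.End ↥V :=
    { toFun := fun d => cj d.1 (hD d.2)
      map_one' := by
        apply MonoidHom.ext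
        intro v
        apply Subtype.ext
        show (1 : G) * v.1 * (1 : G)⁻¹ = v.1
        group
      map_mul' := fun d d' => by
        apply MonoidHom.ext
        intro v
        apply Subtype.ext
        show (d.1 * d'.1) * v.1 * (d.1 * d'.1)⁻¹ = d.1 * (d'.1 * v.1 * d'.1⁻¹) * d.1⁻¹
        group }
  have hρ : ∀ (d : ↥D) (v : ↥V), ((ρ d v : ↥V) : G) = d.1 * v.1 * d.1⁻¹ := fun d v => rfl
  -- the conjugates of `β`
  have hx : ∀ (d : ↥D) (v : ↥V), (((ρ d * cj b hb * ρ d⁻¹) v : ↥V) : G) =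
      (d.1 * b * d.1⁻¹) * v.1 * (d.1 * b * d.1⁻¹)⁻¹ := by
    intro d v
    show d.1 * (b * ((d⁻¹ : ↥D).1 * v.1 * ((d⁻¹ : ↥D).1)⁻¹) * b⁻¹) * d.1⁻¹ = _
    have e : ((d⁻¹ : ↥D) : G) = (d : G)⁻¹ := rfl
    rw [e]
    group
  have hzc : ∀ d d' : ↥D, (d.1 * b * d.1⁻¹) * (d'.1 * b * d'.1⁻¹) =
      (d'.1 * b * d'.1⁻¹) * (d.1 * b * d.1⁻¹) := by
    intro d d'
    obtain ⟨m, hm⟩ := mem_zpowers_iff.mp (hDb d.1 d.2)
    obtain ⟨n, hn⟩ := mem_zpowers_iff.mp (hDb d'.1 d'.2)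
    rw [← hm, ← hn]
    exact ((Commute.refl b).zpow_zpow m n).eq
  have key := freeMul h ↥V (fun x y => Subtype.ext (hab x.1 x.2 y.1 y.2)) ↥D ρ (cj b hb) ?_ ?_
  · rw [key]
    congr 1
    apply Nat.card_congr
    refine
      { toFun := fun w => ⟨w.1.1, ⟨w.1.2, ?_⟩⟩
        invFun := fun x => ⟨⟨x.1, x.2.1⟩, ?_⟩
        left_inv := fun w => rfl
        right_inv := fun x => rfl }
    · show w.1.1 ∈ centralizer (D : Set G)
      rw [mem_centralizer_iff]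
      intro d hd
      have h1 := congrArg Subtype.val (w.2 ⟨d, hd⟩)
      rw [hρ] at h1
      have h2 : d * w.1.1 = (d * w.1.1 * d⁻¹) * d := by group
      rw [h2, h1]
    · intro d
      apply Subtype.ext
      rw [hρ]
      have h1 : d.1 * x.1 = x.1 * d.1 := (mem_centralizer_iff.mp x.2.2) d.1 d.2
      show d.1 * x.1 * d.1⁻¹ = x.1
      rw [h1]
      group
  · intro d d'
    apply MonoidHom.ext
    intro v
    apply Subtype.ext
    show (((ρ d * cj b hb * ρ d⁻¹) ((ρ d' * cj b hb * ρ d'⁻¹) v) : ↥V) : G) =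
      (((ρ d' * cj b hb * ρ d'⁻¹) ((ρ d * cj b hb * ρ d⁻¹) v) : ↥V) : G)
    rw [hx, hx, hx, hx]
    have e1 : d.1 * b * d.1⁻¹ * (d'.1 * b * d'.1⁻¹ * v.1 * (d'.1 * b * d'.1⁻¹)⁻¹) *
        (d.1 * b * d.1⁻¹)⁻¹ = ((d.1 * b * d.1⁻¹) * (d'.1 * b * d'.1⁻¹)) * v.1 *
        ((d.1 * b * d.1⁻¹) * (d'.1 * b * d'.1⁻¹))⁻¹ := by group
    have e2 : d'.1 * b * d'.1⁻¹ * (d.1 * b * d.1⁻¹ * v.1 * (d.1 * b * d.1⁻¹)⁻¹) *
        (d'.1 * b * d'.1⁻¹)⁻¹ = ((d'.1 * b * d'.1⁻¹) * (d.1 * b * d.1⁻¹)) * v.1 *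
        ((d'.1 * b * d'.1⁻¹) * (d.1 * b * d.1⁻¹))⁻¹ := by group
    rw [e1, e2, hzc d d']
  · intro d d' hdd' v hv
    have hv' := congrArg Subtype.val hv
    rw [hx, hx] at hv'
    -- `x := c_d'⁻¹ * c_d` commutes with `v`
    have hxv : ((d'.1 * b * d'.1⁻¹)⁻¹ * (d.1 * b * d.1⁻¹)) * v.1 =
        v.1 * ((d'.1 * b * d'.1⁻¹)⁻¹ * (d.1 * b * d.1⁻¹)) := by
      have e1 : ((d'.1 * b * d'.1⁻¹)⁻¹ * (d.1 * b * d.1⁻¹)) * v.1 =
          (d'.1 * b * d'.1⁻¹)⁻¹ * ((d.1 * b * d.1⁻¹) * v.1 * (d.1 * b * d.1⁻¹)⁻¹) *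
            (d.1 * b * d.1⁻¹) := by group
      rw [e1, hv']
      group
    have hxmem : (d'.1 * b * d'.1⁻¹)⁻¹ * (d.1 * b * d.1⁻¹) ∈ zpowers b :=
      (zpowers b).mul_mem ((zpowers b).inv_mem (hDb d'.1 d'.2)) (hDb d.1 d.2)
    have hxne : (d'.1 * b * d'.1⁻¹)⁻¹ * (d.1 * b * d.1⁻¹) ≠ 1 := by
      intro h1
      apply hdd'
      have h2 : (d'.1⁻¹ * d.1) * b = b * (d'.1⁻¹ * d.1) := by
        have e1 : (d'.1⁻¹ * d.1) * b = d'.1⁻¹ * (d'.1 * b * d'.1⁻¹) *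
            ((d'.1 * b * d'.1⁻¹)⁻¹ * (d.1 * b * d.1⁻¹)) * d.1 := by group
        rw [e1, h1]
        group
      have h3 : d'.1⁻¹ * d.1 = 1 := hfaith _ (D.mul_mem (D.inv_mem d'.2) d.2) h2
      apply Subtype.ext
      have h4 : d.1 = d'.1 * (d'.1⁻¹ * d.1) := by group
      rw [h4, h3, mul_one]
    have hv1 : v.1 = 1 := hfpf _ hxmem hxne v.1 v.2 hxv
    exact Subtype.ext hv1

example {G : Type u} [Group G] [Finite G] (h : StFreeAbs.{u}) :
    Cfsg.Agent.H76.NCKill.StFree G := freeGrp h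

end Cfsg.Agent.H11.NCZ

#print axioms Cfsg.Agent.H11.NCZ.freeGrp
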