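import Cfsg.Agent.H56.OrdDefs

set_option autoImplicit false

/-! S2363: the arithmetic for the Ree families `²G₂` and `²F₄`. -/

namespace Cfsg.Agent.H11.Ord

open Cfsg Cfsg.Agent.H56.Ord

theorem sub_mul_add_lt (q i j : ℕ) (hq : 1 ≤ q) (hij : i ≤ j) :
    (q ^ i - 1) * (q ^ j + 1) < q ^ (i + j) := by
  have h1 : 1 ≤ q ^ i := Nat.one_le_pow _ _ hq
  have h2 : q ^ i ≤ q ^ j := Nat.pow_le_pow_right hq hij
  have h3 : q ^ (i + j) = (q ^ i - 1) * q ^ j + q ^ j := by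
    rw [pow_add]
    nth_rewrite 1 [← Nat.sub_add_cancel h1]
    rw [Nat.add_mul, one_mul]
  rw [h3, Nat.mul_add, mul_one]
  apply Nat.add_lt_add_left
  omega

theorem ree_good {X : Type*} [Group X] (m : ℕ)
    (h : Nat.card X =
      (3 ^ (2 * m + 1)) ^ 3 * (3 ^ (2 * m + 1) - 1) * ((3 ^ (2 * m + 1)) ^ 3 + 1)) :
    Good 3 X := by
  obtain ⟨q, hq⟩ : ∃ q, q = 3 ^ (2 * m + 1) := ⟨_, rfl⟩
  rw [← hq] at h
  have hq1 : 1 ≤ q := by
    rw [hq]
    exact Nat.one_le_pow _ _ (by norm_num)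
  have hq0 : q ≠ 0 := by omega
  have hM4 : (q - 1) * (q ^ 3 + 1) < q ^ 4 := by
    have := sub_mul_add_lt q 1 3 hq1 (by norm_num)
    rw [pow_one] at this
    exact this
  refine good_of_eq_q (p := 3) (f := 2 * m + 1) (q := q) (N := 3) (c := 1)
    (M := (q - 1) * (q ^ 3 + 1)) Nat.prime_three hq (by omega) ?_ (Nat.coprime_one_right q)
    ?_ ?_ ?_
  · rw [one_mul, h, mul_assoc]
  · apply Nat.Coprime.mul_right
    · have := coprime_pow_sub_one hq0 (d := 1) one_ne_zero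
      rwa [pow_one] at this
    · exact coprime_pow_add_one q (by norm_num)
  · calc (q - 1) * (q ^ 3 + 1) < q ^ 4 := hM4
      _ ≤ q ^ (2 * 3) := Nat.pow_le_pow_right hq1 (by norm_num)
  · calc ((q - 1) * (q ^ 3 + 1)) ^ 3 < (q ^ 4) ^ 3 := Nat.pow_lt_pow_left hM4 (by norm_num)
      _ = q ^ 12 := by rw [← pow_mul]
      _ ≤ q ^ (5 * 3) := Nat.pow_le_pow_right hq1 (by norm_num)

theorem twF4_good {X : Type*} [Group X] (m : ℕ)
    (h : Nat.card X =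
      (2 ^ (2 * m + 1)) ^ 12 * (2 ^ (2 * m + 1) - 1) * ((2 ^ (2 * m + 1)) ^ 3 + 1) *
        ((2 ^ (2 * m + 1)) ^ 4 - 1) * ((2 ^ (2 * m + 1)) ^ 6 + 1)) :
    Good 2 X := by
  obtain ⟨q, hq⟩ : ∃ q, q = 2 ^ (2 * m + 1) := ⟨_, rfl⟩
  rw [← hq] at h
  have hq1 : 1 ≤ q := by
    rw [hq]
    exact Nat.one_le_pow _ _ (by norm_num)
  have hq0 : q ≠ 0 := by omega
  have hA : (q - 1) * (q ^ 3 + 1) < q ^ 4 := by
    have := sub_mul_add_lt q 1 3 hq1 (by norm_num)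
    rw [pow_one] at this
    exact this
  have hB : (q ^ 4 - 1) * (q ^ 6 + 1) < q ^ 10 := sub_mul_add_lt q 4 6 hq1 (by norm_num)
  have hM14 : (q - 1) * (q ^ 3 + 1) * ((q ^ 4 - 1) * (q ^ 6 + 1)) < q ^ 14 := by
    calc (q - 1) * (q ^ 3 + 1) * ((q ^ 4 - 1) * (q ^ 6 + 1)) < q ^ 4 * q ^ 10 :=
          Nat.mul_lt_mul'' hA hB
      _ = q ^ 14 := by rw [← pow_add]
  refine good_of_eq_q (p := 2) (f := 2 * m + 1) (q := q) (N := 12) (c := 1)
    (M := (q - 1) * (q ^ 3 + 1) * ((q ^ 4 - 1) * (q ^ 6 + 1))) Nat.prime_two hq (by omega) ?_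
    (Nat.coprime_one_right q) ?_ ?_ ?_
  · rw [one_mul, h]
    simp only [mul_assoc]
  · apply Nat.Coprime.mul_right
    · apply Nat.Coprime.mul_right
      · have := coprime_pow_sub_one hq0 (d := 1) one_ne_zero
        rwa [pow_one] at this
      · exact coprime_pow_add_one q (by norm_num)
    · apply Nat.Coprime.mul_right
      · exact coprime_pow_sub_one hq0 (by norm_num)
      · exact coprime_pow_add_one q (by norm_num)
  · calc (q - 1) * (q ^ 3 + 1) * ((q ^ 4 - 1) * (q ^ 6 + 1)) < q ^ 14 := hM14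
      _ ≤ q ^ (2 * 12) := Nat.pow_le_pow_right hq1 (by norm_num)
  · calc ((q - 1) * (q ^ 3 + 1) * ((q ^ 4 - 1) * (q ^ 6 + 1))) ^ 3 < (q ^ 14) ^ 3 :=
          Nat.pow_lt_pow_left hM14 (by norm_num)
      _ = q ^ 42 := by rw [← pow_mul]
      _ ≤ q ^ (5 * 12) := Nat.pow_le_pow_right hq1 (by norm_num)

end Cfsg.Agent.H11.Ord

#print axioms Cfsg.Agent.H11.Ord.ree_good
#print axioms Cfsg.Agent.H11.Ord.twF4_good
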