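import Mathlib
import Cfsg.Prelude.Def_LocalStructure

set_option autoImplicit false

/-! S3875 piece CNT: a subgroup containing a Sylow subgroup for every prime is everything. -/

namespace Cfsg.Agent.H11.PCl

theorem eq_top_of_sylows_le {H : Type*} [Group H] [Finite H] (M : Subgroup H)
    (h : ∀ q : ℕ, q.Prime → ∃ Q : Sylow q H, (Q : Subgroup H) ≤ M) : M = ⊤ := by
  have hdvd : Nat.card H ∣ Nat.card M := by
    rw [Nat.dvd_iff_prime_pow_dvd_dvd]
    intro q k hq hqk
    obtain ⟨Q, hQ⟩ := h q hq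
    have : Fact q.Prime := ⟨hq⟩
    exact (Q.pow_dvd_card_of_pow_dvd_card hqk).trans (Subgroup.card_dvd_of_le hQ)
  exact Subgroup.eq_top_of_le_card M (Nat.le_of_dvd Nat.card_pos hdvd)

example {H : Type*} [Group H] [Finite H] (M : Subgroup H)
    (h : ∀ q : ℕ, q.Prime → ∃ Q : Sylow q H, (Q : Subgroup H) ≤ M) : M = ⊤ :=
  eq_top_of_sylows_le M h

end Cfsg.Agent.H11.PCl

#print axioms Cfsg.Agent.H11.PCl.eq_top_of_sylows_le
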