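import Mathlib
import Cfsg.Prelude.Def_LocalStructure

set_option autoImplicit false

/-! S3875 piece IDX: a Sylow subgroup of order `p` outside the commutator subgroup gives a normal
subgroup of index `p`. -/

namespace Cfsg.Agent.H11.PCl

theorem exists_normal_index {H : Type*} [Group H] [Finite H] (p : ℕ) [Fact p.Prime]
    (P : Sylow p H) (hP : Nat.card (P : Subgroup H) = p)
    (hPc : ¬ (P : Subgroup H) ≤ commutator H) :
    ∃ N : Subgroup H, N.Normal ∧ N.index = p := by
  have hp : p.Prime := Fact.out
  have hsurj : Function.Surjective (Abelianization.of : H →* Abelianization H) :=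
    QuotientGroup.mk_surjective
  obtain ⟨Pb, hPb⟩ : ∃ Pb : Subgroup (Abelianization H),
      Pb = (P : Subgroup H).map (Abelianization.of : H →* Abelianization H) := ⟨_, rfl⟩
  have hne : Pb ≠ ⊥ := by
    intro h
    apply hPc
    rw [hPb, Subgroup.map_eq_bot_iff, Abelianization.ker_of] at h
    exact h
  have hcardPb : Nat.card Pb = p := by
    have h1 : Nat.card Pb ∣ p := by
      have h0 : Nat.card Pb ∣ Nat.card (P : Subgroup H) := by
        rw [hPb]
        exact Subgroup.card_map_dvd _ _
      rw [hP] at h0
      exact h0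
    rcases (Nat.dvd_prime hp).mp h1 with h2 | h2
    · exact absurd (Subgroup.card_eq_one.mp h2) hne
    · exact h2
  have hnd : ¬ p ∣ Pb.index := by
    intro hd
    have h1 : p * p ∣ Nat.card (Abelianization H) := by
      rw [← Subgroup.card_mul_index Pb, hcardPb]
      exact Nat.mul_dvd_mul_left p hd
    have h2 : Nat.card (Abelianization H) ∣ Nat.card H :=
      Subgroup.card_dvd_of_surjective _ hsurj
    have h3 : p ^ 2 ∣ Nat.card H := by
      rw [pow_two]
      exact h1.trans h2
    have h4 := P.pow_dvd_card_of_pow_dvd_card h3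
    rw [hP] at h4
    have h5 := Nat.le_of_dvd hp.pos h4
    have h6 : 2 ≤ p := hp.two_le
    nlinarith
  have hcop : (Nat.card Pb).Coprime Pb.index := by
    rw [hcardPb]
    exact (Nat.Prime.coprime_iff_not_dvd hp).mpr hnd
  obtain ⟨Kb, hKb⟩ := Subgroup.exists_right_complement'_of_coprime hcop
  have hidx : Kb.index = p := by
    rw [hKb.index_eq_card, hcardPb]
  refine ⟨Kb.comap (Abelianization.of : H →* Abelianization H), inferInstance, ?_⟩
  rw [Subgroup.index_comap_of_surjective _ hsurj, hidx]

example {H : Type*} [Group H] [Finite H] (p : ℕ) [Fact p.Prime]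
    (P : Sylow p H) (hP : Nat.card (P : Subgroup H) = p)
    (hPc : ¬ (P : Subgroup H) ≤ commutator H) :
    ∃ N : Subgroup H, N.Normal ∧ N.index = p :=
  exists_normal_index p P hP hPc

end Cfsg.Agent.H11.PCl

#print axioms Cfsg.Agent.H11.PCl.exists_normal_index
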