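import Mathlib
import Cfsg.Agent.H45.S8Defs0

/-!
# S1158, pieces AR1–AR5: the arithmetic of `q = 3^(2m+1)`, `M = q² - q + 1`
-/

set_option autoImplicit false

namespace Cfsg.Agent.H11.S8

open Cfsg.Agent.H45.S8

/-- The basic shapes: `q = 24 s + 3` etc. -/
theorem shapes (m : ℕ) (hm : 1 ≤ m) : ∃ s, 1 ≤ s ∧ qq m = 24 * s + 3 ∧
    MM m = 576 * s ^ 2 + 120 * s + 7 ∧
    GG m = ((24 * s + 3) ^ 3 * (24 * s + 2) * (24 * s + 4)) * MM m ∧
    TT m = ((24 * s + 3) ^ 3 * (24 * s + 2) * (24 * s + 4)) * ((24 * s + 3) * (24 * s + 1)) ∧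
    kk m = 6 * s + 1 := by
  have h9 : ∀ k : ℕ, ∃ j, 9 ^ k = 8 * j + 1 := by
    intro k
    induction k with
    | zero => exact ⟨0, by norm_num⟩
    | succ k ih =>
      obtain ⟨j, hj⟩ := ih
      exact ⟨9 * j + 1, by rw [pow_succ, hj]; ring⟩
  obtain ⟨s, hs⟩ := h9 m
  have hs1 : 1 ≤ s := by
    have h1 : 9 ^ 1 ≤ 9 ^ m := Nat.pow_le_pow_right (by norm_num) hm
    omega
  have hq : qq m = 24 * s + 3 := by
    unfold qq
    rw [pow_succ, pow_mul, show (3 : ℕ) ^ 2 = 9 by norm_num, hs]; ring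
  have hM : MM m = 576 * s ^ 2 + 120 * s + 7 := by
    unfold MM
    rw [hq]
    have e : (24 * s + 3) ^ 2 = 576 * s ^ 2 + 144 * s + 9 := by ring
    rw [e]
    generalize s ^ 2 = t
    omega
  refine ⟨s, hs1, hq, hM, ?_, ?_, ?_⟩
  · unfold GG
    rw [hq, hM]
    have e1 : 24 * s + 3 - 1 = 24 * s + 2 := by omega
    rw [e1]
    ring
  · unfold TT
    rw [hq]
    have e1 : 24 * s + 3 - 1 = 24 * s + 2 := by omega
    have e2 : 24 * s + 3 - 2 = 24 * s + 1 := by omega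
    rw [e1, e2]
    ring
  · unfold kk
    rw [hq]
    omega

theorem five_le_of_dvd {M a : ℕ} (h2 : M % 2 = 1) (h3 : M % 3 = 1) (ha : a ∣ M) (h1 : 1 < a) :
    5 ≤ a := by
  by_contra hcon
  push Not at hcon
  obtain ⟨c, hc⟩ := ha
  interval_cases a <;> omega

theorem MM_mod (m s : ℕ) (hM : MM m = 576 * s ^ 2 + 120 * s + 7) :
    MM m % 2 = 1 ∧ MM m % 3 = 1 := by
  rw [hM]
  generalize s ^ 2 = t
  omega

theorem arOne : StArOne := by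
  intro m n τ hm hMn hn6 hτ h3
  obtain ⟨s, hs, hq, hM, hG, hT, hk⟩ := shapes m hm
  obtain ⟨d, rfl⟩ := hMn
  have hMpos : 0 < MM m := by rw [hM]; positivity
  have hM1 : MM m - 1 = (24 * s + 3) * (24 * s + 2) := by
    rw [hM]
    have e : (24 * s + 3) * (24 * s + 2) = 576 * s ^ 2 + 120 * s + 6 := by ring
    rw [e]
    omega
  obtain ⟨K, hK⟩ : ∃ K, K = (24 * s + 3) ^ 3 * (24 * s + 2) * (24 * s + 4) := ⟨_, rfl⟩
  have hKpos : 0 < K := by rw [hK]; positivity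
  rw [← hK] at hG hT
  have h1 : TT m * (MM m * d) = 3 * (GG m * (MM m - 1)) := by rw [← h3, ← hτ]; ring
  rw [hT, hM1] at h1
  rw [hG] at h1
  have h2 : (K * MM m * (24 * s + 3)) * (d * (24 * s + 1)) =
      (K * MM m * (24 * s + 3)) * (3 * (24 * s + 2)) := by
    calc (K * MM m * (24 * s + 3)) * (d * (24 * s + 1))
        = K * ((24 * s + 3) * (24 * s + 1)) * (MM m * d) := by ring
      _ = 3 * (K * MM m * ((24 * s + 3) * (24 * s + 2))) := h1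
      _ = (K * MM m * (24 * s + 3)) * (3 * (24 * s + 2)) := by ring
  have hpos : 0 < K * MM m * (24 * s + 3) := by positivity
  have h4 : d * (24 * s + 1) = 3 * (24 * s + 2) := Nat.eq_of_mul_eq_mul_left hpos h2
  rcases Nat.lt_or_ge d 3 with hd | hd
  · have h5 : d * (24 * s + 1) ≤ 2 * (24 * s + 1) := Nat.mul_le_mul_right _ (by omega)
    omega
  · rcases Nat.eq_or_lt_of_le hd with hd3 | hd'
    · rw [← hd3] at h4
      omega
    · have h5 : 4 * (24 * s + 1) ≤ d * (24 * s + 1) := Nat.mul_le_mul_right _ (by omega)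
      omega

theorem rr_sq (m : ℕ) : rr m ^ 2 = 3 * qq m := by
  unfold rr qq
  rw [← pow_mul, ← pow_succ']
  congr 1
  ring

theorem rr_le (m : ℕ) : rr m ≤ qq m := by
  unfold rr qq
  exact Nat.pow_le_pow_right (by norm_num) (by omega)

theorem dvd_six {d : ℕ} (h : d ∣ 6) : d = 1 ∨ d = 2 ∨ d = 3 ∨ d = 6 := by
  have h6 : d ≤ 6 := Nat.le_of_dvd (by norm_num) h
  interval_cases d <;> omega

theorem arTwo : StArTwo := by
  intro m a₁ a₂ n₁ n₂ τ₁ τ₂ hm hprod h1 h2 hd₁ hn₁ hd₂ hn₂ e₁ e₂ h3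
  obtain ⟨s, hs, hq, hM, hG, hT, hk⟩ := shapes m hm
  obtain ⟨hM2, hM3⟩ := MM_mod m s hM
  have ha₁ : a₁ ∣ MM m := ⟨a₂, hprod.symm⟩
  have ha₂ : a₂ ∣ MM m := ⟨a₁, by rw [← hprod]; ring⟩
  have h51 : 5 ≤ a₁ := five_le_of_dvd hM2 hM3 ha₁ h1
  have h52 : 5 ≤ a₂ := five_le_of_dvd hM2 hM3 ha₂ h2
  obtain ⟨d₁, rfl⟩ := hd₁
  obtain ⟨d₂, rfl⟩ := hd₂
  have hd1 : d₁ ∣ 6 := Nat.dvd_of_mul_dvd_mul_left (by omega : 0 < a₁)
    (by rw [Nat.mul_comm a₁ 6]; exact hn₁)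
  have hd2 : d₂ ∣ 6 := Nat.dvd_of_mul_dvd_mul_left (by omega : 0 < a₂)
    (by rw [Nat.mul_comm a₂ 6]; exact hn₂)
  obtain ⟨b₁, rfl⟩ : ∃ b, a₁ = b + 1 := ⟨a₁ - 1, by omega⟩
  obtain ⟨b₂, rfl⟩ : ∃ b, a₂ = b + 1 := ⟨a₂ - 1, by omega⟩
  simp only [Nat.add_sub_cancel] at e₁ e₂
  obtain ⟨K, hK⟩ : ∃ K, K = (24 * s + 3) ^ 3 * (24 * s + 2) * (24 * s + 4) := ⟨_, rfl⟩
  have hKpos : 0 < K := by rw [hK]; positivity
  rw [← hK] at hG hT
  rw [hG, ← hprod] at e₁ e₂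
  have f₁ : τ₁ * d₁ = K * ((b₂ + 1) * b₁) := by
    apply Nat.eq_of_mul_eq_mul_left (show 0 < b₁ + 1 by omega)
    calc (b₁ + 1) * (τ₁ * d₁) = τ₁ * ((b₁ + 1) * d₁) := by ring
      _ = K * ((b₁ + 1) * (b₂ + 1)) * b₁ := e₁
      _ = _ := by ring
  have f₂ : τ₂ * d₂ = K * ((b₁ + 1) * b₂) := by
    apply Nat.eq_of_mul_eq_mul_left (show 0 < b₂ + 1 by omega)
    calc (b₂ + 1) * (τ₂ * d₂) = τ₂ * ((b₂ + 1) * d₂) := by ring
      _ = K * ((b₁ + 1) * (b₂ + 1)) * b₂ := e₂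
      _ = _ := by ring
  have E : 3 * (d₂ * ((b₂ + 1) * b₁) + d₁ * ((b₁ + 1) * b₂)) =
      d₁ * d₂ * ((24 * s + 3) * (24 * s + 1)) := by
    apply Nat.eq_of_mul_eq_mul_left hKpos
    calc K * (3 * (d₂ * ((b₂ + 1) * b₁) + d₁ * ((b₁ + 1) * b₂)))
        = 3 * (d₂ * (K * ((b₂ + 1) * b₁)) + d₁ * (K * ((b₁ + 1) * b₂))) := by ring
      _ = 3 * (d₂ * (τ₁ * d₁) + d₁ * (τ₂ * d₂)) := by rw [f₁, f₂]
      _ = d₁ * d₂ * (3 * (τ₁ + τ₂)) := by ring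
      _ = d₁ * d₂ * (K * ((24 * s + 3) * (24 * s + 1))) := by rw [h3, hT]
      _ = _ := by ring
  have hprod' : b₁ * b₂ + b₁ + b₂ + 1 = 576 * s ^ 2 + 120 * s + 7 := by
    rw [← hM, ← hprod]; ring
  have hprodZ : (b₁ : ℤ) * b₂ + b₁ + b₂ + 1 = 576 * (s : ℤ) ^ 2 + 120 * s + 7 := by
    exact_mod_cast hprod'
  have hP : 4 * b₁ + 4 * b₂ ≤ b₁ * b₂ + 16 := by
    obtain ⟨c₁, rfl⟩ : ∃ c, b₁ = c + 4 := ⟨b₁ - 4, by omega⟩
    obtain ⟨c₂, rfl⟩ : ∃ c, b₂ = c + 4 := ⟨b₂ - 4, by omega⟩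
    have e : (c₁ + 4) * (c₂ + 4) = c₁ * c₂ + 4 * c₁ + 4 * c₂ + 16 := by ring
    rw [e]
    omega
  have E' : 3 * (d₂ * (b₁ * b₂ + b₁) + d₁ * (b₁ * b₂ + b₂)) =
      d₁ * d₂ * (576 * s ^ 2 + 96 * s + 3) := by
    calc 3 * (d₂ * (b₁ * b₂ + b₁) + d₁ * (b₁ * b₂ + b₂))
        = 3 * (d₂ * ((b₂ + 1) * b₁) + d₁ * ((b₁ + 1) * b₂)) := by ring
      _ = d₁ * d₂ * ((24 * s + 3) * (24 * s + 1)) := E
      _ = _ := by ring
  have hsum : d₁ = 6 ∧ d₂ = 6 ∧ b₁ + b₂ = 48 * s + 6 := by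
    generalize b₁ * b₂ = P at hprod' hP E'
    generalize s ^ 2 = S2 at hprod' E'
    rcases dvd_six hd1 with rfl | rfl | rfl | rfl <;>
      rcases dvd_six hd2 with rfl | rfl | rfl | rfl <;> omega
  obtain ⟨rfl, rfl, hsum⟩ := hsum
  have hr := rr_sq m
  have hrle := rr_le m
  have hZ : ((b₁ : ℤ) + 1 - (qq m + 1 - rr m)) * ((b₁ : ℤ) + 1 - (qq m + 1 + rr m)) = 0 := by
    have hs1' : (b₁ : ℤ) + b₂ = 48 * s + 6 := by exact_mod_cast hsum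
    have hrZ : (rr m : ℤ) ^ 2 = 3 * qq m := by exact_mod_cast hr
    have hqZ : (qq m : ℤ) = 24 * s + 3 := by exact_mod_cast hq
    linear_combination (-1 : ℤ) * hrZ + ((b₁ : ℤ) + 1) * hs1' - 2 * ((b₁ : ℤ) + 1) * hqZ +
      ((qq m : ℤ) + 24 * s + 2) * hqZ - hprodZ
  refine ⟨Nat.mul_comm _ _, Nat.mul_comm _ _, ?_⟩
  rcases mul_eq_zero.mp hZ with h | h
  · left
    omega
  · right
    omega

theorem arThree : StArThree := by
  intro m a₁ a₂ a₃ n₁ n₂ n₃ τ₁ τ₂ τ₃ N hm ha₁ ha₂ ha₃ h1 h2 h3 hd₁ hn₁ hd₂ hn₂ hd₃ hn₃ e₁ e₂ e₃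
    hN hT3
  obtain ⟨s, hs, hq, hM, hG, hT, hk⟩ := shapes m hm
  obtain ⟨hM2, hM3⟩ := MM_mod m s hM
  have key : ∀ a n τ : ℕ, a ∣ MM m → 1 < a → a ∣ n → n ∣ 6 * a → τ * n = GG m * (a - 1) →
      2 * GG m ≤ 15 * τ := by
    intro a n τ ha h1 hd hn e
    have ha5 : 5 ≤ a := five_le_of_dvd hM2 hM3 ha h1
    have hn6 : n ≤ 6 * a := Nat.le_of_dvd (by omega) hn
    have h4 : GG m * (a - 1) ≤ τ * (6 * a) := by rw [← e]; exact Nat.mul_le_mul_left _ hn6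
    have h5 : 4 * a ≤ 5 * (a - 1) := by omega
    have h6 : GG m * (4 * a) ≤ GG m * (5 * (a - 1)) := Nat.mul_le_mul_left _ h5
    have h7 : (2 * GG m) * (2 * a) ≤ (15 * τ) * (2 * a) := by
      calc (2 * GG m) * (2 * a) = GG m * (4 * a) := by ring
        _ ≤ GG m * (5 * (a - 1)) := h6
        _ = 5 * (GG m * (a - 1)) := by ring
        _ ≤ 5 * (τ * (6 * a)) := Nat.mul_le_mul_left _ h4
        _ = (15 * τ) * (2 * a) := by ring
    exact Nat.le_of_mul_le_mul_right h7 (by omega)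
  have k1 := key a₁ n₁ τ₁ ha₁ h1 hd₁ hn₁ e₁
  have k2 := key a₂ n₂ τ₂ ha₂ h2 hd₂ hn₂ e₂
  have k3 := key a₃ n₃ τ₃ ha₃ h3 hd₃ hn₃ e₃
  have h7 : 6 * GG m ≤ 5 * TT m := by omega
  obtain ⟨K, hK⟩ : ∃ K, K = (24 * s + 3) ^ 3 * (24 * s + 2) * (24 * s + 4) := ⟨_, rfl⟩
  have hKpos : 0 < K := by rw [hK]; positivity
  rw [← hK] at hG hT
  rw [hG, hT, hM] at h7
  have h8 : K * (6 * (576 * s ^ 2 + 120 * s + 7)) ≤ K * (5 * ((24 * s + 3) * (24 * s + 1))) := by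
    calc K * (6 * (576 * s ^ 2 + 120 * s + 7)) = 6 * (K * (576 * s ^ 2 + 120 * s + 7)) := by ring
      _ ≤ 5 * (K * ((24 * s + 3) * (24 * s + 1))) := h7
      _ = K * (5 * ((24 * s + 3) * (24 * s + 1))) := by ring
  have h9 := Nat.le_of_mul_le_mul_left h8 hKpos
  have e : (24 * s + 3) * (24 * s + 1) = 576 * s ^ 2 + 96 * s + 3 := by ring
  rw [e] at h9
  generalize s ^ 2 = t at h9
  omega

theorem arT : StArT := by
  intro m n₀ t γ hm h1 h2 h3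
  obtain ⟨s, hs, hq, hM, hG, hT, hk⟩ := shapes m hm
  have eW : qq m ^ 3 - 2 * qq m ^ 2 - 1 = 13824 * s ^ 3 + 4032 * s ^ 2 + 360 * s + 8 := by
    rw [hq]
    have e : (24 * s + 3) ^ 3 =
        2 * (24 * s + 3) ^ 2 + (13824 * s ^ 3 + 4032 * s ^ 2 + 360 * s + 8) + 1 := by ring
    rw [e]
    omega
  have e1 : qq m - 1 = 24 * s + 2 := by rw [hq]; omega
  have e3 : qq m - 3 = 24 * s := by rw [hq]; omega
  rw [eW, e1] at h1
  rw [e3, hG, hM] at h3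
  rw [hT]
  rw [hq] at h1 h3
  -- `6 γ`
  have h4 : (24 * s + 4) * (6 * γ) = (24 * s + 4) *
      ((24 * s + 3) ^ 3 * (24 * s + 2) * (576 * s ^ 2 + 120 * s + 7) * (24 * s)) := by
    calc (24 * s + 4) * (6 * γ) = 6 * (24 * s + 3 + 1) * γ := by ring
      _ = (24 * s + 3) ^ 3 * (24 * s + 2) * (24 * s + 4) * (576 * s ^ 2 + 120 * s + 7) *
          (24 * s) := h3
      _ = _ := by ring
  have h5 := Nat.eq_of_mul_eq_mul_left (show 0 < 24 * s + 4 by omega) h4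
  have h6 : 6 * t + 6 * γ = 3 * (2 * n₀) := by rw [h2]; ring
  rw [h5, h1] at h6
  have h7 : 2 * ((24 * s + 3) ^ 3 * (24 * s + 2) * (24 * s + 4) * ((24 * s + 3) * (24 * s + 1))) +
      (24 * s + 3) ^ 3 * (24 * s + 2) * (576 * s ^ 2 + 120 * s + 7) * (24 * s) =
      3 * ((24 * s + 3) ^ 3 * (24 * s + 2) * (13824 * s ^ 3 + 4032 * s ^ 2 + 360 * s + 8)) := by
    ring
  omega

theorem cop_lin {a b : ℕ} (u v : ℤ) (h : u * a + v * b = 1) : Nat.Coprime a b :=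
  Nat.isCoprime_iff_coprime.mp ⟨u, v, h⟩

theorem three_lt_of_prime_dvd {X p : ℕ} (h2 : X % 2 = 1) (h3 : X % 3 ≠ 0) (hp : p.Prime)
    (hd : p ∣ X) : 3 < p := by
  by_contra hcon
  push Not at hcon
  have h1 := hp.two_le
  obtain ⟨c, hc⟩ := hd
  interval_cases p <;> omega

theorem arCop : StArCop := by
  intro m hm
  obtain ⟨s, hs, hq, hM, hG, hT, hk⟩ := shapes m hm
  obtain ⟨hM2, hM3⟩ := MM_mod m s hM
  have hMpos : 0 < MM m := by rw [hM]; positivity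
  have eh : (qq m - 1) / 2 = 12 * s + 1 := by rw [hq]; omega
  -- coprimality facts
  have c1 : Nat.Coprime (MM m) (24 * s + 3) := by
    apply cop_lin 1 (-(24 * (s : ℤ) + 2))
    rw [hM]; push_cast; ring
  have c2 : Nat.Coprime (MM m) (24 * s + 2) := by
    apply cop_lin 1 (-(24 * (s : ℤ) + 3))
    rw [hM]; push_cast; ring
  have c3 : Nat.Coprime (MM m) (24 * s + 4) := by
    apply cop_lin (-(8 * (s : ℤ) + 1)) (1 + (8 * (s : ℤ) + 1) * (24 * s + 1))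
    rw [hM]; push_cast; ring
  have c4 : Nat.Coprime (6 * s + 1) (MM m) := by
    apply cop_lin (4 * (1 + (8 * (s : ℤ) + 1) * (24 * s + 1))) (-(8 * (s : ℤ) + 1))
    rw [hM]; push_cast; ring
  have c5 : Nat.Coprime (6 * s + 1) (24 * s + 3) := by
    apply cop_lin 4 (-1)
    push_cast; ring
  have c6 : Nat.Coprime (6 * s + 1) (24 * s + 2) := by
    apply cop_lin (1 - 12 * (s : ℤ)) (3 * (s : ℤ))
    push_cast; ring
  have c7 : Nat.Coprime (6 * s + 1) 4 := by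
    apply cop_lin (2 * (s : ℤ) + 1) (-(3 * (s : ℤ) ^ 2 + 2 * s))
    push_cast; ring
  have c8 : Nat.Coprime (12 * s + 1) 2 := by
    apply cop_lin 1 (-(6 * (s : ℤ)))
    push_cast; ring
  have c9 : Nat.Coprime (12 * s + 1) (24 * s + 3) := by
    apply cop_lin (-2) 1
    push_cast; ring
  have c10 : Nat.Coprime (12 * s + 1) (24 * s + 4) := by
    apply cop_lin (1 + 12 * (s : ℤ)) (-(6 * (s : ℤ)))
    push_cast; ring
  have c11 : Nat.Coprime (12 * s + 1) (MM m) := by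
    apply cop_lin (-(2 * (24 * (s : ℤ) + 3))) 1
    rw [hM]; push_cast; ring
  -- quotients
  have q1 : GG m / MM m = (24 * s + 3) ^ 3 * (24 * s + 2) * (24 * s + 4) :=
    Nat.div_eq_of_eq_mul_left hMpos hG
  have q2 : GG m / (6 * s + 1) = (24 * s + 3) ^ 3 * (24 * s + 2) * 4 * MM m := by
    apply Nat.div_eq_of_eq_mul_left (by omega)
    rw [hG]; ring
  have q3 : GG m / (12 * s + 1) = (24 * s + 3) ^ 3 * 2 * (24 * s + 4) * MM m := by
    apply Nat.div_eq_of_eq_mul_left (by omega)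
    rw [hG]; ring
  have eq2 : qq m ^ 2 - 1 = (24 * s + 2) * (24 * s + 4) := by
    rw [hq]
    have e : (24 * s + 3) ^ 2 = (24 * s + 2) * (24 * s + 4) + 1 := by ring
    rw [e, Nat.add_sub_cancel]
  refine ⟨⟨_, hG.trans (Nat.mul_comm _ _)⟩, ?_, by omega, by rw [hk, hq]; ring, ?_, by rw [hk]; omega,
    by rw [hk]; exact c4, ?_, ?_, ?_, ?_, by rw [eh]; omega, ?_, ?_, ?_, ?_⟩
  · rw [q1]
    exact Nat.Coprime.mul_right (Nat.Coprime.mul_right (c1.pow_right 3) c2) c3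
  · rw [hk]; exact ⟨3 * s, by ring⟩
  · rw [hk, q2]
    exact Nat.Coprime.mul_right (Nat.Coprime.mul_right (Nat.Coprime.mul_right (c5.pow_right 3) c6)
      c7) c4
  · rw [eq2, hq]
    exact Nat.Coprime.mul_right c1 (Nat.Coprime.mul_right c2 c3)
  · rw [eh]; exact ⟨6 * s, by ring⟩
  · rw [eh, hq]; omega
  · rw [eh, q3]
    exact Nat.Coprime.mul_right (Nat.Coprime.mul_right (Nat.Coprime.mul_right (c9.pow_right 3) c8)
      c10) c11
  · intro p hp hd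
    exact three_lt_of_prime_dvd hM2 (by omega) hp hd
  · intro p hp hd
    rw [hk] at hd
    exact three_lt_of_prime_dvd (by omega) (by omega) hp hd
  · intro p hp hd
    rw [eh] at hd
    exact three_lt_of_prime_dvd (by omega) (by omega) hp hd

example : StArOne := arOne
example : StArTwo := arTwo
example : StArThree := arThree
example : StArT := arT
example : StArCop := arCop

end Cfsg.Agent.H11.S8

#print axioms Cfsg.Agent.H11.S8.arOne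
#print axioms Cfsg.Agent.H11.S8.arTwo
#print axioms Cfsg.Agent.H11.S8.arThree
#print axioms Cfsg.Agent.H11.S8.arT
#print axioms Cfsg.Agent.H11.S8.arCop
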