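import Mathlib
import Cfsg.Agent.H45.S8Defs0
import Cfsg.Agent.H68.S9Defs

/-!
# S9-EXSIX (helper68's S1159 project): an element of order 6
-/

set_option autoImplicit false

namespace Cfsg.Agent.H11.S9

open Cfsg.Agent.H45.S8 Cfsg.Agent.H68.S9

universe u

theorem exSix : StExSix.{u} := by
  intro G _ _ a ha1 haa h3
  have : Fact (Nat.Prime 3) := ⟨Nat.prime_three⟩
  obtain ⟨w, hw⟩ := exists_prime_orderOf_dvd_card' 3 h3
  have hw' : orderOf (w : G) = 3 := by rw [Subgroup.orderOf_coe]; exact hw
  have ha2 : orderOf a = 2 := orderOf_eq_prime (by rw [pow_two]; exact haa) ha1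
  have hcomm : Commute a (w : G) := by
    have h := w.2
    rw [Subgroup.mem_centralizer_iff] at h
    exact h a (Set.mem_singleton a)
  refine ⟨a * (w : G), ?_⟩
  rw [hcomm.orderOf_mul_eq_mul_orderOf_of_coprime (by rw [ha2, hw']; decide), ha2, hw']

example : StExSix.{u} := exSix

end Cfsg.Agent.H11.S9

#print axioms Cfsg.Agent.H11.S9.exSix
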