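import Mathlib
import Cfsg.Agent.H45.S8Defs0
import Cfsg.Agent.H68.S9Defs

/-!
# S9-NINE (helper68's S1159 project): an element of order 9
-/

set_option autoImplicit false

namespace Cfsg.Agent.H11.S9

open Cfsg.Agent.H45.S8 Cfsg.Agent.H68.S9

universe u

theorem nine : StNine.{u} := by
  intro Γ _ V T _ f hf hVT hV h3 h9
  have ht : 3 ≤ 3 ^ f := by
    calc 3 = 3 ^ 1 := by norm_num
      _ ≤ 3 ^ f := Nat.pow_le_pow_right (by norm_num) hf
  have hex : ∃ u : ↥V, u ≠ 1 ∧ orderOf u ≠ 3 := by
    by_contra hcon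
    push Not at hcon
    classical
    let φ : ↥V → Option {u : ↥V // orderOf u = 3} := fun u =>
      if h : orderOf u = 3 then some ⟨u, h⟩ else none
    have hφ : Function.Injective φ := by
      intro u u' huu'
      by_cases h : orderOf u = 3
      · by_cases h' : orderOf u' = 3
        · simp only [φ, dif_pos h, dif_pos h', Option.some.injEq, Subtype.mk.injEq] at huu'
          exact huu'
        · simp only [φ, dif_pos h, dif_neg h'] at huu'
          exact absurd huu' (by simp)
      · by_cases h' : orderOf u' = 3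
        · simp only [φ, dif_neg h, dif_pos h'] at huu'
          exact absurd huu' (by simp)
        · have e1 : u = 1 := by
            by_contra hne
            exact h (hcon u hne)
          have e2 : u' = 1 := by
            by_contra hne
            exact h' (hcon u' hne)
          rw [e1, e2]
    have hle := Nat.card_le_card_of_injective φ hφ
    rw [Finite.card_option, hV, h3] at hle
    have e : (3 ^ f) ^ 3 = (3 ^ f) ^ 2 * 3 ^ f := by ring
    have h3' : (3 ^ f) ^ 2 * 3 ≤ (3 ^ f) ^ 2 * 3 ^ f := Nat.mul_le_mul_left _ ht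
    have hs : 1 ≤ (3 ^ f) ^ 2 := Nat.one_le_pow _ _ (by omega)
    rw [e] at hle
    omega
  obtain ⟨u, hu1, hu3⟩ := hex
  obtain ⟨g, hg⟩ : ∃ g : ↥T, (g : Γ) = (u : Γ) := ⟨⟨u, hVT u.2⟩, rfl⟩
  have hg3 : Is3 g := by
    refine ⟨f * 3, ?_⟩
    have h1 : u ^ Nat.card ↥V = 1 := pow_card_eq_one'
    rw [hV, ← pow_mul] at h1
    have h2 := congrArg (Subtype.val) h1
    rw [Subgroup.coe_pow, Subgroup.coe_one] at h2
    apply Subtype.ext
    rw [Subgroup.coe_pow, Subgroup.coe_one, hg]
    exact h2
  have hg9 := h9 g hg3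
  have hdvd : orderOf g ∣ 3 ^ 2 := orderOf_dvd_of_pow_eq_one hg9
  obtain ⟨k, hk, hk'⟩ := (Nat.dvd_prime_pow Nat.prime_three).mp hdvd
  have hgu : orderOf g = orderOf u := by
    have e1 : orderOf (g : Γ) = orderOf g := Subgroup.orderOf_coe g
    have e2 : orderOf (u : Γ) = orderOf u := Subgroup.orderOf_coe u
    rw [← e1, ← e2, hg]
  refine ⟨g, ?_⟩
  interval_cases k
  · exfalso
    rw [hgu] at hk'
    simp at hk'
    exact hu1 hk'
  · exfalso
    rw [hgu] at hk'
    exact hu3 (by simpa using hk')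
  · rw [hk']; norm_num

example : StNine.{u} := nine

end Cfsg.Agent.H11.S9

#print axioms Cfsg.Agent.H11.S9.nine
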