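import Mathlib
import Cfsg.Agent.H52.SnDefs

/-!
# S2942 (helper52's project), piece SN-FINA: `O ≤ Q`, and `K C` is normal in a normal subgroup
-/

set_option autoImplicit false

namespace Cfsg.Agent.H11.Sn

open Cfsg Subgroup Cfsg.Agent.H52.Sn
open scoped Pointwise

universe u

theorem finA : StFinA.{u} := by
  intro X _ _ T C Q M J K O hT2 hTodd hCn hQn hMn hTC hJM hcomm hKgen hKJ hOK hO2
  have hπker : ∀ g : X, QuotientGroup.mk' C g = 1 ↔ g ∈ C := fun g => QuotientGroup.eq_one_iff g
  obtain ⟨π, hπ⟩ : ∃ π : X →* X ⧸ C, π = QuotientGroup.mk' C := ⟨_, rfl⟩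
  rw [← hπ] at hπker
  obtain ⟨S, hS⟩ : ∃ S : Set X, S = {g : X | g ∈ M ∧ Odd (orderOf g)} := ⟨_, rfl⟩
  have hSmem : ∀ g : X, g ∈ S ↔ g ∈ M ∧ Odd (orderOf g) := by
    intro g
    rw [hS]
    rfl
  -- `K ≤ M`
  have hKM : K ≤ M := by
    have := hMn
    have h1 : ⁅K, J⁆ ≤ M :=
      (Subgroup.commutator_mono le_rfl hJM).trans (Subgroup.commutator_le_right K M)
    rw [hKJ] at h1
    exact h1
  -- the images of `S` commute
  have hScomm : ∀ s ∈ S, ∀ s' ∈ S, π s * π s' = π s' * π s := by
    intro s hs s' hs'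
    have hs1 := (hSmem s).mp hs
    have hs2 := (hSmem s').mp hs'
    have h1 := hcomm s hs1.1 s' hs2.1 hs1.2 hs2.2
    have h2 : π (s * s' * s⁻¹ * s'⁻¹) = 1 := (hπker _).mpr h1
    rw [map_mul, map_mul, map_mul, map_inv, map_inv] at h2
    have e : π s * π s' = (π s * π s' * (π s)⁻¹ * (π s')⁻¹) * (π s' * π s) := by group
    rw [e, h2, one_mul]
  -- the closure of the image of `S` is abelian
  have hA1 : ∀ u ∈ closure (π '' S), ∀ s ∈ S, u * π s = π s * u := by
    intro u hu s hs
    have h1 : closure (π '' S) ≤ centralizer ({π s} : Set (X ⧸ C)) := by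
      rw [closure_le]
      rintro _ ⟨s', hs', rfl⟩
      rw [SetLike.mem_coe, mem_centralizer_iff]
      intro z hz
      rw [Set.mem_singleton_iff.mp hz]
      exact hScomm s hs s' hs'
    exact (mem_centralizer_iff.mp (h1 hu) (π s) (Set.mem_singleton _)).symm
  have hA2 : ∀ u ∈ closure (π '' S), ∀ v ∈ closure (π '' S), u * v = v * u := by
    intro u hu v hv
    have h1 : closure (π '' S) ≤ centralizer ({u} : Set (X ⧸ C)) := by
      rw [closure_le]
      rintro _ ⟨s, hs, rfl⟩
      rw [SetLike.mem_coe, mem_centralizer_iff]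
      intro z hz
      rw [Set.mem_singleton_iff.mp hz]
      exact hA1 u hu s hs
    exact mem_centralizer_iff.mp (h1 hv) u (Set.mem_singleton _)
  -- all its elements have odd order
  have hAodd : ∀ u ∈ closure (π '' S), Odd (orderOf u) := by
    intro u hu
    induction hu using closure_induction with
    | mem u hu =>
      obtain ⟨s, hs, rfl⟩ := hu
      exact Odd.of_dvd_nat ((hSmem s).mp hs).2 (orderOf_map_dvd π s)
    | one =>
      rw [orderOf_one]
      exact odd_one
    | mul u v hu hv ihu ihv =>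
      have hc : Commute u v := hA2 u hu v hv
      exact Odd.of_dvd_nat (ihu.mul ihv) (hc.orderOf_mul_dvd_lcm.trans (Nat.lcm_dvd_mul _ _))
    | inv u hu ih =>
      rw [orderOf_inv]
      exact ih
  have hKS : K ≤ closure S := by
    have h1 : closure {g : X | g ∈ K ∧ Odd (orderOf g)} ≤ closure S := by
      apply Subgroup.closure_mono
      rintro g ⟨hgK, hgo⟩
      exact (hSmem g).mpr ⟨hKM hgK, hgo⟩
    rw [hKgen] at h1
    exact h1
  have hmapS : ∀ g ∈ closure S, π g ∈ closure (π '' S) := by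
    intro g hg
    have h2 : π g ∈ (closure S).map π := mem_map_of_mem π hg
    rw [MonoidHom.map_closure] at h2
    exact h2
  -- `O ≤ C`
  have hOC : O ≤ C := by
    intro o ho
    rw [← hπker]
    have hodd := hAodd (π o) (hmapS o (hKS (hOK ho)))
    obtain ⟨k, hk⟩ := hO2 ⟨o, ho⟩
    have hk' : o ^ 2 ^ k = 1 := congrArg Subtype.val hk
    have hdvd : orderOf (π o) ∣ 2 ^ k := by
      apply orderOf_dvd_of_pow_eq_one
      rw [← map_pow, hk', map_one]
    have hcop : Nat.Coprime (orderOf (π o)) (2 ^ k) :=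
      Nat.Coprime.pow_right k (Nat.coprime_two_right.mpr hodd)
    exact orderOf_eq_one_iff.mp (Nat.Coprime.eq_one_of_dvd hcop hdvd)
  -- `O ≤ Q`
  have hOQ : O ≤ Q := by
    have : Fact (Nat.Prime 2) := ⟨Nat.prime_two⟩
    have hTidx : ¬ 2 ∣ T.index := by
      intro h
      exact (Nat.not_even_iff_odd.mpr hTodd) (even_iff_two_dvd.mpr h)
    obtain ⟨P, hP⟩ := hO2.exists_le_sylow
    obtain ⟨g, hg⟩ := MulAction.exists_smul_eq X (hT2.toSylow hTidx) P
    intro o ho
    have h1 : o ∈ (P : Subgroup X) := hP ho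
    rw [← hg, Sylow.coe_subgroup_smul, IsPGroup.toSylow_coe] at h1
    obtain ⟨t, ht, hto⟩ := (Subgroup.mem_smul_pointwise_iff_exists o (MulAut.conj g) T).mp h1
    have hto' : g * t * g⁻¹ = o := hto
    have htC : t ∈ C := by
      have e : t = g⁻¹ * o * g⁻¹⁻¹ := by
        rw [← hto']
        group
      rw [e]
      exact hCn.conj_mem o (hOC ho) g⁻¹
    rw [← hto']
    exact hQn.conj_mem t (hTC ⟨ht, htC⟩) g
  -- the subgroup `R`
  have hKCR : K ⊔ C ≤ C ⊔ normalClosure S := by
    apply sup_le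
    · exact (hKS.trans ((closure_le _).mpr (fun g hg => subset_normalClosure hg))).trans le_sup_right
    · exact le_sup_left
  have hRA : ∀ r ∈ C ⊔ normalClosure S, π r ∈ closure (π '' S) := by
    intro r hr
    have h1 : (C ⊔ normalClosure S).map π ≤ closure (π '' S) := by
      rw [Subgroup.map_sup]
      apply sup_le
      · rintro _ ⟨c, hc, rfl⟩
        rw [(hπker c).mpr hc]
        exact (closure (π '' S)).one_mem
      · have h2 : normalClosure S ≤ closure S := by
          show closure (Group.conjugatesOfSet S) ≤ closure S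
          apply Subgroup.closure_mono
          intro z hz
          obtain ⟨b, hb, hbz⟩ := Group.mem_conjugatesOfSet_iff.mp hz
          obtain ⟨c, hc⟩ := isConj_iff.mp hbz
          rw [← hc]
          have hb' := (hSmem b).mp hb
          refine (hSmem _).mpr ⟨hMn.conj_mem b hb'.1 c, ?_⟩
          have e : orderOf (c * b * c⁻¹) = orderOf b :=
            orderOf_injective (MulAut.conj c).toMonoidHom (MulAut.conj c).injective b
          rw [e]
          exact hb'.2
        intro u hu
        obtain ⟨g, hg, rfl⟩ := hu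
        exact hmapS g (h2 hg)
    exact h1 (mem_map_of_mem π hr)
  have key : ∀ r ∈ C ⊔ normalClosure S, ∀ z ∈ K ⊔ C, r * z * r⁻¹ ∈ K ⊔ C := by
    intro r hr z hz
    have hzR := hKCR hz
    have h1 : r * z * r⁻¹ * z⁻¹ ∈ C := by
      rw [← hπker, map_mul, map_mul, map_mul, map_inv, map_inv,
        hA2 (π r) (hRA r hr) (π z) (hRA z hzR)]
      group
    have e : r * z * r⁻¹ = (r * z * r⁻¹ * z⁻¹) * z := by group
    rw [e]
    exact (K ⊔ C).mul_mem ((le_sup_right : C ≤ K ⊔ C) h1) hz
  have hRn : (C ⊔ normalClosure S).Normal := by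
    have := hCn
    exact inferInstance
  refine ⟨hOQ, C ⊔ normalClosure S, hRn, hKCR, ?_⟩
  intro r hr
  rw [mem_normalizer_iff]
  intro z
  constructor
  · exact key r hr z
  · intro hz
    have h1 := key r⁻¹ ((C ⊔ normalClosure S).inv_mem hr) _ hz
    have e : r⁻¹ * (r * z * r⁻¹) * r⁻¹⁻¹ = z := by group
    rw [e] at h1
    exact h1

example : Cfsg.Agent.H52.Sn.StFinA.{u} := finA

end Cfsg.Agent.H11.Sn

#print axioms Cfsg.Agent.H11.Sn.finA
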