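import Cfsg.Agent.H48.SpUDefs

set_option autoImplicit false

/-! S2316 piece CAY: the Cayley-type bijection `X ↦ 1 + X⁻¹` between `AESet M` and `ESet M`. -/

open Matrix

namespace Cfsg.Agent.H11.SpU

open Cfsg.Agent.H48.SpU Matrix

universe u

section
variable {F : Type*} [Field F] {ι : Type*} [Fintype ι] [DecidableEq ι]

theorem cay_fwd (M X Z : Matrix ι ι F) (hX : M * X + Xᵀ * M = -M) (hXZ : X * Z = 1) :
    (1 + Z)ᵀ * M * (1 + Z) = M := by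
  have hZXt : Zᵀ * Xᵀ = 1 := by rw [← Matrix.transpose_mul, hXZ, Matrix.transpose_one]
  have h1 : Zᵀ * (M * X + Xᵀ * M) * Z = Zᵀ * (-M) * Z := by rw [hX]
  have h2 : Zᵀ * (M * X + Xᵀ * M) * Z = Zᵀ * M * (X * Z) + (Zᵀ * Xᵀ) * M * Z := by
    noncomm_ring
  rw [h2, hXZ, hZXt, Matrix.mul_one, Matrix.one_mul] at h1
  have h3 : (1 + Z)ᵀ * M * (1 + Z) = M + ((Zᵀ * M + M * Z) + Zᵀ * M * Z) := by
    rw [Matrix.transpose_add, Matrix.transpose_one]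
    noncomm_ring
  rw [h3, h1]
  noncomm_ring

theorem cay_bwd (M g W : Matrix ι ι F) (hg : gᵀ * M * g = M) (hYW : (g - 1) * W = 1) :
    M * W + Wᵀ * M = -M := by
  have hWYt : Wᵀ * (g - 1)ᵀ = 1 := by rw [← Matrix.transpose_mul, hYW, Matrix.transpose_one]
  have hgt : gᵀ = 1 + (g - 1)ᵀ := by
    rw [Matrix.transpose_sub, Matrix.transpose_one]
    abel
  have hg' : g = 1 + (g - 1) := by abel
  -- `M Y + Yᵀ M + Yᵀ M Y = 0`
  have k1 : M * (g - 1) + (g - 1)ᵀ * M + (g - 1)ᵀ * M * (g - 1) = 0 := by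
    have h0 : (1 + (g - 1)ᵀ) * M * (1 + (g - 1)) = M := by
      rw [← hgt, ← hg']
      exact hg
    have h00 : (1 + (g - 1)ᵀ) * M * (1 + (g - 1)) =
        M + (M * (g - 1) + (g - 1)ᵀ * M + (g - 1)ᵀ * M * (g - 1)) := by
      noncomm_ring
    rw [h00] at h0
    exact left_eq_add.mp h0.symm
  have k2 : Wᵀ * (M * (g - 1) + (g - 1)ᵀ * M + (g - 1)ᵀ * M * (g - 1)) * W = 0 := by
    rw [k1, Matrix.mul_zero, Matrix.zero_mul]
  have k3 : Wᵀ * (M * (g - 1) + (g - 1)ᵀ * M + (g - 1)ᵀ * M * (g - 1)) * W =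
      Wᵀ * M * ((g - 1) * W) + (Wᵀ * (g - 1)ᵀ) * M * W +
        (Wᵀ * (g - 1)ᵀ) * M * ((g - 1) * W) := by
    noncomm_ring
  rw [k3, hYW, hWYt] at k2
  simp only [Matrix.mul_one, Matrix.one_mul] at k2
  have k4 : M * W + Wᵀ * M = -M + (Wᵀ * M + M * W + M) := by abel
  rw [k4, k2, add_zero]

end

theorem cay : CayStmt.{u} := by
  intro F _ _ ι _ _ M
  classical
  refine Nat.card_congr
    { toFun := fun X => ⟨1 + (X : Matrix ι ι F)⁻¹, ?_⟩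
      invFun := fun g => ⟨((g : Matrix ι ι F) - 1)⁻¹, ?_⟩
      left_inv := ?_
      right_inv := ?_ }
  · obtain ⟨X, hX, hu⟩ := X
    have hd : IsUnit X.det := (Matrix.isUnit_iff_isUnit_det X).mp hu
    have h1 : X * X⁻¹ = 1 := Matrix.mul_nonsing_inv X hd
    have h2 : X⁻¹ * X = 1 := Matrix.nonsing_inv_mul X hd
    refine ⟨cay_fwd M X X⁻¹ hX h1, ?_⟩
    have h3 : (1 + X⁻¹ - 1 : Matrix ι ι F) = X⁻¹ := by abel
    show IsUnit (1 + X⁻¹ - 1 : Matrix ι ι F)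
    rw [h3]
    exact Matrix.isUnit_nonsing_inv_iff.mpr hu
  · obtain ⟨g, hg, hu⟩ := g
    have hd : IsUnit (g - 1).det := (Matrix.isUnit_iff_isUnit_det (g - 1)).mp hu
    have h1 : (g - 1) * (g - 1)⁻¹ = 1 := Matrix.mul_nonsing_inv (g - 1) hd
    have h2 : (g - 1)⁻¹ * (g - 1) = 1 := Matrix.nonsing_inv_mul (g - 1) hd
    exact ⟨cay_bwd M g (g - 1)⁻¹ hg h1, Matrix.isUnit_nonsing_inv_iff.mpr hu⟩
  · intro X
    obtain ⟨X, hX, hu⟩ := X
    have hd : IsUnit X.det := (Matrix.isUnit_iff_isUnit_det X).mp hu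
    apply Subtype.ext
    show ((1 + X⁻¹ : Matrix ι ι F) - 1)⁻¹ = X
    have h3 : (1 + X⁻¹ - 1 : Matrix ι ι F) = X⁻¹ := by abel
    rw [h3, Matrix.nonsing_inv_nonsing_inv X hd]
  · intro g
    obtain ⟨g, hg, hu⟩ := g
    have hd : IsUnit (g - 1).det := (Matrix.isUnit_iff_isUnit_det (g - 1)).mp hu
    apply Subtype.ext
    show (1 + ((g - 1)⁻¹)⁻¹ : Matrix ι ι F) = g
    rw [Matrix.nonsing_inv_nonsing_inv (g - 1) hd]
    abel

example : Cfsg.Agent.H48.SpU.CayStmt.{u} := cay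

end Cfsg.Agent.H11.SpU

#print axioms Cfsg.Agent.H11.SpU.cay
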