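import Mathlib
import Cfsg.Agent.H97.SuLDefs
import Cfsg.Agent.H7.LawUnitary

/-!
# SuL-ENUMM (helper97's S2334/S2335 project): an enumeration of the vectors with coordinates in
the fixed field
-/

set_option autoImplicit false

namespace Cfsg.Agent.H11.SuL

open Module Cfsg.Agent.H17 Cfsg.Agent.H97.SuL

universe u

theorem enumM : StEnumM.{u} := by
  classical
  intro F _ _ q hF m
  have hcard := Cfsg.Agent.H7.card_fixed (F := F) hF
  let e := Finset.equivFinOfCardEq hcard
  refine ⟨fun j i => (e.symm (finFunctionFinEquiv.symm j i) : F), ?_, ?_⟩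
  · intro j j' h
    apply finFunctionFinEquiv.symm.injective
    funext i
    apply e.symm.injective
    apply Subtype.ext
    exact congrFun h i
  · intro j i
    have h := (e.symm (finFunctionFinEquiv.symm j i)).2
    exact (Finset.mem_filter.mp h).2

example : StEnumM.{u} := enumM

end Cfsg.Agent.H11.SuL

#print axioms Cfsg.Agent.H11.SuL.enumM
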