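import Mathlib
import Cfsg.Agent.H97.SuRDefs

/-!
# S2282, piece LIFT: lifts `d(g) e^U(c, S)` pass to the generated subgroup
-/

set_option autoImplicit false

namespace Cfsg.Agent.H11.SuR

open Matrix Cfsg.Agent.H45.U Cfsg.Agent.H97.SuR

variable {F : Type*} [Field F]

theorem sl_inv_mul {k : ℕ} (g : Matrix.SpecialLinearGroup (Fin k) F) :
    ((g⁻¹ : Matrix.SpecialLinearGroup (Fin k) F) : Matrix (Fin k) (Fin k) F) *
      (g : Matrix (Fin k) (Fin k) F) = 1 := by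
  rw [← Matrix.SpecialLinearGroup.coe_mul, inv_mul_cancel, Matrix.SpecialLinearGroup.coe_one]

theorem sl_mul_inv {k : ℕ} (g : Matrix.SpecialLinearGroup (Fin k) F) :
    (g : Matrix (Fin k) (Fin k) F) *
      ((g⁻¹ : Matrix.SpecialLinearGroup (Fin k) F) : Matrix (Fin k) (Fin k) F) = 1 := by
  rw [← Matrix.SpecialLinearGroup.coe_mul, mul_inv_cancel, Matrix.SpecialLinearGroup.coe_one]

/-- The inverse of an element of `UH`, from a right inverse of its matrix. -/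
theorem UH_inv_eq {σ : F →+* F} {k : ℕ} (x : ↥(UH σ (Fin k) (Fin 1)))
    (M : Matrix (Fin k ⊕ (Fin k ⊕ Fin 1)) (Fin k ⊕ (Fin k ⊕ Fin 1)) F) (h : x.1.1 * M = 1) :
    (x⁻¹).1.1 = M := by
  have h1 : (x⁻¹).1.1 * x.1.1 = 1 := by rw [← UH_mul_coe, inv_mul_cancel, UH_one_coe]
  calc (x⁻¹).1.1 = (x⁻¹).1.1 * (x.1.1 * M) := by rw [h, Matrix.mul_one]
    _ = M := by rw [← Matrix.mul_assoc, h1, Matrix.one_mul]

theorem eU_mul_dU (σ : F →+* F) {k : ℕ} (B B' : Matrix (Fin k) (Fin k) F) (hB : B * B' = 1)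
    (hB' : B' * B = 1) (c : Matrix (Fin k) (Fin 1) F) (S : Matrix (Fin k) (Fin k) F) :
    eU σ c S * dU σ B B' (1 : Matrix (Fin 1) (Fin 1) F) =
      dU σ B B' 1 * eU σ (B' * c) (B' * S * ct σ B') := by
  rw [dU_mul_eU σ B B' 1 1 (B' * c) (B' * S * ct σ B') hB' (by simp) (by rw [ct_one])]
  have e1 : ct σ B' * ct σ B = 1 := by rw [← ct_mul, hB, ct_one]
  have e2 : B * (B' * c) * (1 : Matrix (Fin 1) (Fin 1) F) = c := by
    rw [Matrix.mul_one, ← Matrix.mul_assoc, hB, Matrix.one_mul]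
  have e3 : B * (B' * S * ct σ B') * ct σ B = S := by
    rw [Matrix.mul_assoc B, Matrix.mul_assoc (B' * S), e1, Matrix.mul_one, ← Matrix.mul_assoc,
      hB, Matrix.one_mul]
  rw [e2, e3]

theorem dE_one (σ : F →+* F) {k : ℕ} :
    dE σ (1 : Matrix.SpecialLinearGroup (Fin k) F) 0 0 = 1 := by
  unfold dE
  rw [inv_one, Matrix.SpecialLinearGroup.coe_one, dU_one, eU_zero, Matrix.one_mul]

theorem dE_mul (σ : F →+* F) {k : ℕ} (g g' : Matrix.SpecialLinearGroup (Fin k) F)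
    (c c' : Matrix (Fin k) (Fin 1) F) (S S' : Matrix (Fin k) (Fin k) F) :
    dE σ g c S * dE σ g' c' S' =
      dE σ (g * g')
        (((g'⁻¹ : Matrix.SpecialLinearGroup (Fin k) F) : Matrix (Fin k) (Fin k) F) * c + c')
        (((g'⁻¹ : Matrix.SpecialLinearGroup (Fin k) F) : Matrix (Fin k) (Fin k) F) * S *
            ct σ ((g'⁻¹ : Matrix.SpecialLinearGroup (Fin k) F) : Matrix (Fin k) (Fin k) F) + S' -
          ((g'⁻¹ : Matrix.SpecialLinearGroup (Fin k) F) : Matrix (Fin k) (Fin k) F) * c *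
            ct σ c') := by
  unfold dE
  rw [Matrix.mul_assoc, ← Matrix.mul_assoc (eU σ c S),
    eU_mul_dU σ _ _ (sl_mul_inv g') (sl_inv_mul g'), Matrix.mul_assoc, eU_mul,
    ← Matrix.mul_assoc, dU_mul_dU, Matrix.one_mul, _root_.mul_inv_rev,
    Matrix.SpecialLinearGroup.coe_mul, Matrix.SpecialLinearGroup.coe_mul]

theorem lift_closure (σ : F →+* F) {k : ℕ} (H : Subgroup ↥(UH σ (Fin k) (Fin 1)))
    (T : Set (Matrix.SpecialLinearGroup (Fin k) F)) (hT : LiftsU σ H T) :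
    LiftsU σ H (Subgroup.closure T : Set (Matrix.SpecialLinearGroup (Fin k) F)) := by
  intro g hg
  have hg' : g ∈ Subgroup.closure T := hg
  clear hg
  induction hg' using Subgroup.closure_induction with
  | mem g hg => exact hT g hg
  | one => exact ⟨0, 0, 1, H.one_mem, by rw [UH_one_coe, dE_one]⟩
  | mul g g' hg1 hg2 ih ih' =>
    obtain ⟨c, S, x, hx, hx1⟩ := ih
    obtain ⟨c', S', y, hy, hy1⟩ := ih'
    exact ⟨_, _, x * y, H.mul_mem hx hy, by rw [UH_mul_coe, hx1, hy1, dE_mul]⟩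
  | inv g hg1 ih =>
    obtain ⟨c, S, x, hx, hx1⟩ := ih
    refine ⟨-((g : Matrix (Fin k) (Fin k) F) * c),
      (g : Matrix (Fin k) (Fin k) F) * (-S - c * ct σ c) * ct σ (g : Matrix (Fin k) (Fin k) F),
      x⁻¹, H.inv_mem hx, ?_⟩
    apply UH_inv_eq
    rw [hx1, dE_mul, mul_inv_cancel, inv_inv]
    have e1 : (g : Matrix (Fin k) (Fin k) F) * c + -((g : Matrix (Fin k) (Fin k) F) * c) = 0 := by
      abel
    have e2 : (g : Matrix (Fin k) (Fin k) F) * S * ct σ (g : Matrix (Fin k) (Fin k) F) +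
        (g : Matrix (Fin k) (Fin k) F) * (-S - c * ct σ c) *
          ct σ (g : Matrix (Fin k) (Fin k) F) -
        (g : Matrix (Fin k) (Fin k) F) * c *
          ct σ (-((g : Matrix (Fin k) (Fin k) F) * c)) = 0 := by
      rw [ct_neg, ct_mul]
      simp only [Matrix.mul_sub, Matrix.sub_mul, Matrix.mul_neg, Matrix.neg_mul, Matrix.mul_assoc]
      abel
    rw [e1, e2, dE_one]

example (σ : F →+* F) {k : ℕ} (H : Subgroup ↥(UH σ (Fin k) (Fin 1)))
    (T : Set (Matrix.SpecialLinearGroup (Fin k) F)) (hT : LiftsU σ H T) :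
    LiftsU σ H (Subgroup.closure T : Set (Matrix.SpecialLinearGroup (Fin k) F)) :=
  lift_closure σ H T hT

end Cfsg.Agent.H11.SuR

#print axioms Cfsg.Agent.H11.SuR.lift_closure
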