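import Mathlib
import Cfsg.Agent.H97.SuRDefs
import Cfsg.Agent.H11.SuRLift

/-!
# S2282, piece QL1: the `c`-parts of the lower unipotent elements of `H` fill `F^k`
-/

set_option autoImplicit false

namespace Cfsg.Agent.H11.SuR

open Matrix Cfsg.Agent.H45.U Cfsg.Agent.H97.SuR

variable {F : Type*} [Field F]

theorem eL_mul' (σ : F →+* F) {k : ℕ} (c c' : Matrix (Fin k) (Fin 1) F)
    (S S' : Matrix (Fin k) (Fin k) F) :
    eL σ c S * eL σ c' S' = eL σ (c + c') (S + S' - c * ct σ c') := by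
  unfold eL
  rw [blk3_mul]
  congr 1 <;> simp [ct_add] <;> abel

theorem dU_mul_eL' (σ : F →+* F) (hσ : ∀ a, σ (σ a) = a) {k : ℕ}
    (A A' : Matrix (Fin k) (Fin k) F) (c : Matrix (Fin k) (Fin 1) F)
    (S : Matrix (Fin k) (Fin k) F) (hA' : A' * A = 1) :
    dU σ A A' (1 : Matrix (Fin 1) (Fin 1) F) * eL σ c S =
      eL σ (ct σ A' * c) (ct σ A' * S * A') * dU σ A A' 1 := by
  unfold dU eL
  rw [blk3_mul, blk3_mul]
  congr 1
  · simp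
  · simp
  · simp
  · simp [Matrix.mul_assoc, hA']
  · simp
  · simp
  · simp [ct_mul, ct_ct σ hσ, Matrix.mul_assoc, hA']
  · simp
  · simp

theorem dF_mul_eL (σ : F →+* F) (hσ : ∀ a, σ (σ a) = a) {k : ℕ}
    (g : Matrix.SpecialLinearGroup (Fin k) F)
    (c₀ c : Matrix (Fin k) (Fin 1) F) (S₀ S : Matrix (Fin k) (Fin k) F) :
    dF σ g c₀ S₀ * eL σ c S =
      eL σ (ct σ ((g⁻¹ : Matrix.SpecialLinearGroup (Fin k) F) : Matrix (Fin k) (Fin k) F) * c)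
        (ct σ ((g⁻¹ : Matrix.SpecialLinearGroup (Fin k) F) : Matrix (Fin k) (Fin k) F) *
          (S - c₀ * ct σ c + c * ct σ c₀) *
          ((g⁻¹ : Matrix.SpecialLinearGroup (Fin k) F) : Matrix (Fin k) (Fin k) F)) *
        dF σ g c₀ S₀ := by
  unfold dF
  have h := dU_mul_eL' σ hσ (g : Matrix (Fin k) (Fin k) F)
    ((g⁻¹ : Matrix.SpecialLinearGroup (Fin k) F) : Matrix (Fin k) (Fin k) F)
    c (S - c₀ * ct σ c + c * ct σ c₀) (sl_inv_mul g)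
  rw [Matrix.mul_assoc, eL_mul', ← Matrix.mul_assoc (eL σ _ _), ← h, Matrix.mul_assoc, eL_mul']
  congr 2
  · abel
  · abel

theorem eL_inv_aux (σ : F →+* F) {k : ℕ} (c : Matrix (Fin k) (Fin 1) F)
    (S : Matrix (Fin k) (Fin k) F) :
    eL σ c S * eL σ (-c) (-S - c * ct σ c) = 1 := by
  rw [eL_mul', ct_neg]
  have e1 : c + -c = 0 := by abel
  have e2 : S + (-S - c * ct σ c) - c * -ct σ c = 0 := by
    rw [Matrix.mul_neg]; abel
  rw [e1, e2, eL_zero]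

theorem lower_all_c (σ : F →+* F) (hσ : ∀ a, σ (σ a) = a) {k : ℕ}
    (H : Subgroup ↥(UH σ (Fin k) (Fin 1))) (T : Set (Matrix.SpecialLinearGroup (Fin k) F))
    (hirr : IrrL σ T) (hd : LiftsL σ H T)
    (hne : ∃ (c : Matrix (Fin k) (Fin 1) F) (S : Matrix (Fin k) (Fin k) F), c ≠ 0 ∧
      ∃ x ∈ H, x.1.1 = eL σ c S) :
    ∀ c : Matrix (Fin k) (Fin 1) F, ∃ S : Matrix (Fin k) (Fin k) F, ∃ x ∈ H, x.1.1 = eL σ c S := by
  let X : AddSubgroup (Matrix (Fin k) (Fin 1) F) :=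
    { carrier := {c | ∃ S : Matrix (Fin k) (Fin k) F, ∃ x ∈ H, x.1.1 = eL σ c S}
      zero_mem' := ⟨0, 1, H.one_mem, by rw [UH_one_coe, eL_zero]⟩
      add_mem' := by
        rintro c c' ⟨S, x, hx, hx1⟩ ⟨S', y, hy, hy1⟩
        exact ⟨_, x * y, H.mul_mem hx hy, by rw [UH_mul_coe, hx1, hy1, eL_mul']⟩
      neg_mem' := by
        rintro c ⟨S, x, hx, hx1⟩
        refine ⟨-S - c * ct σ c, x⁻¹, H.inv_mem hx, ?_⟩
        apply UH_inv_eq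
        rw [hx1, eL_inv_aux] }
  have hX : ∀ g ∈ T, ∀ c ∈ X,
      ct σ ((g⁻¹ : Matrix.SpecialLinearGroup (Fin k) F) : Matrix (Fin k) (Fin k) F) * c ∈ X := by
    rintro g hg c ⟨S, x, hx, hx1⟩
    obtain ⟨c₀, S₀, y, hy, hy1⟩ := hd g hg
    refine ⟨ct σ ((g⁻¹ : Matrix.SpecialLinearGroup (Fin k) F) : Matrix (Fin k) (Fin k) F) *
          (S - c₀ * ct σ c + c * ct σ c₀) *
          ((g⁻¹ : Matrix.SpecialLinearGroup (Fin k) F) : Matrix (Fin k) (Fin k) F), y * x * y⁻¹,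
      H.mul_mem (H.mul_mem hy hx) (H.inv_mem hy), ?_⟩
    have h1 : y.1.1 * (y⁻¹).1.1 = 1 := by rw [← UH_mul_coe, mul_inv_cancel, UH_one_coe]
    rw [UH_mul_coe, UH_mul_coe, hx1, hy1, dF_mul_eL σ hσ, Matrix.mul_assoc, ← hy1, h1,
      Matrix.mul_one]
  obtain ⟨c, S, hc, x, hx, hx1⟩ := hne
  exact fun c' => hirr X hX ⟨c, ⟨S, x, hx, hx1⟩, hc⟩ c'

example (σ : F →+* F) (hσ : ∀ a, σ (σ a) = a) {k : ℕ}
    (H : Subgroup ↥(UH σ (Fin k) (Fin 1))) (T : Set (Matrix.SpecialLinearGroup (Fin k) F))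
    (hirr : IrrL σ T) (hd : LiftsL σ H T)
    (hne : ∃ (c : Matrix (Fin k) (Fin 1) F) (S : Matrix (Fin k) (Fin k) F), c ≠ 0 ∧
      ∃ x ∈ H, x.1.1 = eL σ c S) :
    ∀ c : Matrix (Fin k) (Fin 1) F, ∃ S : Matrix (Fin k) (Fin k) F, ∃ x ∈ H, x.1.1 = eL σ c S :=
  lower_all_c σ hσ H T hirr hd hne

end Cfsg.Agent.H11.SuR

#print axioms Cfsg.Agent.H11.SuR.lower_all_c
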