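import Mathlib
import Cfsg.Agent.H97.SuRDefs
import Cfsg.Agent.H11.SuRLift

/-!
# S2282, piece QU1: the `c`-parts of the upper unipotent elements of `H` fill `F^k`
-/

set_option autoImplicit false

namespace Cfsg.Agent.H11.SuR

open Matrix Cfsg.Agent.H45.U Cfsg.Agent.H97.SuR

variable {F : Type*} [Field F]

theorem dE_mul_eU (σ : F →+* F) {k : ℕ} (g : Matrix.SpecialLinearGroup (Fin k) F)
    (c₀ c : Matrix (Fin k) (Fin 1) F) (S₀ S : Matrix (Fin k) (Fin k) F) :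
    dE σ g c₀ S₀ * eU σ c S =
      eU σ ((g : Matrix (Fin k) (Fin k) F) * c)
        ((g : Matrix (Fin k) (Fin k) F) * (S - c₀ * ct σ c + c * ct σ c₀) *
          ct σ (g : Matrix (Fin k) (Fin k) F)) * dE σ g c₀ S₀ := by
  unfold dE
  have h := dU_mul_eU σ (g : Matrix (Fin k) (Fin k) F)
    ((g⁻¹ : Matrix.SpecialLinearGroup (Fin k) F) : Matrix (Fin k) (Fin k) F)
    (1 : Matrix (Fin 1) (Fin 1) F) 1 c (S - c₀ * ct σ c + c * ct σ c₀) (sl_inv_mul g) (by simp)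
    (by rw [ct_one])
  rw [Matrix.mul_one] at h
  rw [Matrix.mul_assoc, eU_mul, ← Matrix.mul_assoc (eU σ _ _), ← h, Matrix.mul_assoc, eU_mul]
  congr 2
  · abel
  · abel

theorem eU_inv_aux (σ : F →+* F) {k : ℕ} (c : Matrix (Fin k) (Fin 1) F)
    (S : Matrix (Fin k) (Fin k) F) :
    eU σ c S * eU σ (-c) (-S - c * ct σ c) = 1 := by
  rw [eU_mul, ct_neg]
  have e1 : c + -c = 0 := by abel
  have e2 : S + (-S - c * ct σ c) - c * -ct σ c = 0 := by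
    rw [Matrix.mul_neg]; abel
  rw [e1, e2, eU_zero]

theorem upper_all_c (σ : F →+* F) (hσ : ∀ a, σ (σ a) = a) {k : ℕ}
    (H : Subgroup ↥(UH σ (Fin k) (Fin 1))) (T : Set (Matrix.SpecialLinearGroup (Fin k) F))
    (hirr : IrrU T) (hd : LiftsU σ H T)
    (hne : ∃ (c : Matrix (Fin k) (Fin 1) F) (S : Matrix (Fin k) (Fin k) F), c ≠ 0 ∧
      ∃ x ∈ H, x.1.1 = eU σ c S) :
    ∀ c : Matrix (Fin k) (Fin 1) F, ∃ S : Matrix (Fin k) (Fin k) F, ∃ x ∈ H, x.1.1 = eU σ c S := by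
  let X : AddSubgroup (Matrix (Fin k) (Fin 1) F) :=
    { carrier := {c | ∃ S : Matrix (Fin k) (Fin k) F, ∃ x ∈ H, x.1.1 = eU σ c S}
      zero_mem' := ⟨0, 1, H.one_mem, by rw [UH_one_coe, eU_zero]⟩
      add_mem' := by
        rintro c c' ⟨S, x, hx, hx1⟩ ⟨S', y, hy, hy1⟩
        exact ⟨_, x * y, H.mul_mem hx hy, by rw [UH_mul_coe, hx1, hy1, eU_mul]⟩
      neg_mem' := by
        rintro c ⟨S, x, hx, hx1⟩
        refine ⟨-S - c * ct σ c, x⁻¹, H.inv_mem hx, ?_⟩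
        apply UH_inv_eq
        rw [hx1, eU_inv_aux] }
  have hX : ∀ g ∈ T, ∀ c ∈ X, (g : Matrix (Fin k) (Fin k) F) * c ∈ X := by
    rintro g hg c ⟨S, x, hx, hx1⟩
    obtain ⟨c₀, S₀, y, hy, hy1⟩ := hd g hg
    refine ⟨(g : Matrix (Fin k) (Fin k) F) * (S - c₀ * ct σ c + c * ct σ c₀) *
      ct σ (g : Matrix (Fin k) (Fin k) F), y * x * y⁻¹,
      H.mul_mem (H.mul_mem hy hx) (H.inv_mem hy), ?_⟩
    have h1 : y.1.1 * (y⁻¹).1.1 = 1 := by rw [← UH_mul_coe, mul_inv_cancel, UH_one_coe]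
    rw [UH_mul_coe, UH_mul_coe, hx1, hy1, dE_mul_eU, Matrix.mul_assoc, ← hy1, h1, Matrix.mul_one]
  obtain ⟨c, S, hc, x, hx, hx1⟩ := hne
  exact fun c' => hirr X hX ⟨c, ⟨S, x, hx, hx1⟩, hc⟩ c'

example (σ : F →+* F) (hσ : ∀ a, σ (σ a) = a) {k : ℕ}
    (H : Subgroup ↥(UH σ (Fin k) (Fin 1))) (T : Set (Matrix.SpecialLinearGroup (Fin k) F))
    (hirr : IrrU T) (hd : LiftsU σ H T)
    (hne : ∃ (c : Matrix (Fin k) (Fin 1) F) (S : Matrix (Fin k) (Fin k) F), c ≠ 0 ∧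
      ∃ x ∈ H, x.1.1 = eU σ c S) :
    ∀ c : Matrix (Fin k) (Fin 1) F, ∃ S : Matrix (Fin k) (Fin k) F, ∃ x ∈ H, x.1.1 = eU σ c S :=
  upper_all_c σ hσ H T hirr hd hne

end Cfsg.Agent.H11.SuR

#print axioms Cfsg.Agent.H11.SuR.upper_all_c
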