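import Mathlib
import Cfsg.Agent.H78.SvDefs
import Cfsg.Agent.H11.SvHESS

/-!
helper11: S2425-CHAIN (`chain_count`): the alternating sum of the numbers of `T`-stable flags of
all types is `(-1)^n` times the Moebius number (via chains, Philip Hall) of the lattice of
`T`-stable subspaces.

A flag of type `S` is encoded by its set of members, a chain `C` avoiding `⊥`; the type is read
off from the dimensions of the members.
-/

set_option autoImplicit false
set_option linter.unusedSectionVars false
set_option linter.unusedVariables false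

namespace Cfsg.Agent.H11.Sv

open Cfsg.Agent.H78.Sv
open scoped MatrixGroups

section chain

variable {F : Type*} [Field F] {n : ℕ} (T : Module.End F (Fin n → F))

/-- The dimension of an invariant subspace. -/
noncomputable def rk (w : ↥(Module.End.invtSubmodule T)) : ℕ := Module.finrank F ↥w.1

theorem rk_le (w : ↥(Module.End.invtSubmodule T)) : rk T w ≤ n := by
  have h := Submodule.finrank_le w.1
  rw [Module.finrank_fin_fun] at h
  exact h

theorem rk_mono {w w' : ↥(Module.End.invtSubmodule T)} (h : w ≤ w') : rk T w ≤ rk T w' :=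
  Submodule.finrank_mono h

theorem eq_of_le_of_rk_eq {w w' : ↥(Module.End.invtSubmodule T)} (h : w ≤ w')
    (hr : rk T w = rk T w') : w = w' :=
  Subtype.ext (Submodule.eq_of_le_of_finrank_eq h hr)

theorem rk_bot : rk T ⊥ = 0 := finrank_bot F (Fin n → F)

theorem rk_top : rk T ⊤ = n := by
  have h : Module.finrank F ↥(⊤ : Submodule F (Fin n → F)) = n := by
    rw [finrank_top, Module.finrank_fin_fun]
  exact h

theorem rk_eq_zero_iff (w : ↥(Module.End.invtSubmodule T)) : rk T w = 0 ↔ w = ⊥ := by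
  constructor
  · intro h
    apply Subtype.ext
    exact Submodule.finrank_eq_zero.mp h
  · intro h; rw [h, rk_bot]

theorem rk_eq_iff_top (w : ↥(Module.End.invtSubmodule T)) : rk T w = n ↔ w = ⊤ := by
  constructor
  · intro h; exact eq_of_le_of_rk_eq T le_top (by rw [h, rk_top])
  · intro h; rw [h, rk_top]

open Classical in
/-- The type of a set of invariant subspaces: the set of the dimensions minus one. -/
noncomputable def typ' (C : Finset ↥(Module.End.invtSubmodule T)) : Finset (Fin n) :=
  Finset.univ.filter (fun i : Fin n => ∃ w ∈ C, rk T w = i.val + 1)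

/-- Chains avoiding `⊥`. -/
def GoodC (C : Finset ↥(Module.End.invtSubmodule T)) : Prop :=
  IsChain (· ≤ ·) (C : Set ↥(Module.End.invtSubmodule T)) ∧ ⊥ ∉ C

theorem chain_eq_of_rk {C : Finset ↥(Module.End.invtSubmodule T)}
    (hC : IsChain (· ≤ ·) (C : Set ↥(Module.End.invtSubmodule T)))
    {w w' : ↥(Module.End.invtSubmodule T)} (hw : w ∈ C) (hw' : w' ∈ C)
    (hr : rk T w = rk T w') : w = w' := by
  rcases hC.total (Finset.mem_coe.mpr hw) (Finset.mem_coe.mpr hw') with h | h
  · exact eq_of_le_of_rk_eq T h hr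
  · exact (eq_of_le_of_rk_eq T h hr.symm).symm

theorem card_typ (hn : 0 < n) (C : Finset ↥(Module.End.invtSubmodule T)) (hC : GoodC T C) :
    (typ' T C).card = C.card := by
  classical
  symm
  apply Finset.card_nbij (fun w => (⟨rk T w - 1, by have := rk_le T w; omega⟩ : Fin n))
  · intro w hw
    have hw' : w ∈ C := hw
    have h1 : rk T w ≠ 0 := fun h => hC.2 (by rw [← (rk_eq_zero_iff T w).mp h]; exact hw')
    unfold typ'
    rw [Finset.coe_filter]
    refine ⟨Finset.mem_univ _, w, hw', ?_⟩
    show rk T w = rk T w - 1 + 1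
    omega
  · intro w hw w' hw' h
    have hw1 : w ∈ C := hw
    have hw1' : w' ∈ C := hw'
    have h1 : rk T w ≠ 0 := fun h => hC.2 (by rw [← (rk_eq_zero_iff T w).mp h]; exact hw1)
    have h1' : rk T w' ≠ 0 := fun h => hC.2 (by rw [← (rk_eq_zero_iff T w').mp h]; exact hw1')
    have h2 : rk T w - 1 = rk T w' - 1 := congrArg Fin.val h
    exact chain_eq_of_rk T hC.1 hw1 hw1' (by omega)
  · intro i hi
    have hi' : i ∈ typ' T C := hi
    unfold typ' at hi'
    obtain ⟨-, w, hw, hr⟩ := Finset.mem_filter.mp hi'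
    refine ⟨w, hw, ?_⟩
    apply Fin.ext
    show rk T w - 1 = i.val
    omega

open Classical in
theorem flag_chain (S : Finset (Fin n)) (W : Flags T S) :
    IsChain (· ≤ ·)
      ((Finset.univ.image W.1 : Finset ↥(Module.End.invtSubmodule T)) :
        Set ↥(Module.End.invtSubmodule T)) := by
  intro a ha b hb _
  rw [Finset.mem_coe, Finset.mem_image] at ha hb
  obtain ⟨s, -, rfl⟩ := ha
  obtain ⟨s', -, rfl⟩ := hb
  rcases le_total s s' with h | h
  · exact Or.inl (W.2.2 h)
  · exact Or.inr (W.2.2 h)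

open Classical in
theorem flag_typ (S : Finset (Fin n)) (W : Flags T S) :
    typ' T (Finset.univ.image W.1) = S := by
  ext i
  unfold typ'
  rw [Finset.mem_filter]
  constructor
  · rintro ⟨-, w, hw, hr⟩
    obtain ⟨s, -, rfl⟩ := Finset.mem_image.mp hw
    have h1 : rk T (W.1 s) = s.1.val + 1 := W.2.1 s
    have h2 : s.1 = i := Fin.ext (by omega)
    rw [← h2]; exact s.2
  · intro hi
    exact ⟨Finset.mem_univ _, W.1 ⟨i, hi⟩, Finset.mem_image_of_mem _ (Finset.mem_univ _),
      W.2.1 ⟨i, hi⟩⟩

open Classical in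
theorem flag_nobot (S : Finset (Fin n)) (W : Flags T S) :
    (⊥ : ↥(Module.End.invtSubmodule T)) ∉ Finset.univ.image W.1 := by
  intro h
  obtain ⟨s, -, hs⟩ := Finset.mem_image.mp h
  have h1 : rk T (W.1 s) = s.1.val + 1 := W.2.1 s
  rw [hs, rk_bot] at h1
  omega

open Classical in
/-- The number of flags of type `S` is the number of good chains of type `S`. -/
theorem card_flags [Fintype ↥(Module.End.invtSubmodule T)] (hn : 0 < n) (S : Finset (Fin n)) :
    Nat.card (Flags T S) =
      (Finset.univ.filter (fun C : Finset ↥(Module.End.invtSubmodule T) =>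
        GoodC T C ∧ typ' T C = S)).card := by
  rw [← Fintype.card_subtype, ← Nat.card_eq_fintype_card]
  apply Nat.card_congr
  refine Equiv.ofBijective
    (fun W => ⟨Finset.univ.image W.1, ⟨flag_chain T S W, flag_nobot T S W⟩, flag_typ T S W⟩) ⟨?_, ?_⟩
  · intro W W' h
    have h1 : Finset.univ.image W.1 = Finset.univ.image W'.1 := congrArg Subtype.val h
    apply Subtype.ext
    funext s
    have h2 : W.1 s ∈ Finset.univ.image W'.1 := by
      rw [← h1]; exact Finset.mem_image_of_mem _ (Finset.mem_univ _)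
    obtain ⟨s', -, hs'⟩ := Finset.mem_image.mp h2
    have h3 : rk T (W.1 s) = s.1.val + 1 := W.2.1 s
    have h4 : rk T (W'.1 s') = s'.1.val + 1 := W'.2.1 s'
    rw [hs'] at h4
    have h5 : s' = s := Subtype.ext (Fin.ext (by omega))
    rw [← hs', h5]
  · rintro ⟨C, ⟨hch, hbot⟩, htyp⟩
    have hex : ∀ s : ↥S, ∃ w, w ∈ C ∧ rk T w = s.1.val + 1 := by
      intro s
      have h1 : s.1 ∈ typ' T C := by rw [htyp]; exact s.2
      unfold typ' at h1
      obtain ⟨-, w, hw, hr⟩ := Finset.mem_filter.mp h1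
      exact ⟨w, hw, hr⟩
    choose f hfC hfr using hex
    have hmono : Monotone f := by
      intro s s' hss
      rcases hch.total (Finset.mem_coe.mpr (hfC s)) (Finset.mem_coe.mpr (hfC s')) with h | h
      · exact h
      · have h1 := rk_mono T h
        rw [hfr, hfr] at h1
        have h2 : s' ≤ s := by
          show s'.1 ≤ s.1
          rw [Fin.le_def]; omega
        have h3 : s = s' := le_antisymm hss h2
        rw [h3]
    refine ⟨⟨f, hfr, hmono⟩, ?_⟩
    apply Subtype.ext
    show Finset.univ.image f = C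
    ext w
    rw [Finset.mem_image]
    constructor
    · rintro ⟨s, -, rfl⟩
      exact hfC s
    · intro hw
      have h1 : rk T w ≠ 0 := fun h => hbot (by rw [← (rk_eq_zero_iff T w).mp h]; exact hw)
      have h2 := rk_le T w
      have hi : (⟨rk T w - 1, by omega⟩ : Fin n) ∈ S := by
        rw [← htyp]
        unfold typ'
        rw [Finset.mem_filter]
        refine ⟨Finset.mem_univ _, w, hw, ?_⟩
        show rk T w = rk T w - 1 + 1
        omega
      refine ⟨⟨_, hi⟩, Finset.mem_univ _, ?_⟩
      apply chain_eq_of_rk T hch (hfC _) hw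
      rw [hfr]
      show rk T w - 1 + 1 = rk T w
      omega

theorem top_mem_of_typ (hn : 0 < n) (C : Finset ↥(Module.End.invtSubmodule T))
    (htyp : typ' T C ∈ ends n) : ⊤ ∈ C := by
  classical
  have h1 : (⟨n - 1, by omega⟩ : Fin n) ∈ typ' T C :=
    (mem_ends _).mp htyp ⟨n - 1, by omega⟩ (by show n - 1 + 1 = n; omega)
  unfold typ' at h1
  obtain ⟨-, w, hw, hr⟩ := Finset.mem_filter.mp h1
  have h2 : rk T w = n := by
    rw [hr]; show n - 1 + 1 = n; omega
  rw [← (rk_eq_iff_top T w).mp h2]
  exact hw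

open Classical in
theorem sum_flags [Fintype ↥(Module.End.invtSubmodule T)] (hn : 0 < n) :
    ∑ S ∈ ends n, (-1 : ℤ) ^ (n - S.card) * (Nat.card (Flags T S) : ℤ) =
      ∑ C ∈ Finset.univ.filter (fun C : Finset ↥(Module.End.invtSubmodule T) =>
        GoodC T C ∧ typ' T C ∈ ends n), (-1 : ℤ) ^ (n - C.card) := by
  rw [← Finset.sum_fiberwise_of_maps_to (g := typ' T) (t := ends n)
    (fun C hC => (Finset.mem_filter.mp hC).2.2)]
  apply Finset.sum_congr rfl
  intro S hS
  have hset : (Finset.univ.filter (fun C : Finset ↥(Module.End.invtSubmodule T) =>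
      GoodC T C ∧ typ' T C ∈ ends n)).filter (fun C => typ' T C = S) =
      Finset.univ.filter (fun C : Finset ↥(Module.End.invtSubmodule T) =>
        GoodC T C ∧ typ' T C = S) := by
    ext C
    simp only [Finset.mem_filter, Finset.mem_univ, true_and]
    constructor
    · rintro ⟨⟨h1, -⟩, h2⟩; exact ⟨h1, h2⟩
    · rintro ⟨h1, h2⟩; exact ⟨⟨h1, by rw [h2]; exact hS⟩, h2⟩
  rw [hset, card_flags T hn S]
  have hconst : ∀ C ∈ Finset.univ.filter (fun C : Finset ↥(Module.End.invtSubmodule T) =>
      GoodC T C ∧ typ' T C = S), (-1 : ℤ) ^ (n - C.card) = (-1 : ℤ) ^ (n - S.card) := by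
    intro C hC
    obtain ⟨-, hg, ht⟩ := Finset.mem_filter.mp hC
    rw [← card_typ T hn C hg, ht]
  rw [Finset.sum_congr rfl hconst, Finset.sum_const, nsmul_eq_mul, mul_comm]

open Classical in
theorem sum_good_eq [Fintype ↥(Module.End.invtSubmodule T)] (hn : 0 < n) :
    ∑ C ∈ Finset.univ.filter (fun C : Finset ↥(Module.End.invtSubmodule T) =>
        GoodC T C ∧ typ' T C ∈ ends n), (-1 : ℤ) ^ (n - C.card) =
      ∑ C ∈ Finset.univ.filter (fun C : Finset ↥(Module.End.invtSubmodule T) =>
        IsChain (· ≤ ·) (C : Set ↥(Module.End.invtSubmodule T)) ∧ ∀ w ∈ C, ⊥ < w ∧ w < ⊤),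
        (-1 : ℤ) ^ (n - (C.card + 1)) := by
  have htb : (⊥ : ↥(Module.End.invtSubmodule T)) ≠ ⊤ := by
    intro h
    have h1 := rk_bot T
    rw [h, rk_top] at h1
    omega
  apply Finset.sum_nbij' (fun C => C.erase ⊤) (fun C => insert ⊤ C)
  · intro C hC
    obtain ⟨-, hg, ht⟩ := Finset.mem_filter.mp hC
    rw [Finset.mem_filter]
    refine ⟨Finset.mem_univ _, ?_, ?_⟩
    · exact hg.1.mono (Finset.coe_subset.mpr (Finset.erase_subset _ _))
    · intro w hw
      obtain ⟨hw1, hw2⟩ := Finset.mem_erase.mp hw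
      refine ⟨bot_lt_iff_ne_bot.mpr ?_, lt_top_iff_ne_top.mpr hw1⟩
      intro h
      exact hg.2 (by rw [← h]; exact hw2)
  · intro C hC
    obtain ⟨-, hch, hw⟩ := Finset.mem_filter.mp hC
    rw [Finset.mem_filter]
    refine ⟨Finset.mem_univ _, ⟨?_, ?_⟩, ?_⟩
    · rw [Finset.coe_insert]
      exact hch.insert (fun b _ _ => Or.inr le_top)
    · intro h
      rcases Finset.mem_insert.mp h with h | h
      · exact htb h
      · exact lt_irrefl _ (hw ⊥ h).1
    · rw [mem_ends]
      intro i hi
      unfold typ'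
      rw [Finset.mem_filter]
      exact ⟨Finset.mem_univ _, ⊤, Finset.mem_insert_self _ _, by rw [rk_top, hi]⟩
  · intro C hC
    obtain ⟨-, hg, ht⟩ := Finset.mem_filter.mp hC
    exact Finset.insert_erase (top_mem_of_typ T hn C ht)
  · intro C hC
    obtain ⟨-, hch, hw⟩ := Finset.mem_filter.mp hC
    exact Finset.erase_insert (fun h => lt_irrefl _ (hw ⊤ h).2)
  · intro C hC
    obtain ⟨-, hg, ht⟩ := Finset.mem_filter.mp hC
    rw [Finset.card_erase_add_one (top_mem_of_typ T hn C ht)]

theorem neg_one_pow_sub (n c : ℕ) (h : c + 1 ≤ n) :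
    (-1 : ℤ) ^ (n - (c + 1)) = (-1) ^ n * -((-1) ^ c) := by
  obtain ⟨a, rfl⟩ : ∃ a, n = a + (c + 1) := ⟨n - (c + 1), by omega⟩
  rw [Nat.add_sub_cancel, pow_add, pow_succ]
  have h1 : ((-1 : ℤ) ^ c) * ((-1 : ℤ) ^ c) = 1 := by
    rw [← pow_add, ← two_mul, pow_mul]
    norm_num
  calc (-1 : ℤ) ^ a = (-1) ^ a * (((-1 : ℤ) ^ c) * ((-1 : ℤ) ^ c)) := by rw [h1, mul_one]
    _ = (-1) ^ a * ((-1) ^ c * -1) * -(-1) ^ c := by ring

end chain

theorem chain_count {F : Type*} [Field F] [Finite F] {n : ℕ} (T : Module.End F (Fin n → F))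
    [Fintype ↥(Module.End.invtSubmodule T)] :
    ∑ S ∈ ends n, (-1 : ℤ) ^ (n - S.card) * (Nat.card (Flags T S) : ℤ) =
      (-1) ^ n * moeb (⊤ : ↥(Module.End.invtSubmodule T)) := by
  classical
  rcases Nat.eq_zero_or_pos n with rfl | hn
  · have he : ends 0 = {∅} := by
      ext S
      rw [mem_ends, Finset.mem_singleton]
      exact ⟨fun _ => Finset.eq_empty_of_isEmpty S, fun _ i => i.elim0⟩
    have htop : (⊤ : ↥(Module.End.invtSubmodule T)) = ⊥ := (rk_eq_zero_iff T ⊤).mp (rk_top T)
    have hflag : Nat.card (Flags T (∅ : Finset (Fin 0))) = 1 := by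
      rw [Nat.card_eq_one_iff_unique]
      constructor
      · constructor
        intro W W'
        apply Subtype.ext
        funext s
        exact absurd s.2 (Finset.notMem_empty _)
      · exact ⟨⟨fun _ => ⊥, fun s => absurd s.2 (Finset.notMem_empty _),
          fun a b _ => le_refl _⟩⟩
    rw [he, Finset.sum_singleton, hflag]
    unfold moeb
    rw [if_pos htop]
    simp
  · rw [sum_flags T hn, sum_good_eq T hn]
    have htop : (⊤ : ↥(Module.End.invtSubmodule T)) ≠ ⊥ := by
      intro h
      have h1 := rk_top T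
      rw [h, rk_bot] at h1
      omega
    unfold moeb
    rw [if_neg htop]
    unfold chainSum
    rw [Finset.sum_filter, ← Finset.sum_neg_distrib, Finset.mul_sum]
    apply Finset.sum_congr rfl
    intro C _
    by_cases hP : IsChain (· ≤ ·) (C : Set ↥(Module.End.invtSubmodule T)) ∧
        ∀ w ∈ C, ⊥ < w ∧ w < ⊤
    swap
    · rw [if_neg hP, if_neg hP, neg_zero, mul_zero]
    rw [if_pos hP, if_pos hP]
    obtain ⟨hch, hw⟩ := hP
    have hgood : GoodC T (insert ⊤ C) := by
      refine ⟨?_, ?_⟩
      · rw [Finset.coe_insert]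
        exact hch.insert (fun b _ _ => Or.inr le_top)
      · intro h
        rcases Finset.mem_insert.mp h with h | h
        · exact htop h.symm
        · exact lt_irrefl _ (hw ⊥ h).1
    have hcard : C.card + 1 ≤ n := by
      have h1 := card_typ T hn _ hgood
      rw [Finset.card_insert_of_notMem (fun h => lt_irrefl _ (hw ⊤ h).2)] at h1
      have h2 := Finset.card_le_univ (typ' T (insert ⊤ C))
      rw [Fintype.card_fin] at h2
      omega
    rw [neg_one_pow_sub n C.card hcard]

example {F : Type*} [Field F] [Finite F] {n : ℕ} (T : Module.End F (Fin n → F))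
    [Fintype ↥(Module.End.invtSubmodule T)] :
    ∑ S ∈ ends n, (-1 : ℤ) ^ (n - S.card) * (Nat.card (Flags T S) : ℤ) =
      (-1) ^ n * moeb (⊤ : ↥(Module.End.invtSubmodule T)) := chain_count T

end Cfsg.Agent.H11.Sv

#print axioms Cfsg.Agent.H11.Sv.chain_count
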