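import Mathlib
import Cfsg.Agent.H64.TmDefs

/-!
# S3701 (helper64's TM project), piece TM-TI: `S₁` is a TI-set with normalizer `H`
-/

set_option autoImplicit false

namespace Cfsg.Agent.H11.Tm

open Cfsg Subgroup Cfsg.Agent.H64.Tm

universe u

theorem ti (hS : StS1.{u}) (hT : StTIT.{u}) : StTI.{u} := by
  intro G _ _ H T a b c x y cfg s hs g hg
  obtain ⟨-, -, -, hsq, -⟩ := hS G H T a b c x y cfg
  obtain ⟨h1, h2⟩ := hsq s hs
  obtain ⟨h3, -⟩ := hsq _ hg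
  refine hT G H T a b c x y cfg (s * s) h1 h2 g ?_
  have e : g * (s * s) * g⁻¹ = (g * s * g⁻¹) * (g * s * g⁻¹) := by group
  rw [e]
  exact h3

example (hS : StS1.{u}) (hT : StTIT.{u}) : Cfsg.Agent.H64.Tm.StTI.{u} := ti hS hT

end Cfsg.Agent.H11.Tm

#print axioms Cfsg.Agent.H11.Tm.ti
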