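import Mathlib
import Cfsg.Agent.H64.TmDefs

/-!
# S3701 (helper64's TM project), piece TM-TIT: `T` is a TI-subgroup with normalizer `H`
-/

set_option autoImplicit false

namespace Cfsg.Agent.H11.Tm

open Cfsg Subgroup Cfsg.Agent.H64.Tm

universe u

theorem tit : StTIT.{u} := by
  intro G _ _ H T a b c x y cfg t ht ht1 g hg
  -- `T` is abelian
  have hTa : ∀ s ∈ T, Commute s a := by
    intro s hs
    obtain ⟨i, j, k, rfl⟩ := cfg.Telts s hs
    exact (((Commute.refl a).pow_left i).mul_left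
      ((show Commute b a from cfg.ab.symm).pow_left j)).mul_left
      ((show Commute c a from cfg.ac.symm).pow_left k)
  have hTb : ∀ s ∈ T, Commute s b := by
    intro s hs
    obtain ⟨i, j, k, rfl⟩ := cfg.Telts s hs
    exact (((show Commute a b from cfg.ab).pow_left i).mul_left
      ((Commute.refl b).pow_left j)).mul_left
      ((show Commute c b from cfg.bc.symm).pow_left k)
  have hTc : ∀ s ∈ T, Commute s c := by
    intro s hs
    obtain ⟨i, j, k, rfl⟩ := cfg.Telts s hs
    exact (((show Commute a c from cfg.ac).pow_left i).mul_left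
      ((show Commute b c from cfg.bc).pow_left j)).mul_left
      ((Commute.refl c).pow_left k)
  have hTT : ∀ s ∈ T, ∀ s' ∈ T, s * s' = s' * s := by
    intro s hs s' hs'
    obtain ⟨i, j, k, rfl⟩ := cfg.Telts s' hs'
    exact ((((hTa s hs).pow_right i).mul_right ((hTb s hs).pow_right j)).mul_right
      ((hTc s hs).pow_right k)).eq
  -- elements of `H` of order dividing 27 lie in `T`
  have hnorm : ∀ e ∈ H, ∀ s ∈ T, e * s * e⁻¹ ∈ T := by
    intro e he s hs
    have he' : e ∈ normalizer (T : Set G) := by rw [cfg.norm]; exact he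
    exact (mem_normalizer_iff.mp he' s).mp hs
  have hsq : ∀ h : G, h * h ∈ T → h ^ 27 = 1 → h ∈ T := by
    intro h hh h27
    have e : h = (h * h) ^ 14 := by
      rw [← pow_two, ← pow_mul]
      have e2 : h ^ (2 * 14) = h ^ 27 * h := by rw [← pow_succ]
      rw [e2, h27, one_mul]
    rw [e]
    exact T.pow_mem hh 14
  have hinv : ∀ e ∈ H, e * e = 1 → ∀ t0 ∈ T, (t0 * e) * (t0 * e) ∈ T := by
    intro e he he2 t0 ht0
    have e1 : (t0 * e) * (t0 * e) = t0 * (e * t0 * e⁻¹) * (e * e) := by group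
    rw [e1, he2, mul_one]
    exact T.mul_mem ht0 (hnorm e he t0 ht0)
  have hxy2 : (x * y) * (x * y) = 1 := by
    have e : (x * y) * (x * y) = x * (y * x) * y := by group
    rw [e, ← cfg.xy]
    have e2 : x * (x * y) * y = (x * x) * (y * y) := by group
    rw [e2, cfg.x2, cfg.y2, one_mul]
  have h27 : ∀ h ∈ H, h ^ 27 = 1 → h ∈ T := by
    intro h hh hp
    obtain ⟨t0, ht0, hcase⟩ := cfg.Helts h hh
    rcases hcase with rfl | rfl | rfl | rfl
    · exact ht0
    · exact hsq _ (hinv x cfg.xH cfg.x2 t0 ht0) hp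
    · exact hsq _ (hinv y cfg.yH cfg.y2 t0 ht0) hp
    · exact hsq _ (hinv (x * y) (H.mul_mem cfg.xH cfg.yH) hxy2 t0 ht0) hp
  -- conjugation by `g` maps `T` into `T`
  have ht'1 : g * t * g⁻¹ ≠ 1 := by
    intro h
    apply ht1
    have e : t = g⁻¹ * (g * t * g⁻¹) * g := by group
    rw [e, h]
    group
  have hconj : ∀ s ∈ T, g * s * g⁻¹ ∈ T := by
    intro s hs
    apply h27
    · apply cfg.loc (g * t * g⁻¹) hg ht'1
      rw [mem_centralizer_iff]
      intro z hz
      rw [Set.mem_singleton_iff.mp hz]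
      have e1 : g * t * g⁻¹ * (g * s * g⁻¹) = g * (t * s) * g⁻¹ := by group
      have e2 : g * s * g⁻¹ * (g * t * g⁻¹) = g * (s * t) * g⁻¹ := by group
      rw [e1, e2, hTT t ht s hs]
    · have h1 : (⟨s, hs⟩ : T) ^ Nat.card T = 1 := pow_card_eq_one'
      have h2 : s ^ 27 = 1 := by
        rw [cfg.cardT] at h1
        exact congrArg Subtype.val h1
      have e : (g * s * g⁻¹) ^ 27 = g * s ^ 27 * g⁻¹ := by
        rw [conj_pow]
      rw [e, h2]
      group
  -- `g` normalizes `T`
  have hgn : g ∈ normalizer (T : Set G) := by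
    rw [mem_normalizer_iff]
    intro n
    refine ⟨hconj n, fun hn => ?_⟩
    let cj : ↥T → ↥T := fun s => ⟨g * s.1 * g⁻¹, hconj s.1 s.2⟩
    have hcj : Function.Injective cj := by
      intro s s' hss
      have h1 : g * s.1 * g⁻¹ = g * s'.1 * g⁻¹ := congrArg Subtype.val hss
      apply Subtype.ext
      exact mul_left_cancel (mul_right_cancel h1)
    obtain ⟨s, hs⟩ := (Finite.injective_iff_surjective.mp hcj) ⟨g * n * g⁻¹, hn⟩
    have h1 : g * s.1 * g⁻¹ = g * n * g⁻¹ := congrArg Subtype.val hs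
    have h2 : s.1 = n := mul_left_cancel (mul_right_cancel h1)
    rw [← h2]
    exact s.2
  rw [cfg.norm] at hgn
  exact hgn

example : Cfsg.Agent.H64.Tm.StTIT.{u} := tit

end Cfsg.Agent.H11.Tm

#print axioms Cfsg.Agent.H11.Tm.tit
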