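import Mathlib
import Cfsg.Agent.H77.TmDefs2
import Cfsg.Agent.H60.OtCommon
import Cfsg.Agent.H86.OtHalf

/-!
# S5987-TYPEU (helper77's project): the type of the non-fixed part of an isometry of odd prime
order `r ≠ p` of a quadratic space, `i` even: `range (T - 1)` is an orthogonal sum of `A` blocks of
minus type, hence of type `(-1) ^ A`.
-/

set_option autoImplicit false

namespace Cfsg.Agent.H11.Tm

open Cfsg.Agent.H45 Cfsg.Agent.H42.Spd Cfsg.Agent.H42.Spn Cfsg.Agent.H42.Ti Cfsg.Agent.H77.Tq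
  Cfsg.Agent.H77.Tm Module Polynomial

universe u v

section Aux

variable {F : Type u} [Field F] {V : Type v} [AddCommGroup V] [Module F V]

theorem ts_polar (Q : QuadraticForm F V) (L : Submodule F V) (hL : TS Q L) :
    ∀ x ∈ L, ∀ y ∈ L, QuadraticMap.polar (⇑Q) x y = 0 := by
  intro x hx y hy
  unfold QuadraticMap.polar
  rw [hL _ (L.add_mem hx hy), hL x hx, hL y hy]
  simp

theorem nd_sup (Q : QuadraticForm F V) (S E : Submodule F V)
    (hS : S ⊓ perp (pol Q) S = ⊥) (hE : E ⊓ perp (pol Q) E = ⊥)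
    (hSE : ∀ x ∈ S, ∀ y ∈ E, QuadraticMap.polar (⇑Q) x y = 0) :
    (S ⊔ E) ⊓ perp (pol Q) (S ⊔ E) = ⊥ ∧ S ⊓ E = ⊥ := by
  refine ⟨?_, ?_⟩
  · rw [eq_bot_iff]
    intro x hx
    rw [Submodule.mem_bot]
    obtain ⟨hx1, hx2⟩ := hx
    obtain ⟨s, hs, e, he, rfl⟩ := Submodule.mem_sup.mp hx1
    have hs0 : s = 0 := by
      have hmem : s ∈ S ⊓ perp (pol Q) S := by
        refine ⟨hs, ?_⟩
        refine (mem_perp (pol Q) S s).mpr ?_
        intro s' hs'
        have h1 := (mem_perp (pol Q) _ _).mp hx2 s' (Submodule.mem_sup_left hs')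
        have h2 : QuadraticMap.polar (⇑Q) s' e = 0 := hSE s' hs' e he
        have h3 : QuadraticMap.polar (⇑Q) s' (s + e) = 0 := h1
        rw [QuadraticMap.polar_add_right, h2, add_zero] at h3
        exact h3
      rw [hS, Submodule.mem_bot] at hmem
      exact hmem
    have he0 : e = 0 := by
      have hmem : e ∈ E ⊓ perp (pol Q) E := by
        refine ⟨he, ?_⟩
        refine (mem_perp (pol Q) E e).mpr ?_
        intro e' he'
        have h1 := (mem_perp (pol Q) _ _).mp hx2 e' (Submodule.mem_sup_right he')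
        have h2 : QuadraticMap.polar (⇑Q) e' s = 0 := by
          rw [QuadraticMap.polar_comm]
          exact hSE s hs e' he'
        have h3 : QuadraticMap.polar (⇑Q) e' (s + e) = 0 := h1
        rw [QuadraticMap.polar_add_right, h2, zero_add] at h3
        exact h3
      rw [hE, Submodule.mem_bot] at hmem
      exact hmem
    rw [hs0, he0, add_zero]
  · rw [eq_bot_iff]
    intro x hx
    rw [Submodule.mem_bot]
    have hmem : x ∈ S ⊓ perp (pol Q) S := by
      refine ⟨hx.1, ?_⟩
      refine (mem_perp (pol Q) S x).mpr ?_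
      intro s' hs'
      exact hSE s' hs' x hx.2
    rw [hS, Submodule.mem_bot] at hmem
    exact hmem

end Aux

theorem typeU (hT : StQTrick.{u, v}) (hDec : Cfsg.Agent.H42.Spd.StDecomp.{u, v})
    (hBM : StBlockMinus.{u, v}) (hMS : StMinusSum.{u, v}) (hCP : StComplPlus.{u, v}) :
    StTypeU.{u, v} := by
  intro F _ _ V _ _ _ r Q T hC hev A hRA
  obtain ⟨V', _, _, _, B', T', ι, hctx, hιinj, hιT, hrange, hker', hUK, hTI, hOrth⟩ :=
    hT F V r Q T hC
  have hev' := hev
  obtain ⟨e, he⟩ := hev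
  have he2 : ii F r = 2 * e := by omega
  have hipos : 0 < ii F r := Cfsg.Agent.H60.Ot.ot_ii_pos r hC.prime hC.cast_ne
  have hepos : 0 < e := by omega
  have hcc : cc F r = ii F r := by
    unfold cc ii
    exact if_pos hev'
  have hkk' : kk T' ⊤ = 0 := by
    unfold kk
    rw [top_inf_eq, hker', finrank_bot]
  have hRdim : Module.finrank F ↥(LinearMap.range (T - 1)) = Module.finrank F V' := by
    rw [← hrange]
    exact LinearMap.finrank_range_of_inj hιinj
  have hndtop : Nd B' T' ⊤ := by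
    refine ⟨?_, ?_⟩
    · rw [Module.End.mem_invtSubmodule]
      exact le_top
    · rw [eq_bot_iff]
      intro x hx
      rw [Submodule.mem_bot]
      apply hctx.good.nondeg
      intro y
      exact hctx.good.refl (hx.2 y Submodule.mem_top)
  have hfin : Module.finrank F ↥(⊤ : Submodule F V') = ii F r * A := by
    rw [finrank_top, ← hRdim, hRA]
  have hkcond : A * (ii F r % cc F r) ≤ kk T' ⊤ := by
    rw [hcc, Nat.mod_self, Nat.mul_zero]
    exact Nat.zero_le _
  obtain ⟨D, hD, hDperp, hDsup⟩ :=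
    hDec F V' r B' T' hctx (ii F r) A ⊤ hndtop hev' hfin hkcond
  have hB : ∀ x y : V, pol Q x y = QuadraticMap.polar (⇑Q) x y := fun x y => rfl
  have hsymm : ∀ x y : V, pol Q x y = pol Q y x := by
    intro x y
    rw [hB, hB, QuadraticMap.polar_comm]
  -- the blocks
  obtain ⟨E, hEj⟩ : ∃ E : Fin A → Submodule F V, ∀ j, E j = (D j).map ι :=
    ⟨fun j => (D j).map ι, fun j => rfl⟩
  have hEle : ∀ j, E j ≤ LinearMap.range (T - 1) := by
    intro j
    rw [hEj, ← hrange]
    exact LinearMap.map_le_range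
  have hEdim : ∀ j, Module.finrank F ↥(E j) = 2 * e := by
    intro j
    rw [hEj, ← he2, ← (hD j).2.2]
    exact (LinearEquiv.finrank_eq (Submodule.equivMapOfInjective ι hιinj (D j))).symm
  have hDinv : ∀ j, D j ∈ T'.invtSubmodule := fun j => (hD j).2.1.1
  have hEinv : ∀ j, ∀ x ∈ E j, T x ∈ E j := by
    intro j x hx
    rw [hEj] at hx
    obtain ⟨d, hd, rfl⟩ := hx
    have h1 : T' d ∈ D j :=
      (Module.End.mem_invtSubmodule_iff_forall_mem_of_mem T').mp (hDinv j) d hd
    rw [hEj, ← hιT]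
    exact Submodule.mem_map_of_mem h1
  have hEorth : ∀ j j', j ≠ j' → ∀ x ∈ E j, ∀ y ∈ E j',
      QuadraticMap.polar (⇑Q) x y = 0 := by
    intro j j' hjj' x hx y hy
    rw [hEj] at hx hy
    obtain ⟨d, hd, rfl⟩ := hx
    obtain ⟨d', hd', rfl⟩ := hy
    have h1 : ∀ w ∈ D j, B' w d' = 0 := fun w hw => hDperp j j' hjj' hd' w hw
    exact (hOrth (D j) (hDinv j) d').mp h1 d hd
  have hEnd : ∀ j, E j ⊓ perp (pol Q) (E j) = ⊥ := by
    intro j
    rw [eq_bot_iff]
    intro x hx
    rw [Submodule.mem_bot]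
    obtain ⟨hx1, hx2⟩ := hx
    rw [hEj] at hx1
    obtain ⟨d, hd, rfl⟩ := hx1
    have h1 : ∀ w ∈ D j, QuadraticMap.polar (⇑Q) (ι w) (ι d) = 0 := by
      intro w hw
      have hw' : ι w ∈ E j := by
        rw [hEj]
        exact Submodule.mem_map_of_mem hw
      exact (mem_perp (pol Q) _ _).mp hx2 (ι w) hw'
    have h2 : ∀ w ∈ D j, B' w d = 0 := (hOrth (D j) (hDinv j) d).mpr h1
    have h3 : d ∈ D j ⊓ perp B' (D j) := ⟨hd, h2⟩
    rw [(hD j).2.1.2, Submodule.mem_bot] at h3
    rw [h3, map_zero]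
  have hEminus : ∀ j, ∀ L : Submodule F V, L ≤ E j → TS Q L → Module.finrank F ↥L < e := by
    intro j L hLE hLTS
    have hCb : QCtx r (Q.comp (E j).subtype) (T.restrict (hEinv j)) := by
      refine ⟨hC.prime, hC.ne_two, hC.cast_ne, ?_, ?_, ?_⟩
      · intro x hx
        have h1 : (x : V) ∈ E j ⊓ perp (pol Q) (E j) := by
          refine ⟨x.2, ?_⟩
          refine (mem_perp (pol Q) _ _).mpr ?_
          intro y hy
          have h2 := hx ⟨y, hy⟩
          show QuadraticMap.polar (⇑Q) y (x : V) = 0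
          rw [QuadraticMap.polar_comm]
          exact h2
        rw [hEnd j, Submodule.mem_bot] at h1
        exact Subtype.ext h1
      · intro x
        show Q ((T.restrict (hEinv j) x : E j) : V) = Q (x : V)
        rw [LinearMap.coe_restrict_apply]
        exact hC.isom _
      · apply LinearMap.ext
        intro x
        apply Subtype.ext
        rw [Module.End.pow_restrict r (hEinv j), LinearMap.coe_restrict_apply, hC.pow]
        rfl
    have hTb : T.restrict (hEinv j) ≠ 1 := by
      intro h1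
      have h2 : D j ≤ LinearMap.ker (T' - 1) := by
        intro d hd
        rw [LinearMap.mem_ker, LinearMap.sub_apply, Module.End.one_apply, sub_eq_zero]
        apply hιinj
        rw [hιT]
        have hd' : ι d ∈ E j := by
          rw [hEj]
          exact Submodule.mem_map_of_mem hd
        have h3 := congrArg (fun f : Module.End F ↥(E j) => ((f ⟨ι d, hd'⟩ : E j) : V)) h1
        exact h3
      rw [hker', le_bot_iff] at h2
      have h4 := (hD j).2.2
      rw [h2, finrank_bot] at h4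
      omega
    have hfb : Module.finrank F ↥(E j) = ii F r := by rw [hEdim j, he2]
    have h5 := hBM F ↥(E j) r (Q.comp (E j).subtype) (T.restrict (hEinv j)) hCb hev' hfb hTb
      (L.comap (E j).subtype) (fun u hu => hLTS (u : V) hu)
    rw [(Submodule.comapSubtypeEquivOfLe hLE).finrank_eq] at h5
    omega
  -- partial sums
  obtain ⟨S, hSk⟩ : ∃ S : ℕ → Submodule F V,
      ∀ k, S k = ⨆ j : Fin A, ⨆ (_ : j.val < k), E j :=
    ⟨fun k => ⨆ j : Fin A, ⨆ (_ : j.val < k), E j, fun k => rfl⟩
  have hS0 : S 0 = ⊥ := by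
    rw [hSk]
    simp
  have hSsucc : ∀ k (hk : k < A), S (k + 1) = S k ⊔ E ⟨k, hk⟩ := by
    intro k hk
    rw [hSk, hSk]
    apply le_antisymm
    · refine iSup₂_le ?_
      intro j hj
      by_cases hjk : j.val < k
      · exact le_sup_of_le_left (le_iSup₂_of_le j hjk le_rfl)
      · have hjeq : j = ⟨k, hk⟩ := Fin.ext (by show j.val = k; omega)
        rw [hjeq]
        exact le_sup_right
    · refine sup_le ?_ ?_
      · refine iSup₂_le ?_
        intro j hj
        exact le_iSup₂_of_le j (by omega) le_rfl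
      · exact le_iSup₂_of_le ⟨k, hk⟩ (by show k < k + 1; omega) le_rfl
  have hSA : S A = LinearMap.range (T - 1) := by
    rw [hSk]
    have h1 : (⨆ j : Fin A, ⨆ (_ : j.val < A), E j) = ⨆ j : Fin A, E j := by
      apply iSup_congr
      intro j
      exact iSup_pos j.isLt
    rw [h1, ← hrange]
    have h2 : (⨆ j : Fin A, E j) = (⨆ j : Fin A, D j).map ι := by
      rw [Submodule.map_iSup]
      exact iSup_congr hEj
    rw [h2, hDsup, Submodule.map_top]
  have hSorth : ∀ k (j : Fin A), k ≤ j.val → ∀ x ∈ S k, ∀ y ∈ E j,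
      QuadraticMap.polar (⇑Q) x y = 0 := by
    intro k j hkj x hx y hy
    have h1 : S k ≤ perp (pol Q) (E j) := by
      rw [hSk]
      refine iSup₂_le ?_
      intro j' hj' z hz
      refine (mem_perp (pol Q) (E j) z).mpr ?_
      intro w hw
      have hne : j ≠ j' := by
        intro h
        rw [h] at hkj
        omega
      exact hEorth j j' hne w hw z hz
    have h2 := (mem_perp (pol Q) _ _).mp (h1 hx) y hy
    rw [QuadraticMap.polar_comm]
    exact h2
  have key : ∀ k, k ≤ A → (S k ⊓ perp (pol Q) (S k) = ⊥ ∧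
      Module.finrank F ↥(S k) = 2 * (e * k) ∧
      (Even k → ∃ L : Submodule F V, L ≤ S k ∧ TS Q L ∧ Module.finrank F ↥L = e * k) ∧
      (Odd k → ∀ L : Submodule F V, L ≤ S k → TS Q L → Module.finrank F ↥L < e * k)) := by
    intro k
    induction k with
    | zero =>
      intro _
      refine ⟨?_, ?_, ?_, ?_⟩
      · rw [hS0, bot_inf_eq]
      · rw [hS0, finrank_bot, Nat.mul_zero, Nat.mul_zero]
      · intro _
        refine ⟨⊥, bot_le, ?_, ?_⟩
        · intro u hu
          rw [(Submodule.mem_bot F).mp hu, map_zero]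
        · rw [finrank_bot, Nat.mul_zero]
      · intro h
        exact absurd h (by decide)
    | succ k ih =>
      intro hk
      have hkA : k < A := by omega
      obtain ⟨hnd, hdim, hEv, hOd⟩ := ih (by omega)
      obtain ⟨hnd', hdisj⟩ := nd_sup Q (S k) (E ⟨k, hkA⟩) hnd (hEnd _)
        (hSorth k ⟨k, hkA⟩ le_rfl)
      have hdim' : Module.finrank F ↥(S k ⊔ E ⟨k, hkA⟩) = 2 * (e * (k + 1)) := by
        have h1 := Submodule.finrank_sup_add_finrank_inf_eq (S k) (E ⟨k, hkA⟩)
        rw [hdisj, finrank_bot, add_zero, hdim, hEdim] at h1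
        rw [h1]
        ring
      rw [hSsucc k hkA]
      refine ⟨hnd', hdim', ?_, ?_⟩
      · intro hev1
        have hodd : Odd k := by
          rcases Nat.even_or_odd k with h | h
          · exact absurd hev1 (Nat.not_even_iff_odd.mpr (Even.add_one h))
          · exact h
        obtain ⟨M, hM, hMTS, hMdim⟩ := hMS F V Q (S k) (E ⟨k, hkA⟩) (e * k) e hnd (hEnd _)
          (hSorth k ⟨k, hkA⟩ le_rfl) hdim (hEdim _) (hOd hodd) (hEminus _)
        refine ⟨M, hM, hMTS, ?_⟩
        rw [hMdim]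
        ring
      · intro hodd1 L hL hLTS
        have heven : Even k := by
          rcases Nat.even_or_odd k with h | h
          · exact h
          · exact absurd hodd1 (Nat.not_odd_iff_even.mpr (Odd.add_one h))
        by_contra hcon
        have hhalf := Cfsg.Agent.H86.Ot.oHalf F V (pol Q) hsymm (S k ⊔ E ⟨k, hkA⟩) L hnd' hL
          (ts_polar Q L hLTS)
        have hLdim : 2 * Module.finrank F ↥L = Module.finrank F ↥(S k ⊔ E ⟨k, hkA⟩) := by
          rw [hdim'] at hhalf ⊢
          omega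
        obtain ⟨L0, hL0, hL0TS, hL0dim⟩ := hEv heven
        have hL0dim' : 2 * Module.finrank F ↥L0 = Module.finrank F ↥(S k) := by
          rw [hL0dim, hdim]
        have hsc : E ⟨k, hkA⟩ ⊔ S k = S k ⊔ E ⟨k, hkA⟩ := sup_comm _ _
        obtain ⟨N, hN, hNTS, hNdim⟩ := hCP F V Q (E ⟨k, hkA⟩) (S k) L0 L
          (fun c hc u hu => by
            rw [QuadraticMap.polar_comm]
            exact hSorth k ⟨k, hkA⟩ le_rfl u hu c hc)
          hnd hL0 hL0TS hL0dim' (by rw [hsc]; exact hL) hLTS (by rw [hsc]; exact hLdim)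
        have h1 := hEminus _ N hN hNTS
        rw [hEdim] at hNdim
        omega
  obtain ⟨-, hdimA, hEvA, hOdA⟩ := key A le_rfl
  rw [hSA] at hdimA hEvA hOdA
  refine ⟨?_, ?_⟩
  · intro hAev
    obtain ⟨L, hL, hLTS, hLdim⟩ := hEvA hAev
    refine ⟨L, hL, hLTS, ?_⟩
    rw [hLdim, hdimA]
  · intro hAodd L hL hLTS
    have h1 := hOdA hAodd L hL hLTS
    rw [hdimA]
    omega

example : StQTrick.{u, v} → Cfsg.Agent.H42.Spd.StDecomp.{u, v} → StBlockMinus.{u, v} →
    StMinusSum.{u, v} → StComplPlus.{u, v} → Cfsg.Agent.H77.Tm.StTypeU.{u, v} := typeU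

end Cfsg.Agent.H11.Tm

#print axioms Cfsg.Agent.H11.Tm.typeU
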