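import Mathlib
import Cfsg.Agent.H64.TtDefs

/-!
# S3385 (helper64's project), pieces TT-ARCTWO and the conjugation lemma for stabilizers
-/

set_option autoImplicit false

namespace Cfsg.Agent.H11.Tt

open MulAction Cfsg.Agent.H64.Tt

universe u v

/-- Conjugating a two-point stabilizer inclusion by `h`. -/
theorem stab_conj_le {G : Type u} [Group G] {Ω : Type v} [MulAction G Ω] (h : G) (p q w : Ω) :
    (stabilizer G (h • p) ⊓ stabilizer G (h • q) ≤ stabilizer G (h • w)) ↔
      (stabilizer G p ⊓ stabilizer G q ≤ stabilizer G w) := by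
  constructor
  · intro hle x hx
    have hx1 : x • p = p := hx.1
    have hx2 : x • q = q := hx.2
    have h1 : h * x * h⁻¹ ∈ stabilizer G (h • p) ⊓ stabilizer G (h • q) := by
      refine ⟨?_, ?_⟩
      · show (h * x * h⁻¹) • (h • p) = h • p
        rw [mul_smul, mul_smul, inv_smul_smul, hx1]
      · show (h * x * h⁻¹) • (h • q) = h • q
        rw [mul_smul, mul_smul, inv_smul_smul, hx2]
    have h2 : (h * x * h⁻¹) • (h • w) = h • w := hle h1
    rw [mul_smul, mul_smul, inv_smul_smul] at h2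
    show x • w = w
    exact smul_left_cancel h h2
  · intro hle x hx
    have hx1 : x • (h • p) = h • p := hx.1
    have hx2 : x • (h • q) = h • q := hx.2
    have h1 : h⁻¹ * x * h ∈ stabilizer G p ⊓ stabilizer G q := by
      refine ⟨?_, ?_⟩
      · show (h⁻¹ * x * h) • p = p
        rw [mul_smul, mul_smul, hx1, inv_smul_smul]
      · show (h⁻¹ * x * h) • q = q
        rw [mul_smul, mul_smul, hx2, inv_smul_smul]
    have h2 : (h⁻¹ * x * h) • w = w := hle h1
    rw [mul_smul, mul_smul] at h2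
    show x • (h • w) = h • w
    have h3 : h • h⁻¹ • x • h • w = h • w := congrArg (fun y => h • y) h2
    rw [smul_inv_smul] at h3
    exact h3

theorem arcTwo (hFix : FixStmt.{u, v}) : ArcTwoStmt.{u, v} := by
  intro G _ _ Ω _ _ hprim a b h3 hB e
  obtain ⟨h, ha, hb⟩ := (mem_Arcs G e.1).mp e.2
  rw [← hFix hprim a b h3 hB]
  have himg : {z : Ω | (∃ h' : G, h' • a = b ∧ h' • b = z) ∧
      ¬ (stabilizer G a ⊓ stabilizer G b ≤ stabilizer G z)} =
      (fun e' : Arcs G a b => h⁻¹ • e'.1.2) '' {e' : Arcs G a b | Succ G a b e e'} := by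
    ext z
    constructor
    · rintro ⟨⟨h', h'a, h'b⟩, hz⟩
      refine ⟨⟨(h • b, h • z), (mem_Arcs G _).mpr ⟨h * h', ?_, ?_⟩⟩, ⟨?_, ?_⟩, ?_⟩
      · show (h * h') • a = h • b
        rw [mul_smul, h'a]
      · show (h * h') • b = h • z
        rw [mul_smul, h'b]
      · show h • b = e.1.2
        exact hb
      · show ¬ (stabilizer G e.1.1 ⊓ stabilizer G e.1.2 ≤ stabilizer G (h • z))
        rw [← ha, ← hb, stab_conj_le]
        exact hz
      · show h⁻¹ • (h • z) = z
        rw [inv_smul_smul]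
    · rintro ⟨e', ⟨he'1, he'2⟩, rfl⟩
      obtain ⟨h', h'a, h'b⟩ := (mem_Arcs G e'.1).mp e'.2
      refine ⟨⟨h⁻¹ * h', ?_, ?_⟩, ?_⟩
      · rw [mul_smul, h'a, he'1, ← hb, inv_smul_smul]
      · show (h⁻¹ * h') • b = h⁻¹ • e'.1.2
        rw [mul_smul, h'b]
      · show ¬ (stabilizer G a ⊓ stabilizer G b ≤ stabilizer G (h⁻¹ • e'.1.2))
        rw [← stab_conj_le h a b (h⁻¹ • e'.1.2), smul_inv_smul, ha, hb]
        exact he'2
  rw [himg]
  refine (Set.InjOn.ncard_image ?_).symm
  intro e1 he1 e2 he2 h12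
  have h12' : h⁻¹ • e1.1.2 = h⁻¹ • e2.1.2 := h12
  have h2 : e1.1.2 = e2.1.2 := smul_left_cancel _ h12'
  have h1 : e1.1.1 = e2.1.1 := by rw [he1.1, he2.1]
  exact Subtype.ext (Prod.ext h1 h2)

example : FixStmt.{u, v} → Cfsg.Agent.H64.Tt.ArcTwoStmt.{u, v} := arcTwo

end Cfsg.Agent.H11.Tt

#print axioms Cfsg.Agent.H11.Tt.arcTwo
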