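import Mathlib
import Cfsg.Agent.H64.TtDefs
import Cfsg.Agent.H11.TtArcTwo

/-!
# S3385 (helper64's project), piece TT-ARCCONN: the successor digraph on arcs is weakly connected
-/

set_option autoImplicit false

namespace Cfsg.Agent.H11.Tt

open MulAction Cfsg.Agent.H64.Tt

universe u v

theorem arcConn (hLoc : LocStmt.{u, v}) (hConn : ConnStmt.{u, v}) : ArcConnStmt.{u, v} := by
  intro G _ _ Ω _ _ hprim a b h3 hB C hCne hC
  -- `a ≠ b`
  have hab : a ≠ b := by
    intro hab
    subst hab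
    have h1 : orbit (stabilizer G a) a = {a} := by
      ext y
      constructor
      · rintro ⟨s, rfl⟩
        exact s.2
      · intro hy
        rw [Set.mem_singleton_iff] at hy
        rw [hy]
        exact mem_orbit_self a
    rw [h1] at h3
    simp at h3
  -- KEY
  have key : ∀ e ∈ C, ∀ e1 : Arcs G a b, e1.1.1 = e.1.2 → e1 ∈ C := by
    intro e he e1 he1
    obtain ⟨h, ha, hb⟩ := (mem_Arcs G e.1).mp e.2
    obtain ⟨h1, h1a, h1b⟩ := (mem_Arcs G e1.1).mp e1.2
    have hw : h • (h⁻¹ • e1.1.2) = e1.1.2 := smul_inv_smul h _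
    have harc : ∃ h' : G, h' • a = b ∧ h' • b = h⁻¹ • e1.1.2 := by
      refine ⟨h⁻¹ * h1, ?_, ?_⟩
      · rw [mul_smul, h1a, he1, ← hb, inv_smul_smul]
      · rw [mul_smul, h1b]
    by_cases hz : stabilizer G a ⊓ stabilizer G b ≤ stabilizer G (h⁻¹ • e1.1.2)
    · obtain ⟨s, hs, z', ⟨h'', h''a, h''b⟩, hz1, hz2, hz3⟩ :=
        hLoc hprim a b h3 hB (h⁻¹ • e1.1.2) harc hz
      have hsb : s • b = b := hs
      have hmem2 : ((h • b, h • z') : Ω × Ω) ∈ Arcs G a b := by
        refine (mem_Arcs G _).mpr ⟨h * h'', ?_, ?_⟩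
        · show (h * h'') • a = h • b
          rw [mul_smul, h''a]
        · show (h * h'') • b = h • z'
          rw [mul_smul, h''b]
      have hmem3 : ((h • s • a, h • b) : Ω × Ω) ∈ Arcs G a b := by
        refine (mem_Arcs G _).mpr ⟨h * s, ?_, ?_⟩
        · show (h * s) • a = h • s • a
          rw [mul_smul]
        · show (h * s) • b = h • b
          rw [mul_smul, hsb]
      have hS1 : Succ G a b e ⟨(h • b, h • z'), hmem2⟩ := by
        refine ⟨?_, ?_⟩
        · show h • b = e.1.2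
          exact hb
        · show ¬ (stabilizer G e.1.1 ⊓ stabilizer G e.1.2 ≤ stabilizer G (h • z'))
          rw [← ha, ← hb, stab_conj_le]
          exact hz1
      have he2 : (⟨(h • b, h • z'), hmem2⟩ : Arcs G a b) ∈ C := (hC e _ hS1).mp he
      have hS2 : Succ G a b ⟨(h • s • a, h • b), hmem3⟩ ⟨(h • b, h • z'), hmem2⟩ := by
        refine ⟨rfl, ?_⟩
        show ¬ (stabilizer G (h • s • a) ⊓ stabilizer G (h • b) ≤ stabilizer G (h • z'))
        rw [stab_conj_le]
        exact hz2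
      have he3 : (⟨(h • s • a, h • b), hmem3⟩ : Arcs G a b) ∈ C := (hC _ _ hS2).mpr he2
      have hS3 : Succ G a b ⟨(h • s • a, h • b), hmem3⟩ e1 := by
        refine ⟨?_, ?_⟩
        · show e1.1.1 = h • b
          rw [he1, hb]
        · show ¬ (stabilizer G (h • s • a) ⊓ stabilizer G (h • b) ≤ stabilizer G e1.1.2)
          rw [← hw, stab_conj_le]
          exact hz3
      exact (hC _ e1 hS3).mp he3
    · have hS : Succ G a b e e1 := by
        refine ⟨he1, ?_⟩
        rw [← ha, ← hb, ← hw, stab_conj_le]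
        exact hz
      exact (hC e e1 hS).mp he
  -- the set of heads of arcs in `C`
  have hV : {y : Ω | ∃ e ∈ C, e.1.2 = y} = Set.univ := by
    apply hConn hprim a b hab
    · obtain ⟨e, he⟩ := hCne
      exact ⟨e.1.2, e, he, rfl⟩
    · rintro h ⟨e, he, hey⟩
      have hmem : ((h • a, h • b) : Ω × Ω) ∈ Arcs G a b :=
        (mem_Arcs G _).mpr ⟨h, rfl, rfl⟩
      have h1 : (⟨(h • a, h • b), hmem⟩ : Arcs G a b) ∈ C := key e he _ hey.symm
      exact ⟨_, h1, rfl⟩
  apply Set.eq_univ_of_forall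
  intro e1
  have h1 : e1.1.1 ∈ {y : Ω | ∃ e ∈ C, e.1.2 = y} := by
    rw [hV]
    exact Set.mem_univ _
  obtain ⟨e, he, hey⟩ := h1
  exact key e he e1 hey.symm

example : LocStmt.{u, v} → ConnStmt.{u, v} → Cfsg.Agent.H64.Tt.ArcConnStmt.{u, v} := arcConn

end Cfsg.Agent.H11.Tt

#print axioms Cfsg.Agent.H11.Tt.arcConn
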