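import Mathlib

/-!
# S0720-LA10-CHAR (helper11): a finite family of pairwise distinct characters of a unital
multiplicatively closed subspace `C` which is jointly injective on `C` gives
`finrank C = card ι` (Dedekind's independence of characters).
-/

set_option autoImplicit false

namespace Cfsg.Agent.H11.W2P

theorem finrank_eq_card_of_chars {R : Type*} [Ring R] [Algebra ℂ R] {ι : Type*} [Fintype ι]
    (C : Submodule ℂ R) (h1 : (1 : R) ∈ C) (hmul : ∀ A ∈ C, ∀ B ∈ C, A * B ∈ C)
    (χ : ι → R →ₗ[ℂ] ℂ) (hχ1 : ∀ i, χ i 1 = 1)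
    (hχmul : ∀ i, ∀ A ∈ C, ∀ B ∈ C, χ i (A * B) = χ i A * χ i B)
    (hdist : ∀ i j, i ≠ j → ∃ A ∈ C, χ i A ≠ χ j A)
    (hinj : ∀ A ∈ C, (∀ i, χ i A = 0) → A = 0) :
    Module.finrank ℂ ↥C = Fintype.card ι := by
  classical
  let M : Submonoid R :=
    { carrier := C
      mul_mem' := fun ha hb => hmul _ ha _ hb
      one_mem' := h1 }
  let φ : ι → (M →* ℂ) := fun i =>
    { toFun := fun A => χ i (A : R)
      map_one' := hχ1 i
      map_mul' := fun A B => hχmul i _ A.2 _ B.2 }
  have hφ : ∀ (i : ι) (A : M), φ i A = χ i (A : R) := fun i A => rfl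
  have hφinj : Function.Injective φ := by
    intro i j hij
    by_contra hne
    obtain ⟨A, hA, hA'⟩ := hdist i j hne
    exact hA' (DFunLike.congr_fun hij (⟨A, hA⟩ : M))
  have hli : LinearIndependent ℂ (fun i => (φ i : M → ℂ)) :=
    (linearIndependent_monoidHom M ℂ).comp φ hφinj
  let Ψ : ↥C →ₗ[ℂ] (ι → ℂ) := LinearMap.pi (fun i => (χ i).comp C.subtype)
  have hΨ : ∀ (A : C) (i : ι), Ψ A i = χ i (A : R) := fun A i => rfl
  have hΨinj : Function.Injective Ψ := by
    rw [injective_iff_map_eq_zero]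
    intro A hA0
    apply Subtype.ext
    exact hinj _ A.2 (fun i => by rw [← hΨ, hA0]; rfl)
  have hΨsurj : Function.Surjective Ψ := by
    rw [← LinearMap.range_eq_top]
    by_contra hne
    obtain ⟨f, hf0, hfker⟩ :=
      Submodule.exists_le_ker_of_lt_top _ (lt_top_iff_ne_top.mpr hne)
    apply hf0
    have hrel : ∑ i, f (Pi.single i 1) • (fun A : M => φ i A) = 0 := by
      funext A
      have h2 : f (Ψ ⟨(A : R), A.2⟩) = 0 := hfker (LinearMap.mem_range_self Ψ _)
      have h3 : Ψ ⟨(A : R), A.2⟩ = ∑ i, (χ i (A : R)) • (Pi.single i (1 : ℂ) : ι → ℂ) := by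
        funext j
        simp [hΨ, Finset.sum_apply, Pi.single_apply]
      rw [h3, map_sum] at h2
      simp only [map_smul, smul_eq_mul] at h2
      simp only [Finset.sum_apply, Pi.smul_apply, smul_eq_mul, Pi.zero_apply]
      rw [← h2]
      exact Finset.sum_congr rfl (fun i _ => by rw [mul_comm, hφ])
    have hc := Fintype.linearIndependent_iff.mp hli (fun i => f (Pi.single i 1)) hrel
    apply LinearMap.ext
    intro v
    have hv : v = ∑ i, v i • (Pi.single i (1 : ℂ) : ι → ℂ) := by
      funext j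
      simp [Finset.sum_apply, Pi.single_apply]
    rw [hv, map_sum]
    simp [hc]
  have e := LinearEquiv.ofBijective Ψ ⟨hΨinj, hΨsurj⟩
  rw [e.finrank_eq, Module.finrank_fintype_fun_eq_card]

end Cfsg.Agent.H11.W2P

#print axioms Cfsg.Agent.H11.W2P.finrank_eq_card_of_chars
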