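import Mathlib
import Cfsg.Agent.H74.W2PDefs

/-!
# S0720-LA10-E (helper11): `Eset` is (the set of values of) a subgroup of `(ZMod p)ˣ`, and
`index * card = p - 1`.
-/

set_option autoImplicit false
set_option linter.unusedSectionVars false

namespace Cfsg.Agent.H11.W2P

open Cfsg.Agent.H74.W2P Equiv MulAction

variable {Ω : Type*} [Fintype Ω] [DecidableEq Ω]

theorem eset_subgroup {G : Subgroup (Perm Ω)} {p : ℕ} {x : Perm Ω} (hyp : Hyp G p x) (a₀ b₀ : Ω)
    (htr : Transfer x a₀ b₀ p) :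
    ∃ E' : Subgroup (ZMod p)ˣ, (∀ k : (ZMod p)ˣ, k ∈ E' ↔ (k : ZMod p) ∈ Eset G x a₀ b₀ p) ∧
      E'.index * (Eset G x a₀ b₀ p).ncard = p - 1 := by
  classical
  have hp : Fact p.Prime := ⟨hyp.hp⟩
  let E' : Subgroup (ZMod p)ˣ :=
    { carrier := {k | (k : ZMod p) ∈ Eset G x a₀ b₀ p}
      one_mem' := ⟨Units.ne_zero 1, fun A _ => by rw [Units.val_one]⟩
      mul_mem' := by
        intro k k' hk hk'
        refine ⟨Units.ne_zero _, fun A hA => ?_⟩
        have h1 := hk'.2 A hA
        have h2 := htr A _ _ (k : ZMod p) k.ne_zero h1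
        rw [mul_one] at h2
        rw [Units.val_mul, h2]
        exact hk.2 A hA
      inv_mem' := by
        intro k hk
        refine ⟨Units.ne_zero _, fun A hA => ?_⟩
        have h1 := hk.2 A hA
        have h2 := htr A _ _ ((k⁻¹ : (ZMod p)ˣ) : ZMod p) (Units.ne_zero _) h1
        rw [mul_one, ← Units.val_mul, inv_mul_cancel, Units.val_one] at h2
        exact h2.symm }
  refine ⟨E', fun k => Iff.rfl, ?_⟩
  have himg : Eset G x a₀ b₀ p = Units.val '' (E' : Set (ZMod p)ˣ) := by
    ext k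
    constructor
    · intro hk
      exact ⟨Units.mk0 k hk.1, hk, rfl⟩
    · rintro ⟨u, hu, rfl⟩
      exact hu
  have hcard : (Eset G x a₀ b₀ p).ncard = Nat.card E' := by
    rw [himg, Set.ncard_image_of_injective _ (fun a b hab => Units.ext hab)]
    exact (Nat.card_coe_set_eq _).symm
  rw [hcard, mul_comm, Subgroup.card_mul_index, Nat.card_eq_fintype_card, ZMod.card_units]

end Cfsg.Agent.H11.W2P

#print axioms Cfsg.Agent.H11.W2P.eset_subgroup
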