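import Mathlib
import Cfsg.Agent.H74.W2PDefs

/-!
# S0720-LA10-TT (helper11): a transitive group of rank at most 2 is 2-transitive.
-/

set_option autoImplicit false
set_option linter.unusedSectionVars false

namespace Cfsg.Agent.H11.W2P

open Cfsg.Agent.H74.W2P Equiv MulAction

variable {Ω : Type*} [Fintype Ω] [DecidableEq Ω]

theorem two_trans_of_rank_le_two {G : Subgroup (Perm Ω)} (hG : IsPretransitive G Ω) (a₀ : Ω)
    (hr : Nat.card (orbitRel.Quotient (stabilizer G a₀) Ω) ≤ 2) :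
    IsMultiplyPretransitive G Ω 2 := by
  classical
  have hfix : ∀ s : stabilizer G a₀, s • a₀ = a₀ := fun s => s.2
  have hne : ∀ b : Ω, b ≠ a₀ →
      (Quotient.mk'' a₀ : orbitRel.Quotient (stabilizer G a₀) Ω) ≠ Quotient.mk'' b := by
    intro b hb h
    have h4 := Quotient.exact' h
    change a₀ ∈ orbit (stabilizer G a₀) b at h4
    obtain ⟨s, hs⟩ := h4
    apply hb
    have h5 : b = s⁻¹ • a₀ := eq_inv_smul_iff.mpr hs
    rw [h5]
    exact hfix s⁻¹
  have hH : ∀ b c : Ω, b ≠ a₀ → c ≠ a₀ → ∃ s : stabilizer G a₀, s • b = c := by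
    intro b c hb hc
    by_contra hcon
    have h12 : (Quotient.mk'' b : orbitRel.Quotient (stabilizer G a₀) Ω) ≠ Quotient.mk'' c := by
      intro h
      have h4 := Quotient.exact' h
      change b ∈ orbit (stabilizer G a₀) c at h4
      obtain ⟨s, hs⟩ := h4
      exact hcon ⟨s⁻¹, by rw [← hs, inv_smul_smul]⟩
    have hFin : Fintype (orbitRel.Quotient (stabilizer G a₀) Ω) := Fintype.ofFinite _
    have h3 : ({Quotient.mk'' a₀, Quotient.mk'' b, Quotient.mk'' c} :
        Finset (orbitRel.Quotient (stabilizer G a₀) Ω)).card = 3 :=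
      Finset.card_eq_three.mpr ⟨_, _, _, hne b hb, hne c hc, h12, rfl⟩
    have h4 := Finset.card_le_univ ({Quotient.mk'' a₀, Quotient.mk'' b, Quotient.mk'' c} :
        Finset (orbitRel.Quotient (stabilizer G a₀) Ω))
    rw [Nat.card_eq_fintype_card] at hr
    omega
  rw [is_two_pretransitive_iff]
  intro a b c d hab hcd
  obtain ⟨g₁, hg₁⟩ := MulAction.exists_smul_eq G a a₀
  obtain ⟨g₂, hg₂⟩ := MulAction.exists_smul_eq G c a₀
  have h1 : g₁ • b ≠ a₀ := by
    intro h
    apply hab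
    rw [← hg₁] at h
    exact (smul_left_cancel g₁ h).symm
  have h2 : g₂ • d ≠ a₀ := by
    intro h
    apply hcd
    rw [← hg₂] at h
    exact (smul_left_cancel g₂ h).symm
  obtain ⟨s, hs⟩ := hH (g₁ • b) (g₂ • d) h1 h2
  refine ⟨g₂⁻¹ * (s : G) * g₁, ?_, ?_⟩
  · rw [mul_smul, mul_smul, hg₁]
    have h3 : (s : G) • a₀ = a₀ := s.2
    rw [h3, ← hg₂, inv_smul_smul]
  · rw [mul_smul, mul_smul]
    have h3 : (s : G) • (g₁ • b) = g₂ • d := hs
    rw [h3, inv_smul_smul]

end Cfsg.Agent.H11.W2P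

#print axioms Cfsg.Agent.H11.W2P.two_trans_of_rank_le_two
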