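import Mathlib
import Cfsg.Agent.H74.W2PDefs
import Cfsg.Agent.H31.W2PWD
import Cfsg.Agent.H73.W2PCyc
import Cfsg.Agent.H67.W2PLA10DEC
import Cfsg.Agent.H11.W2PLA10CHAR
import Cfsg.Agent.H11.W2PLA10E
import Cfsg.Agent.H11.W2PLA10TT
import Cfsg.Agent.H61.W2PLA10GAL

/-!
# S0720-LA10 (helper11, for helper74): the rank of the centralizer algebra is `t + 2`.
-/

set_option autoImplicit false
set_option linter.unusedSectionVars false

namespace Cfsg.Agent.H11.W2P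

open Cfsg.Agent.H74.W2P Equiv MulAction

variable {Ω : Type*} [Fintype Ω] [DecidableEq Ω]

/-- the character `n` -/
noncomputable def nL (a₀ : Ω) : Matrix Ω Ω ℂ →ₗ[ℂ] ℂ where
  toFun A := ∑ j, A a₀ j
  map_add' A B := by simp [Finset.sum_add_distrib]
  map_smul' c A := by simp [Finset.mul_sum]

/-- the character `a` -/
noncomputable def aL (x : Perm Ω) (a₀ : Ω) : Matrix Ω Ω ℂ →ₗ[ℂ] ℂ where
  toFun A := ∑ j, A a₀ j * sig x a₀ j
  map_add' A B := by simp [add_mul, Finset.sum_add_distrib]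
  map_smul' c A := by simp [Finset.mul_sum, mul_assoc]

/-- the characters `wch · h` -/
noncomputable def wL (x : Perm Ω) (a₀ b₀ : Ω) (p : ℕ) (h : ZMod p) : Matrix Ω Ω ℂ →ₗ[ℂ] ℂ where
  toFun A := wch x a₀ b₀ p A h
  map_add' A B := by
    simp only [wch, Matrix.add_apply, add_mul, Finset.sum_add_distrib]
    ring
  map_smul' c A := by
    simp only [wch, Matrix.smul_apply, smul_eq_mul, RingHom.id_apply, mul_sub, Finset.mul_sum]
    congr 1 <;> refine Finset.sum_congr rfl (fun _ _ => by ring)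

theorem nL_apply (a₀ : Ω) (A : Matrix Ω Ω ℂ) : nL a₀ A = ∑ j, A a₀ j := rfl

theorem aL_apply (x : Perm Ω) (a₀ : Ω) (A : Matrix Ω Ω ℂ) :
    aL x a₀ A = ∑ j, A a₀ j * sig x a₀ j := rfl

theorem wL_apply (x : Perm Ω) (a₀ b₀ : Ω) (p : ℕ) (h : ZMod p) (A : Matrix Ω Ω ℂ) :
    wL x a₀ b₀ p h A = wch x a₀ b₀ p A h := rfl

theorem centC_one (G : Subgroup (Perm Ω)) : CentC G (1 : Matrix Ω Ω ℂ) := by
  intro g _ i j
  simp [Matrix.one_apply]

theorem centC_mul {G : Subgroup (Perm Ω)} {A B : Matrix Ω Ω ℂ} (hA : CentC G A)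
    (hB : CentC G B) : CentC G (A * B) := by
  intro g hg i j
  simp only [Matrix.mul_apply]
  rw [← Equiv.sum_comp g]
  exact Finset.sum_congr rfl (fun k _ => by rw [hA g hg, hB g hg])

theorem centC_of_cent {G : Subgroup (Perm Ω)} {B : Matrix Ω Ω ℤ} (hB : Cent G B) :
    CentC G (B.map (Int.cast : ℤ → ℂ)) := by
  intro g hg i j
  simp only [Matrix.map_apply, hB g hg i j]

/-- the all-ones matrix -/
def Jm (Ω : Type*) : Matrix Ω Ω ℂ := fun _ _ => 1

theorem centC_J (G : Subgroup (Perm Ω)) : CentC G (Jm Ω) := by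
  intro g _ i j
  rfl

theorem sig_self (x : Perm Ω) (a₀ : Ω) : sig x a₀ a₀ = 1 := by
  rw [sig, if_pos (Equiv.Perm.SameCycle.refl x a₀)]

theorem sig_mem_U0 (G : Subgroup (Perm Ω)) (x : Perm Ω) (a₀ : Ω) :
    (fun ω => sig x a₀ ω) ∈ U0 G x a₀ :=
  Submodule.subset_span ⟨1, G.one_mem, rfl⟩

/-- row sums of a centralizer matrix are constant -/
theorem row_sum {G : Subgroup (Perm Ω)} (hG : IsPretransitive G Ω) (a₀ : Ω) {A : Matrix Ω Ω ℂ}
    (hA : CentC G A) (i : Ω) : ∑ j, A i j = ∑ j, A a₀ j := by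
  obtain ⟨g, hg⟩ := MulAction.exists_smul_eq G a₀ i
  have h1 : ((g : Perm Ω)) a₀ = i := hg
  rw [← h1, ← Equiv.sum_comp (g : Perm Ω)]
  exact Finset.sum_congr rfl (fun j _ => hA _ g.2 a₀ j)

theorem nL_mul {G : Subgroup (Perm Ω)} (hG : IsPretransitive G Ω) (a₀ : Ω) {A B : Matrix Ω Ω ℂ}
    (hB : CentC G B) : nL a₀ (A * B) = nL a₀ A * nL a₀ B := by
  simp only [nL_apply, Matrix.mul_apply]
  rw [Finset.sum_comm, Finset.sum_mul]
  refine Finset.sum_congr rfl (fun k _ => ?_)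
  rw [← Finset.mul_sum, row_sum hG a₀ hB k]

theorem mulVec_apply' (A : Matrix Ω Ω ℂ) (f : Ω → ℂ) (i : Ω) :
    A.mulVec f i = ∑ j, A i j * f j := rfl

theorem aL_mul {G : Subgroup (Perm Ω)} {p : ℕ} {x : Perm Ω} {a₀ b₀ : Ω}
    (core : Core G p x a₀ b₀) {A B : Matrix Ω Ω ℂ} (hA : CentC G A) (hB : CentC G B) :
    aL x a₀ (A * B) = aL x a₀ A * aL x a₀ B := by
  have hσ := sig_mem_U0 G x a₀
  have h1 := core.scalU (A * B) (centC_mul hA hB) _ hσ
  have h2 := core.scalU A hA _ hσ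
  have h3 := core.scalU B hB _ hσ
  rw [← Matrix.mulVec_mulVec, h3, Matrix.mulVec_smul, h2] at h1
  have h4 := congrFun h1 a₀
  simp only [Pi.smul_apply, smul_eq_mul, sig_self, mul_one] at h4
  simp only [aL_apply]
  rw [← h4]
  ring

theorem exists_ne_zero_line {G : Subgroup (Perm Ω)} {p : ℕ} {x : Perm Ω} {a₀ b₀ : Ω}
    (core : Core G p x a₀ b₀) {h : ZMod p} (hh : h ≠ 0) :
    ∃ f : Ω → ℂ, f ∈ Uperp G x a₀ ⊓ Vh x p h ∧ f ≠ 0 := by
  have h1 := core.dimW h hh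
  have h2 : 0 < Module.finrank ℂ ↥(Uperp G x a₀ ⊓ Vh x p h) := by omega
  obtain ⟨f, hf⟩ := Module.finrank_pos_iff_exists_ne_zero.mp h2
  exact ⟨f, f.2, fun h0 => hf (Subtype.ext h0)⟩

theorem wL_mul {G : Subgroup (Perm Ω)} {p : ℕ} {x : Perm Ω} {a₀ b₀ : Ω}
    (core : Core G p x a₀ b₀) {h : ZMod p} (hh : h ≠ 0) {A B : Matrix Ω Ω ℂ} (hA : CentC G A)
    (hB : CentC G B) : wL x a₀ b₀ p h (A * B) = wL x a₀ b₀ p h A * wL x a₀ b₀ p h B := by
  obtain ⟨f, hf, hf0⟩ := exists_ne_zero_line core hh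
  have h1 := core.scalW (A * B) (centC_mul hA hB) h hh f hf
  have h2 := core.scalW A hA h hh f hf
  have h3 := core.scalW B hB h hh f hf
  rw [← Matrix.mulVec_mulVec, h3, Matrix.mulVec_smul, h2, smul_smul] at h1
  have h4 := smul_left_injective ℂ hf0 h1
  simp only [wL_apply]
  rw [← h4]
  ring

theorem wL_one {G : Subgroup (Perm Ω)} {p : ℕ} {x : Perm Ω} {a₀ b₀ : Ω}
    (core : Core G p x a₀ b₀) {h : ZMod p} (hh : h ≠ 0) : wL x a₀ b₀ p h 1 = 1 := by
  obtain ⟨f, hf, hf0⟩ := exists_ne_zero_line core hh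
  have h1 := core.scalW 1 (centC_one G) h hh f hf
  rw [Matrix.one_mulVec] at h1
  have h2 : (1 : ℂ) • f = wch x a₀ b₀ p 1 h • f := by rw [one_smul]; exact h1
  exact (smul_left_injective ℂ hf0 h2).symm

theorem nL_one (a₀ : Ω) : nL a₀ (1 : Matrix Ω Ω ℂ) = 1 := by
  simp [nL_apply, Matrix.one_apply]

theorem aL_one (x : Perm Ω) (a₀ : Ω) : aL x a₀ (1 : Matrix Ω Ω ℂ) = 1 := by
  simp [aL_apply, Matrix.one_apply, sig_self]

theorem nL_J {G : Subgroup (Perm Ω)} {p : ℕ} {x : Perm Ω} (hyp : Hyp G p x) (a₀ : Ω) :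
    nL a₀ (Jm Ω) ≠ 0 := by
  have h1 : nL a₀ (Jm Ω) = (Fintype.card Ω : ℂ) := by
    simp [nL_apply, Jm]
  rw [h1, hyp.hcard]
  have := hyp.hp.pos
  exact_mod_cast (by omega : 2 * p ≠ 0)

theorem aL_J {G : Subgroup (Perm Ω)} {p : ℕ} {x : Perm Ω} (hyp : Hyp G p x) (a₀ : Ω) :
    aL x a₀ (Jm Ω) = 0 := by
  have h1 := Cfsg.Agent.H73.W2P.sum_sig hyp a₀
  simpa [aL_apply, Jm] using h1

theorem wL_J {G : Subgroup (Perm Ω)} {p : ℕ} {x : Perm Ω} (hyp : Hyp G p x) {a₀ b₀ : Ω}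
    (core : Core G p x a₀ b₀) {h : ZMod p} (hh : h ≠ 0) :
    wL x a₀ b₀ p h (Jm Ω) = 0 := by
  obtain ⟨f, hf, hf0⟩ := exists_ne_zero_line core hh
  have h1 := core.scalW _ (centC_J G) h hh f hf
  have h2 : (Jm Ω).mulVec f = 0 := by
    funext i
    rw [mulVec_apply']
    simp only [Jm, one_mul, Pi.zero_apply]
    exact Cfsg.Agent.H31.W2P.sum_eq_zero_of_mem_Vh x hyp.hp hh hf.2
  rw [h2] at h1
  rcases smul_eq_zero.mp h1.symm with h3 | h3
  · exact h3
  · exact absurd h3 hf0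

/-- injectivity of the family of characters -/
theorem inj_chars {G : Subgroup (Perm Ω)} {p : ℕ} {x : Perm Ω} (hyp : Hyp G p x) {a₀ b₀ : Ω}
    (core : Core G p x a₀ b₀) {A : Matrix Ω Ω ℂ} (hA : CentC G A) (hn : nL a₀ A = 0)
    (ha : aL x a₀ A = 0) (hw : ∀ h : ZMod p, h ≠ 0 → wch x a₀ b₀ p A h = 0) : A = 0 := by
  have hG : IsPretransitive G Ω := hyp.hprim.toIsPretransitive
  have hdec := Cfsg.Agent.H67.W2P.decomp hyp a₀ core.dimU core.dimW
  have hK : (⊤ : Submodule ℂ (Ω → ℂ)) ≤ LinearMap.ker (Matrix.mulVecLin A) := by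
    rw [← hdec]
    refine sup_le (sup_le ?_ ?_) ?_
    · rw [Submodule.span_le]
      rintro f hf
      rw [Set.mem_singleton_iff] at hf
      subst hf
      rw [SetLike.mem_coe, LinearMap.mem_ker, Matrix.mulVecLin_apply]
      funext i
      rw [mulVec_apply']
      simp only [mul_one, Pi.zero_apply]
      rw [row_sum hG a₀ hA i]
      exact hn
    · intro f hf
      rw [LinearMap.mem_ker, Matrix.mulVecLin_apply, core.scalU A hA f hf]
      have ha' : ∑ j, A a₀ j * sig x a₀ j = 0 := ha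
      rw [ha', zero_smul]
    · refine iSup₂_le (fun h hh => ?_)
      intro f hf
      rw [LinearMap.mem_ker, Matrix.mulVecLin_apply, core.scalW A hA h hh f hf, hw h hh,
        zero_smul]
  ext i j
  have h1 : Pi.single j (1 : ℂ) ∈ LinearMap.ker (Matrix.mulVecLin A) := hK Submodule.mem_top
  rw [LinearMap.mem_ker, Matrix.mulVecLin_apply] at h1
  have h2 := congrFun h1 i
  rw [mulVec_apply'] at h2
  simpa [Pi.single_apply] using h2

/-- extension from integer matrices -/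
theorem wch_ext {G : Subgroup (Perm Ω)} {p : ℕ} {x : Perm Ω} (a₀ b₀ : Ω) (hspan : SpanInt G)
    (h h' : ZMod p)
    (hB : ∀ B : Matrix Ω Ω ℤ, Cent G B → wch x a₀ b₀ p (B.map (Int.cast : ℤ → ℂ)) h =
      wch x a₀ b₀ p (B.map (Int.cast : ℤ → ℂ)) h') :
    ∀ A : Matrix Ω Ω ℂ, CentC G A → wch x a₀ b₀ p A h = wch x a₀ b₀ p A h' := by
  intro A hA
  have hA' : A ∈ Submodule.span ℂ
      {A | ∃ B : Matrix Ω Ω ℤ, Cent G B ∧ A = B.map (Int.cast : ℤ → ℂ)} := by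
    have h1 : A ∈ centSub G := hA
    rw [hspan] at h1
    exact h1
  have key : wL x a₀ b₀ p h A = wL x a₀ b₀ p h' A := by
    refine Submodule.span_induction ?_ ?_ ?_ ?_ hA'
    · rintro _ ⟨B, hB', rfl⟩
      exact hB B hB'
    · rw [map_zero, map_zero]
    · intro u v _ _ hu hv
      rw [map_add, map_add, hu, hv]
    · intro c u _ hu
      rw [map_smul, map_smul, hu]
  exact key

theorem rank_eq {G : Subgroup (Perm Ω)} {p : ℕ} {x : Perm Ω} (hyp : Hyp G p x) (a₀ b₀ : Ω)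
    (hb₀ : ¬ x.SameCycle a₀ b₀) (core : Core G p x a₀ b₀) (htr : Transfer x a₀ b₀ p)
    (hspan : SpanInt G)
    (hfr : Module.finrank ℂ ↥(centSub G) = Nat.card (orbitRel.Quotient (stabilizer G a₀) Ω)) :
    ∃ t : ℕ, 1 ≤ t ∧ t * (Eset G x a₀ b₀ p).ncard = p - 1 ∧
      Nat.card (orbitRel.Quotient (stabilizer G a₀) Ω) = t + 2 := by
  classical
  have hp : Fact p.Prime := ⟨hyp.hp⟩
  have hG : IsPretransitive G Ω := hyp.hprim.toIsPretransitive
  obtain ⟨E', hE', hidx⟩ := eset_subgroup hyp a₀ b₀ htr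
  have hFin : Fintype ((ZMod p)ˣ ⧸ E') := Fintype.ofFinite _
  -- equality of the characters `wch · u` and `wch · u'` for units in the same coset
  have hcos : ∀ u u' : (ZMod p)ˣ, u⁻¹ * u' ∈ E' → ∀ A : Matrix Ω Ω ℂ, CentC G A →
      wch x a₀ b₀ p A (u : ZMod p) = wch x a₀ b₀ p A (u' : ZMod p) := by
    intro u u' huu
    apply wch_ext a₀ b₀ hspan
    intro B hB
    have h1 := ((hE' _).mp huu).2 B hB
    have h2 := htr B _ _ (u : ZMod p) u.ne_zero h1
    rw [mul_one] at h2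
    rw [← h2]
    congr 1
    push_cast
    rw [← mul_assoc, mul_inv_cancel₀ (Units.ne_zero u), one_mul]
  have hcos' : ∀ u u' : (ZMod p)ˣ, (∀ A : Matrix Ω Ω ℂ, CentC G A →
      wch x a₀ b₀ p A (u : ZMod p) = wch x a₀ b₀ p A (u' : ZMod p)) → u⁻¹ * u' ∈ E' := by
    intro u u' h
    rw [hE']
    refine ⟨Units.ne_zero _, fun B hB => ?_⟩
    have h1 := h _ (centC_of_cent hB)
    have h2 := htr B _ _ ((u⁻¹ : (ZMod p)ˣ) : ZMod p) (Units.ne_zero _) h1
    rw [← Units.val_mul, ← Units.val_mul, inv_mul_cancel, Units.val_one] at h2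
    exact h2.symm
  let χ : Option (Option ((ZMod p)ˣ ⧸ E')) → Matrix Ω Ω ℂ →ₗ[ℂ] ℂ := fun i =>
    match i with
    | none => nL a₀
    | some none => aL x a₀
    | some (some q) => wL x a₀ b₀ p ((q.out : (ZMod p)ˣ) : ZMod p)
  have hχ1 : ∀ i, χ i 1 = 1 := by
    rintro (_ | _ | q)
    · exact nL_one a₀
    · exact aL_one x a₀
    · exact wL_one core (Units.ne_zero _)
  have hχmul : ∀ i, ∀ A ∈ centSub G, ∀ B ∈ centSub G, χ i (A * B) = χ i A * χ i B := by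
    rintro (_ | _ | q) A hA B hB
    · exact nL_mul hG a₀ hB
    · exact aL_mul core hA hB
    · exact wL_mul core (Units.ne_zero _) hA hB
  have hinj : ∀ A ∈ centSub G, (∀ i, χ i A = 0) → A = 0 := by
    intro A hA h0
    refine inj_chars hyp core hA (h0 none) (h0 (some none)) (fun h hh => ?_)
    obtain ⟨u, rfl⟩ : ∃ u : (ZMod p)ˣ, (u : ZMod p) = h := ⟨Units.mk0 h hh, rfl⟩
    have h1 := h0 (some (some (QuotientGroup.mk u)))
    have h2 : ((QuotientGroup.mk u : (ZMod p)ˣ ⧸ E').out)⁻¹ * u ∈ E' := by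
      rw [← QuotientGroup.eq]
      exact QuotientGroup.out_eq' _
    rw [← hcos _ _ h2 A hA]
    exact h1
  -- `a` differs from all `wch · h`
  have hd4 : ∀ h : ZMod p, h ≠ 0 → ∃ A ∈ centSub G, aL x a₀ A ≠ wL x a₀ b₀ p h A := by
    intro h₀ hh₀
    by_contra hcon
    push Not at hcon
    have heq : ∀ A : Matrix Ω Ω ℂ, CentC G A →
        wch x a₀ b₀ p A h₀ = ∑ j, A a₀ j * sig x a₀ j := fun A hA => (hcon A hA).symm
    have hall := Cfsg.Agent.H61.W2P.a_eq_wch_all hyp a₀ b₀ hb₀ htr hspan h₀ hh₀ heq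
    -- the centralizer algebra has dimension at most 2
    let Ψ : ↥(centSub G) →ₗ[ℂ] ℂ × ℂ := ((nL a₀).prod (aL x a₀)).comp (centSub G).subtype
    have hΨ : Function.Injective Ψ := by
      rw [injective_iff_map_eq_zero]
      intro A hA0
      have h1 : nL a₀ (A : Matrix Ω Ω ℂ) = 0 := congrArg Prod.fst hA0
      have h2 : aL x a₀ (A : Matrix Ω Ω ℂ) = 0 := congrArg Prod.snd hA0
      apply Subtype.ext
      refine inj_chars hyp core A.2 h1 h2 (fun h hh => ?_)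
      rw [hall _ A.2 h hh]
      exact h2
    have h3 := LinearMap.finrank_le_finrank_of_injective hΨ
    rw [Module.finrank_prod, Module.finrank_self, hfr] at h3
    exact hyp.hnot2 (two_trans_of_rank_le_two hG a₀ h3)
  have hdist : ∀ i j, i ≠ j → ∃ A ∈ centSub G, χ i A ≠ χ j A := by
    have hJ : (Jm Ω) ∈ centSub G := centC_J G
    have c1 : ∃ A ∈ centSub G, nL a₀ A ≠ aL x a₀ A :=
      ⟨_, hJ, by rw [aL_J hyp a₀]; exact nL_J hyp a₀⟩
    have c2 : ∀ h : ZMod p, h ≠ 0 → ∃ A ∈ centSub G, nL a₀ A ≠ wL x a₀ b₀ p h A :=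
      fun h hh => ⟨_, hJ, by rw [wL_J hyp core hh]; exact nL_J hyp a₀⟩
    have c3 : ∀ q q' : (ZMod p)ˣ ⧸ E', q ≠ q' → ∃ A ∈ centSub G,
        wL x a₀ b₀ p ((q.out : (ZMod p)ˣ) : ZMod p) A ≠
          wL x a₀ b₀ p ((q'.out : (ZMod p)ˣ) : ZMod p) A := by
      intro q q' hqq
      by_contra hcon
      push Not at hcon
      apply hqq
      have h1 := hcos' q.out q'.out (fun A hA => hcon A hA)
      rw [← QuotientGroup.eq, QuotientGroup.out_eq', QuotientGroup.out_eq'] at h1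
      exact h1
    have symm : ∀ {f f' : Matrix Ω Ω ℂ →ₗ[ℂ] ℂ}, (∃ A ∈ centSub G, f A ≠ f' A) →
        ∃ A ∈ centSub G, f' A ≠ f A := fun ⟨A, hA, h⟩ => ⟨A, hA, h.symm⟩
    rintro (_ | _ | q) (_ | _ | q') hij
    · exact absurd rfl hij
    · exact c1
    · exact c2 _ (Units.ne_zero _)
    · exact symm c1
    · exact absurd rfl hij
    · exact hd4 _ (Units.ne_zero _)
    · exact symm (c2 _ (Units.ne_zero _))
    · exact symm (hd4 _ (Units.ne_zero _))
    · exact c3 q q' (fun h => hij (by rw [h]))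
  have key := finrank_eq_card_of_chars (centSub G) (centC_one G)
    (fun A hA B hB => centC_mul hA hB) χ hχ1 hχmul hdist hinj
  refine ⟨E'.index, Nat.one_le_iff_ne_zero.mpr Subgroup.index_ne_zero_of_finite, hidx, ?_⟩
  rw [← hfr, key, Fintype.card_option, Fintype.card_option, Subgroup.index_eq_card,
    Nat.card_eq_fintype_card]

end Cfsg.Agent.H11.W2P

section Check
open Cfsg.Agent.H74.W2P Equiv MulAction
variable {Ω : Type*} [Fintype Ω] [DecidableEq Ω]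
example {G : Subgroup (Perm Ω)} {p : ℕ} {x : Perm Ω} (hyp : Hyp G p x) (a₀ b₀ : Ω)
    (hb₀ : ¬ x.SameCycle a₀ b₀) (core : Core G p x a₀ b₀) (htr : Transfer x a₀ b₀ p)
    (hspan : SpanInt G)
    (hfr : Module.finrank ℂ ↥(centSub G) = Nat.card (orbitRel.Quotient (stabilizer G a₀) Ω)) :
    ∃ t : ℕ, 1 ≤ t ∧ t * (Eset G x a₀ b₀ p).ncard = p - 1 ∧
      Nat.card (orbitRel.Quotient (stabilizer G a₀) Ω) = t + 2 :=
  Cfsg.Agent.H11.W2P.rank_eq hyp a₀ b₀ hb₀ core htr hspan hfr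
end Check

#print axioms Cfsg.Agent.H11.W2P.rank_eq
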